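import Mathlib
import Cfsg.Agent.SymSylow.Generated

/-!
Groups in which every square lies in the derived subgroup, and monomial (wreath-like) subgroups.
-/

set_option autoImplicit false

namespace CfsgLib.SymSylow.SqDer

open scoped commutatorElement

variable {G : Type*} [Group G]

/-- Squares of elements of `P` lie in `[P, P]`. -/
def SqDer (P : Subgroup G) : Prop := ∀ g ∈ P, g ^ 2 ∈ ⁅P, P⁆

theorem SqDer.commutator {P : Subgroup G} (h : SqDer P) :
    ∀ x : P, x ^ 2 ∈ commutator P := by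
  intro x
  have hx := h x x.2
  rw [← Subgroup.map_subtype_commutator] at hx
  obtain ⟨y, hy, hyx⟩ := hx
  have : y = x ^ 2 := Subtype.ext (by simpa using hyx)
  exact this ▸ hy

theorem sqDer_of_closure {P : Subgroup G} {S : Set G} (hS : S ⊆ P)
    (hgen : P ≤ Subgroup.closure S) (hsq : ∀ s ∈ S, s ^ 2 ∈ ⁅P, P⁆) : SqDer P := by
  let f : P →* Abelianization P := (powMonoidHom 2).comp Abelianization.of
  have hker : ∀ x : P, x ∈ f.ker ↔ x ^ 2 ∈ _root_.commutator P := fun x => by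
    rw [MonoidHom.mem_ker, ← Abelianization.ker_of, MonoidHom.mem_ker, map_pow]
    rfl
  have hle : P ≤ (f.ker).map P.subtype := by
    refine hgen.trans ((Subgroup.closure_le _).2 fun s hs => ?_)
    refine ⟨⟨s, hS hs⟩, (hker _).2 ?_, rfl⟩
    have hx := hsq s hs
    rw [← Subgroup.map_subtype_commutator] at hx
    obtain ⟨y, hy, hys⟩ := hx
    have : y = (⟨s, hS hs⟩ : P) ^ 2 := Subtype.ext (by simpa using hys)
    exact this ▸ hy
  intro g hg
  obtain ⟨x, hx, rfl⟩ := hle hg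
  rw [← Subgroup.map_subtype_commutator]
  exact ⟨x ^ 2, (hker x).1 hx, map_pow _ x 2⟩

theorem SqDer.map {H : Type*} [Group H] {P : Subgroup G} (h : SqDer P) (f : G →* H) :
    SqDer (P.map f) := by
  rintro _ ⟨g, hg, rfl⟩
  rw [← Subgroup.map_commutator, ← map_pow]
  exact Subgroup.mem_map_of_mem f (h g hg)

theorem SqDer.sylow [Finite G] {p : ℕ} [Fact p.Prime] (P₀ P : Sylow p G)
    (h : SqDer (P₀ : Subgroup G)) : SqDer (P : Subgroup G) := by
  obtain ⟨c, rfl⟩ := MulAction.exists_smul_eq G P₀ P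
  rw [Sylow.coe_subgroup_smul, Subgroup.pointwise_smul_def]
  exact h.map _

/-- A subgroup of `2`-power order with the full `2`-part of the order is a Sylow subgroup, so the
property passes to every Sylow `2`-subgroup. -/
theorem sqDer_sylow_two [Finite G] (H : Subgroup G)
    (hcard : Nat.card H = 2 ^ (Nat.card G).factorization 2) (h : SqDer H) (P : Sylow 2 G) :
    ∀ x : (P : Subgroup G), x ^ 2 ∈ _root_.commutator (P : Subgroup G) :=
  haveI : Fact (Nat.Prime 2) := ⟨Nat.prime_two⟩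
  (SqDer.sylow (Sylow.ofCard H hcard) P (by exact h)).commutator

theorem quaternion_sq {k : ℕ} (hk : 1 ≤ k) (w : QuaternionGroup (2 ^ k)) :
    ∃ u v : QuaternionGroup (2 ^ k), w ^ 2 = ⁅u, v⁆ := by
  have key : ∀ j : ZMod (2 * 2 ^ k), ⁅QuaternionGroup.a j, QuaternionGroup.xa (0 : ZMod (2 * 2 ^ k))⁆ =
      QuaternionGroup.a (j + j) := by
    intro j
    have hn : ((2 ^ k : ℕ) : ZMod (2 * 2 ^ k)) + ((2 ^ k : ℕ) : ZMod (2 * 2 ^ k)) = 0 := by
      rw [← Nat.cast_add, ← two_mul]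
      exact ZMod.natCast_self _
    rw [commutatorElement_def]
    simp only [QuaternionGroup.a_mul_xa, QuaternionGroup.xa_mul_a, QuaternionGroup.xa_mul_xa,
      show (QuaternionGroup.a j : QuaternionGroup (2 ^ k))⁻¹ = QuaternionGroup.a (-j) from rfl,
      show (QuaternionGroup.xa (0 : ZMod (2 * 2 ^ k)) : QuaternionGroup (2 ^ k))⁻¹ =
        QuaternionGroup.xa (((2 ^ k : ℕ) : ZMod (2 * 2 ^ k)) + 0) from rfl]
    congr 1
    linear_combination hn
  obtain ⟨k', rfl⟩ : ∃ k', k = k' + 1 := ⟨k - 1, by omega⟩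
  cases w with
  | a i => exact ⟨_, _, by rw [key i, sq, QuaternionGroup.a_mul_a]⟩
  | xa i =>
    refine ⟨QuaternionGroup.a ((2 ^ k' : ℕ) : ZMod (2 * 2 ^ (k' + 1))), QuaternionGroup.xa 0, ?_⟩
    rw [key, sq, QuaternionGroup.xa_mul_xa]
    congr 1
    push_cast
    ring

theorem sq_mem_commutator_of_quaternion {W : Subgroup G} {k : ℕ} (hk : 1 ≤ k)
    (e : W ≃* QuaternionGroup (2 ^ k)) {w : G} (hw : w ∈ W) :
    ∃ u ∈ W, ∃ v ∈ W, w ^ 2 = ⁅u, v⁆ := by
  obtain ⟨u, v, huv⟩ := quaternion_sq hk (e ⟨w, hw⟩)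
  refine ⟨(e.symm u : G), (e.symm u).2, (e.symm v : G), (e.symm v).2, ?_⟩
  have := congrArg (fun x => ((e.symm x : W) : G)) huv
  simpa [commutatorElement_def] using this

section Monomial

variable {ι : Type*} {A : Type*} [Group A] (φ : (ι → A) →* G) (ψ : Equiv.Perm ι →* G)

/-- Relation between base and top group of a monomial group. -/
def Compat : Prop := ∀ σ a, ψ σ * φ a = φ (fun i => a (σ.symm i)) * ψ σ

/-- A subgroup of the base is stable under a group of permutations. -/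
def Stable (D : Subgroup (ι → A)) (C : Subgroup (Equiv.Perm ι)) : Prop :=
  ∀ σ ∈ C, ∀ a ∈ D, (fun i => a (σ.symm i)) ∈ D

/-- The monomial subgroup `φ(D) ψ(C)`. -/
def monoSub (hc : Compat φ ψ) {D : Subgroup (ι → A)} {C : Subgroup (Equiv.Perm ι)}
    (hst : Stable D C) : Subgroup G where
  carrier := {g | ∃ a ∈ D, ∃ σ ∈ C, g = φ a * ψ σ}
  one_mem' := ⟨1, D.one_mem, 1, C.one_mem, by simp⟩
  mul_mem' := by
    rintro _ _ ⟨a, ha, σ, hσ, rfl⟩ ⟨b, hb, τ, hτ, rfl⟩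
    refine ⟨a * fun i => b (σ.symm i), D.mul_mem ha (hst σ hσ b hb), σ * τ, C.mul_mem hσ hτ, ?_⟩
    rw [map_mul, map_mul, mul_assoc, ← mul_assoc (ψ σ), hc]
    simp [mul_assoc]
  inv_mem' := by
    rintro _ ⟨a, ha, σ, hσ, rfl⟩
    refine ⟨fun i => a⁻¹ (σ⁻¹.symm i), hst _ (C.inv_mem hσ) _ (D.inv_mem ha), σ⁻¹, C.inv_mem hσ, ?_⟩
    rw [mul_inv_rev, ← map_inv, ← map_inv, hc]

variable {φ ψ} (hc : Compat φ ψ) {D : Subgroup (ι → A)} {C : Subgroup (Equiv.Perm ι)}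
  (hst : Stable D C)

theorem base_mem {a : ι → A} (ha : a ∈ D) : φ a ∈ monoSub φ ψ hc hst :=
  ⟨a, ha, 1, C.one_mem, by simp⟩

theorem top_mem {σ : Equiv.Perm ι} (hσ : σ ∈ C) : ψ σ ∈ monoSub φ ψ hc hst :=
  ⟨1, D.one_mem, σ, hσ, by simp⟩

theorem card_monoSub [Finite ι] [Finite A]
    (hinj : ∀ a σ, φ a * ψ σ = 1 → a = 1 ∧ σ = 1) :
    Nat.card (monoSub φ ψ hc hst) = Nat.card D * Nat.card C := by
  rw [← Nat.card_prod]
  refine (Nat.card_eq_of_bijective (fun x : D × C => (⟨φ x.1 * ψ x.2, x.1, x.1.2, x.2, x.2.2, rfl⟩ :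
    monoSub φ ψ hc hst)) ⟨?_, ?_⟩).symm
  · rintro ⟨a, σ⟩ ⟨b, τ⟩ h
    have h' : φ (a : ι → A) * ψ (σ : Equiv.Perm ι) = φ b * ψ τ := congrArg Subtype.val h
    have h1 : φ ((b : ι → A)⁻¹ * a) * ψ ((σ : Equiv.Perm ι) * (τ : Equiv.Perm ι)⁻¹) = 1 := by
      rw [map_mul, map_mul, map_inv, map_inv, mul_assoc, ← mul_assoc (φ (a : ι → A)), h']
      simp
    obtain ⟨e1, e2⟩ := hinj _ _ h1
    exact Prod.ext (Subtype.ext (inv_mul_eq_one.1 e1).symm) (Subtype.ext (mul_inv_eq_one.1 e2))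
  · rintro ⟨g, a, ha, σ, hσ, rfl⟩
    exact ⟨(⟨a, ha⟩, ⟨σ, hσ⟩), rfl⟩

theorem sqDer_monoSub (S : Set (ι → A)) (hS : S ⊆ D) (hD : D ≤ Subgroup.closure S)
    (hsq : ∀ s ∈ S, φ (s ^ 2) ∈ ⁅monoSub φ ψ hc hst, monoSub φ ψ hc hst⁆)
    (hC : C ≤ Subgroup.closure {σ | σ ∈ C ∧ σ ^ 2 = 1}) :
    SqDer (monoSub φ ψ hc hst) := by
  refine sqDer_of_closure (S := φ '' S ∪ ψ '' {σ | σ ∈ C ∧ σ ^ 2 = 1}) ?_ ?_ ?_
  · rintro _ (⟨a, ha, rfl⟩ | ⟨σ, hσ, rfl⟩)
    · exact base_mem hc hst (hS ha)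
    · exact top_mem hc hst hσ.1
  · rintro _ ⟨a, ha, σ, hσ, rfl⟩
    rw [Subgroup.closure_union, ← MonoidHom.map_closure, ← MonoidHom.map_closure]
    exact mul_mem (Subgroup.mem_sup_left (Subgroup.mem_map_of_mem _ (hD ha)))
      (Subgroup.mem_sup_right (Subgroup.mem_map_of_mem _ (hC hσ)))
  · rintro _ (⟨a, ha, rfl⟩ | ⟨σ, hσ, rfl⟩)
    · rw [← map_pow]; exact hsq a ha
    · rw [← map_pow, hσ.2, map_one]; exact one_mem _

/-- A base element all of whose coordinates have their square a commutator. -/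
theorem sq_mem_of_pointwise (W : ι → Subgroup A) (hW : Subgroup.pi Set.univ W ≤ D)
    (hq : ∀ i, ∀ w ∈ W i, ∃ u ∈ W i, ∃ v ∈ W i, w ^ 2 = ⁅u, v⁆)
    {a : ι → A} (ha : ∀ i, a i ∈ W i) :
    φ (a ^ 2) ∈ ⁅monoSub φ ψ hc hst, monoSub φ ψ hc hst⁆ := by
  choose u hu v hv huv using fun i => hq i (a i) (ha i)
  rw [show a ^ 2 = ⁅u, v⁆ from funext huv, map_commutatorElement]
  exact Subgroup.commutator_mem_commutator (base_mem hc hst (hW fun i _ => hu i))
    (base_mem hc hst (hW fun i _ => hv i))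

/-- A base element inverted by an involution of the top group. -/
theorem sq_mem_of_inverted {a : ι → A} (ha : a ∈ D) {τ : Equiv.Perm ι} (hτ : τ ∈ C)
    (hinv : (fun i => a (τ.symm i)) = a⁻¹) :
    φ (a ^ 2) ∈ ⁅monoSub φ ψ hc hst, monoSub φ ψ hc hst⁆ := by
  have h : φ (a ^ 2) = ⁅φ a, ψ τ⁆ := by
    rw [commutatorElement_def, mul_assoc (φ a), ← map_inv φ, hc]
    rw [show (fun i => a⁻¹ (τ.symm i)) = a from by
      funext i
      rw [Pi.inv_apply, congrFun hinv i, Pi.inv_apply, inv_inv]]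
    rw [sq, map_mul]
    simp [mul_assoc]
  rw [h]
  exact Subgroup.commutator_mem_commutator (base_mem hc hst ha) (top_mem hc hst hτ)

end Monomial

end CfsgLib.SymSylow.SqDer
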