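import Mathlib

/-!
Sylow p-subgroups of symmetric groups, worked inside one ambient group `Perm α`:
`IsSylowOn p s P` says that `P` is a Sylow p-subgroup of the permutations supported on `s`.
The main tool is `IsSylowOn.split`: a Sylow subgroup leaving `t` invariant is the product of
its restrictions to `t` and to the rest.
-/

set_option autoImplicit false

namespace CfsgLib.SymSylow

open Equiv

variable {α : Type*}

/-- Permutations fixing every point outside `s`. -/
def onSet (s : Finset α) : Subgroup (Perm α) where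
  carrier := {g | ∀ x, x ∉ s → g x = x}
  one_mem' := fun _ _ => rfl
  mul_mem' := fun {a b} ha hb x hx => by rw [Perm.mul_apply, hb x hx, ha x hx]
  inv_mem' := fun {a} ha x hx => by
    rw [Perm.inv_eq_iff_eq]; exact (ha x hx).symm

/-- Permutations mapping `s` onto itself. -/
def keeps (s : Finset α) : Subgroup (Perm α) where
  carrier := {g | ∀ x, g x ∈ s ↔ x ∈ s}
  one_mem' := fun _ => Iff.rfl
  mul_mem' := fun {a b} ha hb x => by rw [Perm.mul_apply, ha, hb]
  inv_mem' := fun {a} ha x => by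
    simpa using (ha (a⁻¹ x)).symm

lemma mem_onSet {s : Finset α} {g : Perm α} : g ∈ onSet s ↔ ∀ x, x ∉ s → g x = x := Iff.rfl

lemma mem_keeps {s : Finset α} {g : Perm α} : g ∈ keeps s ↔ ∀ x, g x ∈ s ↔ x ∈ s := Iff.rfl

lemma onSet_mono {s t : Finset α} (h : s ⊆ t) : onSet s ≤ onSet t :=
  fun _ hg x hx => hg x (fun hs => hx (h hs))

lemma onSet_le_keeps (s : Finset α) : onSet s ≤ keeps s := by
  intro g hg x
  refine ⟨fun h => ?_, fun h => ?_⟩
  · by_contra hx; rw [hg x hx] at h; exact hx h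
  · by_contra hx
    have h2 := g.injective (hg (g x) hx)
    exact hx (by rw [h2]; exact h)

variable [DecidableEq α]

lemma onSet_le_keeps_of_disjoint {s t : Finset α} (h : Disjoint s t) : onSet t ≤ keeps s := by
  intro g hg x
  refine ⟨fun hx => ?_, fun hx => ?_⟩
  · have := g.injective (hg (g x) (Finset.disjoint_left.mp h hx))
    rwa [this] at hx
  · rwa [hg x (Finset.disjoint_left.mp h hx)]

lemma keeps_sdiff {s t : Finset α} {g : Perm α} (hs : g ∈ keeps s) (ht : g ∈ keeps t) :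
    g ∈ keeps (s \ t) := by
  intro x
  rw [Finset.mem_sdiff, Finset.mem_sdiff, hs x, ht x]

lemma keeps_union {s t : Finset α} {g : Perm α} (hs : g ∈ keeps s) (ht : g ∈ keeps t) :
    g ∈ keeps (s ∪ t) := by
  intro x
  rw [Finset.mem_union, Finset.mem_union, hs x, ht x]

lemma keeps_of_mapsTo [Finite α] {s : Finset α} {g : Perm α} (h : ∀ x ∈ s, g x ∈ s) :
    g ∈ keeps s := by
  intro x
  refine ⟨fun hx => ?_, h x⟩
  have himg : s.image g = s := by
    refine Finset.eq_of_subset_of_card_le (fun y hy => ?_) ?_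
    · obtain ⟨z, hz, rfl⟩ := Finset.mem_image.mp hy; exact h z hz
    · rw [Finset.card_image_of_injective _ g.injective]
  rw [← himg] at hx
  obtain ⟨z, hz, hzx⟩ := Finset.mem_image.mp hx
  rwa [← g.injective hzx]

/-- Restriction of a permutation to an invariant set (identity outside). -/
noncomputable def res (s : Finset α) (g : Perm α) : Perm α :=
  haveI := Classical.propDecidable (∀ x, g x ∈ s ↔ x ∈ s)
  if h : ∀ x, g x ∈ s ↔ x ∈ s then Perm.ofSubtype (g.subtypePerm h) else 1

lemma res_apply_of_mem {s : Finset α} {g : Perm α} (hg : g ∈ keeps s) {x : α} (hx : x ∈ s) :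
    res s g x = g x := by
  have hg' : ∀ x, g x ∈ s ↔ x ∈ s := hg
  unfold res
  rw [dif_pos hg', Perm.ofSubtype_apply_of_mem (p := fun x => x ∈ s) _ hx]
  rfl

lemma res_apply_of_notMem (s : Finset α) (g : Perm α) {x : α} (hx : x ∉ s) : res s g x = x := by
  unfold res
  split
  · exact Perm.ofSubtype_apply_of_not_mem (p := fun x => x ∈ s) _ hx
  · rfl

lemma res_mem_onSet (s : Finset α) (g : Perm α) : res s g ∈ onSet s :=
  fun _ hx => res_apply_of_notMem s g hx

lemma res_one (s : Finset α) : res s (1 : Perm α) = 1 := by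
  ext x
  by_cases hx : x ∈ s
  · rw [res_apply_of_mem (one_mem _) hx]
  · rw [res_apply_of_notMem _ _ hx]; rfl

lemma res_mul {s : Finset α} {g h : Perm α} (hg : g ∈ keeps s) (hh : h ∈ keeps s) :
    res s (g * h) = res s g * res s h := by
  ext x
  by_cases hx : x ∈ s
  · rw [res_apply_of_mem (mul_mem hg hh) hx, Perm.mul_apply, Perm.mul_apply,
      res_apply_of_mem hh hx, res_apply_of_mem hg ((hh x).mpr hx)]
  · rw [Perm.mul_apply, res_apply_of_notMem _ h hx, res_apply_of_notMem _ _ hx,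
      res_apply_of_notMem _ g hx]

lemma res_of_mem_onSet {s : Finset α} {g : Perm α} (hg : g ∈ onSet s) : res s g = g := by
  ext x
  by_cases hx : x ∈ s
  · rw [res_apply_of_mem (onSet_le_keeps s hg) hx]
  · rw [res_apply_of_notMem _ _ hx, hg x hx]

lemma res_mul_res_sdiff {s t : Finset α} {g : Perm α} (hts : t ⊆ s) (hg : g ∈ onSet s)
    (hk : g ∈ keeps t) : res t g * res (s \ t) g = g := by
  have hk' : g ∈ keeps (s \ t) := keeps_sdiff (onSet_le_keeps s hg) hk
  ext x
  rw [Perm.mul_apply]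
  by_cases hxt : x ∈ t
  · rw [res_apply_of_notMem _ _ (fun h => (Finset.mem_sdiff.mp h).2 hxt),
      res_apply_of_mem hk hxt]
  · by_cases hxs : x ∈ s
    · rw [res_apply_of_mem hk' (Finset.mem_sdiff.mpr ⟨hxs, hxt⟩),
        res_apply_of_notMem _ _ (fun h => hxt ((hk x).mp h))]
    · rw [res_apply_of_notMem _ _ (fun h => hxs (Finset.mem_sdiff.mp h).1),
        res_apply_of_notMem _ _ hxt, hg x hxs]

lemma card_onSet [Finite α] (s : Finset α) :
    Nat.card (onSet s) = s.card.factorial := by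
  have e : Perm {x // x ∈ s} ≃ onSet s :=
    (Perm.subtypeEquivSubtypePerm (fun x => x ∈ s)).trans (Equiv.subtypeEquivRight fun _ => Iff.rfl)
  rw [← Nat.card_congr e, Nat.card_perm, Nat.card_eq_fintype_card, Fintype.card_coe]

/-- `P` is a Sylow p-subgroup of the group of permutations supported on `s`. -/
def IsSylowOn (p : ℕ) (s : Finset α) (P : Subgroup (Perm α)) : Prop :=
  P ≤ onSet s ∧ Nat.card P = p ^ padicValNat p s.card.factorial

variable [Fintype α] {p : ℕ} [Fact p.Prime]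

lemma IsSylowOn.le {s : Finset α} {P : Subgroup (Perm α)} (h : IsSylowOn p s P) : P ≤ onSet s :=
  h.1

lemma IsSylowOn.card_eq {s : Finset α} {P : Subgroup (Perm α)} (h : IsSylowOn p s P) :
    Nat.card P = p ^ padicValNat p s.card.factorial := h.2

lemma IsSylowOn.isPGroup {s : Finset α} {P : Subgroup (Perm α)} (h : IsSylowOn p s P) :
    IsPGroup p P := IsPGroup.of_card h.2

lemma exists_card_eq_pow_of_le {s : Finset α} {A : Subgroup (Perm α)} (hA : IsPGroup p A)
    (hle : A ≤ onSet s) :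
    ∃ k, Nat.card A = p ^ k ∧ k ≤ padicValNat p s.card.factorial := by
  obtain ⟨k, hk⟩ := IsPGroup.iff_card.mp hA
  refine ⟨k, hk, (padicValNat_dvd_iff_le (Nat.factorial_ne_zero _)).mp ?_⟩
  rw [← hk, ← card_onSet s]
  exact Subgroup.card_dvd_of_le hle

lemma card_le_of_isPGroup {s : Finset α} {A : Subgroup (Perm α)} (hA : IsPGroup p A)
    (hle : A ≤ onSet s) : Nat.card A ≤ p ^ padicValNat p s.card.factorial := by
  obtain ⟨k, hk, hk'⟩ := exists_card_eq_pow_of_le hA hle
  rw [hk]
  exact Nat.pow_le_pow_right (Fact.out : p.Prime).pos hk'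

lemma IsSylowOn.eq_of_le {s : Finset α} {P Q : Subgroup (Perm α)} (h : IsSylowOn p s P)
    (hQ : IsPGroup p Q) (hQs : Q ≤ onSet s) (hPQ : P ≤ Q) : Q = P :=
  (Subgroup.eq_of_le_of_card_ge hPQ (h.2.symm ▸ card_le_of_isPGroup hQ hQs)).symm

lemma isSylowOn_univ (P : Sylow p (Perm α)) :
    IsSylowOn p Finset.univ (P : Subgroup (Perm α)) := by
  refine ⟨fun g _ x hx => absurd (Finset.mem_univ x) hx, ?_⟩
  have h := P.card_eq_multiplicity
  rw [Nat.card_perm, Nat.factorization_def _ (Fact.out : p.Prime)] at h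
  rw [Finset.card_univ, ← Nat.card_eq_fintype_card]
  exact h

/-- The image of a restriction map. -/
def resGroup (t : Finset α) (H : Subgroup (Perm α)) (hH : H ≤ keeps t) : Subgroup (Perm α) where
  carrier := res t '' H
  one_mem' := ⟨1, H.one_mem, res_one t⟩
  mul_mem' := by
    rintro _ _ ⟨a, ha, rfl⟩ ⟨b, hb, rfl⟩
    exact ⟨a * b, H.mul_mem ha hb, res_mul (hH ha) (hH hb)⟩
  inv_mem' := by
    rintro _ ⟨a, ha, rfl⟩
    refine ⟨a⁻¹, H.inv_mem ha, eq_inv_of_mul_eq_one_left ?_⟩
    rw [← res_mul (hH (H.inv_mem ha)) (hH ha), inv_mul_cancel, res_one]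

lemma mem_resGroup {t : Finset α} {H : Subgroup (Perm α)} {hH : H ≤ keeps t} {g : Perm α} :
    g ∈ resGroup t H hH ↔ ∃ h ∈ H, res t h = g := Iff.rfl

lemma resGroup_le_onSet (t : Finset α) (H : Subgroup (Perm α)) (hH : H ≤ keeps t) :
    resGroup t H hH ≤ onSet t := by
  rintro _ ⟨a, -, rfl⟩
  exact res_mem_onSet t a

lemma isPGroup_resGroup {t : Finset α} {H : Subgroup (Perm α)} (hH : H ≤ keeps t)
    (hp : IsPGroup p H) : IsPGroup p (resGroup t H hH) := by
  let f : H →* resGroup t H hH :=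
    { toFun := fun h => ⟨res t h.1, mem_resGroup.mpr ⟨h, h.2, rfl⟩⟩
      map_one' := Subtype.ext (res_one t)
      map_mul' := fun a b => Subtype.ext (res_mul (hH a.2) (hH b.2)) }
  refine hp.of_surjective f ?_
  rintro ⟨_, a, ha, rfl⟩
  exact ⟨⟨a, ha⟩, rfl⟩

/-- A large p-group leaving `t` invariant is the product of its restrictions. -/
theorem split_of_card {s t : Finset α} {H : Subgroup (Perm α)} (hp : IsPGroup p H)
    (hs : H ≤ onSet s) (hts : t ⊆ s) (ht : H ≤ keeps t)
    (hcard : p ^ (padicValNat p t.card.factorial + padicValNat p (s \ t).card.factorial)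
      ≤ Nat.card H) :
    (∀ g ∈ H, res t g ∈ H) ∧ (∀ g ∈ H, res (s \ t) g ∈ H) ∧
      IsSylowOn p t (H ⊓ onSet t) ∧ IsSylowOn p (s \ t) (H ⊓ onSet (s \ t)) := by
  have ht' : H ≤ keeps (s \ t) := fun g hg => keeps_sdiff (onSet_le_keeps s (hs hg)) (ht hg)
  set A := resGroup t H ht with hAdef
  set B := resGroup (s \ t) H ht' with hBdef
  let f : H → A × B := fun h =>
    (⟨res t h.1, mem_resGroup.mpr ⟨h, h.2, rfl⟩⟩,
      ⟨res (s \ t) h.1, mem_resGroup.mpr ⟨h, h.2, rfl⟩⟩)
  have hf : Function.Injective f := by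
    intro a b hab
    have h1 := congrArg (fun x => (x.1 : Perm α)) hab
    have h2 := congrArg (fun x => (x.2 : Perm α)) hab
    apply Subtype.ext
    rw [← res_mul_res_sdiff hts (hs a.2) (ht a.2), ← res_mul_res_sdiff hts (hs b.2) (ht b.2)]
    simp only [f] at h1 h2
    rw [h1, h2]
  have hA := card_le_of_isPGroup (isPGroup_resGroup ht hp) (resGroup_le_onSet t H ht)
  have hB := card_le_of_isPGroup (isPGroup_resGroup ht' hp) (resGroup_le_onSet (s \ t) H ht')
  rw [← hAdef] at hA
  rw [← hBdef] at hB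
  have hcle : Nat.card H ≤ Nat.card A * Nat.card B := by
    rw [← Nat.card_prod]; exact Nat.card_le_card_of_injective f hf
  rw [pow_add] at hcard
  have hpos : 0 < Nat.card A := Nat.card_pos
  have hposB : 0 < Nat.card B := Nat.card_pos
  have hA' : Nat.card A = p ^ padicValNat p t.card.factorial := by nlinarith
  have hB' : Nat.card B = p ^ padicValNat p (s \ t).card.factorial := by nlinarith
  have hbij : Function.Bijective f := by
    refine (Nat.bijective_iff_injective_and_card f).mpr ⟨hf, ?_⟩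
    rw [Nat.card_prod]
    exact le_antisymm hcle (by rw [hA', hB']; exact hcard)
  have hdis : Disjoint t (s \ t) := Finset.disjoint_sdiff
  have keyA : ∀ g ∈ H, res t g ∈ H := by
    intro g hg
    obtain ⟨h, hh⟩ := hbij.2 (⟨res t g, mem_resGroup.mpr ⟨g, hg, rfl⟩⟩, 1)
    have h1 := congrArg (fun x => (x.1 : Perm α)) hh
    have h2 := congrArg (fun x => (x.2 : Perm α)) hh
    simp only [f, OneMemClass.coe_one] at h1 h2
    have h3 := res_mul_res_sdiff hts (hs h.2) (ht h.2)
    rw [h1, h2, mul_one] at h3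
    exact h3 ▸ h.2
  have keyB : ∀ g ∈ H, res (s \ t) g ∈ H := by
    intro g hg
    obtain ⟨h, hh⟩ := hbij.2 (1, ⟨res (s \ t) g, mem_resGroup.mpr ⟨g, hg, rfl⟩⟩)
    have h1 := congrArg (fun x => (x.1 : Perm α)) hh
    have h2 := congrArg (fun x => (x.2 : Perm α)) hh
    simp only [f, OneMemClass.coe_one] at h1 h2
    have h3 := res_mul_res_sdiff hts (hs h.2) (ht h.2)
    rw [h1, h2, one_mul] at h3
    exact h3 ▸ h.2
  have hAeq : A = H ⊓ onSet t := by
    apply le_antisymm
    · intro a ha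
      obtain ⟨g, hg, rfl⟩ := mem_resGroup.mp ha
      exact ⟨keyA g hg, res_mem_onSet t g⟩
    · intro g hg
      exact mem_resGroup.mpr ⟨g, hg.1, res_of_mem_onSet hg.2⟩
  have hBeq : B = H ⊓ onSet (s \ t) := by
    apply le_antisymm
    · intro a ha
      obtain ⟨g, hg, rfl⟩ := mem_resGroup.mp ha
      exact ⟨keyB g hg, res_mem_onSet _ g⟩
    · intro g hg
      exact mem_resGroup.mpr ⟨g, hg.1, res_of_mem_onSet hg.2⟩
  exact ⟨keyA, keyB, ⟨inf_le_right, hAeq ▸ hA'⟩, ⟨inf_le_right, hBeq ▸ hB'⟩⟩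

lemma padic_factorial_add_le (a b : ℕ) :
    padicValNat p a.factorial + padicValNat p b.factorial ≤ padicValNat p (a + b).factorial := by
  rw [← padicValNat.mul (Nat.factorial_ne_zero _) (Nat.factorial_ne_zero _)]
  exact (padicValNat_dvd_iff_le (Nat.factorial_ne_zero _)).mp
    (pow_padicValNat_dvd.trans (Nat.factorial_mul_factorial_dvd_factorial_add a b))

/-- A Sylow subgroup on `s` leaving `t ⊆ s` invariant is the product of Sylow subgroups on `t`
and `s \ t`. -/
theorem IsSylowOn.split {s t : Finset α} {P : Subgroup (Perm α)} (h : IsSylowOn p s P)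
    (hts : t ⊆ s) (ht : P ≤ keeps t) :
    (∀ g ∈ P, res t g ∈ P) ∧ (∀ g ∈ P, res (s \ t) g ∈ P) ∧
      IsSylowOn p t (P ⊓ onSet t) ∧ IsSylowOn p (s \ t) (P ⊓ onSet (s \ t)) := by
  refine split_of_card h.isPGroup h.le hts ht ?_
  rw [h.card_eq]
  refine Nat.pow_le_pow_right (Fact.out : p.Prime).pos ?_
  conv_rhs => rw [← Finset.card_sdiff_add_card_eq_card hts, add_comm]
  exact padic_factorial_add_le _ _

/-- Adding the two valuations gives that of the whole: no carrying. -/
theorem IsSylowOn.padic_split {s t : Finset α} {P : Subgroup (Perm α)} (h : IsSylowOn p s P)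
    (hts : t ⊆ s) (ht : P ≤ keeps t) :
    padicValNat p s.card.factorial =
      padicValNat p t.card.factorial + padicValNat p (s \ t).card.factorial := by
  obtain ⟨h1, h2, h3, h4⟩ := h.split hts ht
  have hdis : Disjoint t (s \ t) := Finset.disjoint_sdiff
  let f : P → ↥(P ⊓ onSet t) × ↥(P ⊓ onSet (s \ t)) := fun g =>
    (⟨res t g.1, h1 g g.2, res_mem_onSet _ _⟩, ⟨res (s \ t) g.1, h2 g g.2, res_mem_onSet _ _⟩)
  have hf : Function.Injective f := by
    intro a b hab
    have e1 := congrArg (fun x => (x.1 : Perm α)) hab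
    have e2 := congrArg (fun x => (x.2 : Perm α)) hab
    apply Subtype.ext
    rw [← res_mul_res_sdiff hts (h.le a.2) (ht a.2), ← res_mul_res_sdiff hts (h.le b.2) (ht b.2)]
    simp only [f] at e1 e2
    rw [e1, e2]
  have hle := Nat.card_le_card_of_injective f hf
  rw [Nat.card_prod, h.card_eq, h3.card_eq, h4.card_eq, ← pow_add] at hle
  refine le_antisymm ((Nat.pow_le_pow_iff_right (Fact.out : p.Prime).one_lt).mp hle) ?_
  conv_rhs => rw [← Finset.card_sdiff_add_card_eq_card hts, add_comm]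
  exact padic_factorial_add_le _ _

/-- The orbit of a point, as a finite set. -/
noncomputable def orb (P : Subgroup (Perm α)) (x : α) : Finset α :=
  (MulAction.orbit P x).toFinite.toFinset

lemma mem_orb {P : Subgroup (Perm α)} {x y : α} : y ∈ orb P x ↔ ∃ g ∈ P, g x = y := by
  unfold orb
  rw [Set.Finite.mem_toFinset, MulAction.mem_orbit_iff]
  exact ⟨fun ⟨g, hg⟩ => ⟨g.1, g.2, hg⟩, fun ⟨g, hg, he⟩ => ⟨⟨g, hg⟩, he⟩⟩

lemma self_mem_orb (P : Subgroup (Perm α)) (x : α) : x ∈ orb P x :=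
  mem_orb.mpr ⟨1, P.one_mem, rfl⟩

lemma le_keeps_orb (P : Subgroup (Perm α)) (x : α) : P ≤ keeps (orb P x) := by
  intro g hg
  refine keeps_of_mapsTo fun y hy => ?_
  obtain ⟨h, hh, rfl⟩ := mem_orb.mp hy
  exact mem_orb.mpr ⟨g * h, P.mul_mem hg hh, rfl⟩

lemma orb_subset {P : Subgroup (Perm α)} {s : Finset α} (hP : P ≤ keeps s) {x : α} (hx : x ∈ s) :
    orb P x ⊆ s := by
  intro y hy
  obtain ⟨g, hg, rfl⟩ := mem_orb.mp hy
  exact (hP hg x).mpr hx

lemma exists_map_of_mem_orb {P : Subgroup (Perm α)} {x y z : α} (hy : y ∈ orb P x)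
    (hz : z ∈ orb P x) : ∃ g ∈ P, g y = z := by
  obtain ⟨g, hg, rfl⟩ := mem_orb.mp hy
  obtain ⟨h, hh, rfl⟩ := mem_orb.mp hz
  exact ⟨h * g⁻¹, P.mul_mem hh (P.inv_mem hg), by simp⟩

lemma orb_eq_of_mem {P : Subgroup (Perm α)} {x y : α} (hy : y ∈ orb P x) :
    orb P y = orb P x := by
  apply Finset.Subset.antisymm
  · exact orb_subset (le_keeps_orb P x) hy
  · intro z hz
    exact mem_orb.mpr (exists_map_of_mem_orb hy hz)

lemma card_orb_eq_pow {P : Subgroup (Perm α)} (hP : IsPGroup p P) (x : α) :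
    ∃ k, (orb P x).card = p ^ k := by
  obtain ⟨k, hk⟩ := hP.card_orbit x
  refine ⟨k, ?_⟩
  unfold orb
  rw [← hk, ← Set.ncard_eq_toFinset_card, Nat.card_coe_set_eq]

end CfsgLib.SymSylow
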