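import Mathlib
import Cfsg.Agent.SymSylow.SqDerived

/-!
Block-monomial matrices: `m` blocks of size two permuted by `Perm (Fin m)`; the `2`-part of
`q ^ k - 1`.
-/

set_option autoImplicit false

namespace CfsgLib.SymSylow.BlockMono

open Matrix Equiv

variable {m : ℕ} {F : Type*} [Field F]

/-- The pair `(r, i)` as a coordinate. -/
def pairEquiv (m : ℕ) : Fin 2 × Fin m ≃ Fin m ⊕ Fin m :=
  ((finTwoEquiv.prodCongr (Equiv.refl _)).trans (Equiv.boolProdEquivSum _))

@[simp] theorem pairEquiv_symm_inl (i : Fin m) : (pairEquiv m).symm (Sum.inl i) = (0, i) := rfl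

@[simp] theorem pairEquiv_symm_inr (i : Fin m) : (pairEquiv m).symm (Sum.inr i) = (1, i) := rfl

/-- Block diagonal matrices. -/
def blk : (Fin m → Matrix (Fin 2) (Fin 2) F) →* Matrix (Fin m ⊕ Fin m) (Fin m ⊕ Fin m) F :=
  (reindexAlgEquiv F F (pairEquiv m)).toMonoidHom.comp
    (blockDiagonalRingHom (Fin 2) (Fin m) F).toMonoidHom

theorem blk_apply (a : Fin m → Matrix (Fin 2) (Fin 2) F) :
    blk a = fromBlocks (diagonal fun i => a i 0 0) (diagonal fun i => a i 0 1)
      (diagonal fun i => a i 1 0) (diagonal fun i => a i 1 1) := by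
  have h : blk a = reindexAlgEquiv F F (pairEquiv m) (blockDiagonal a) := rfl
  rw [h, coe_reindexAlgEquiv]
  ext (i | i) (j | j) <;>
    simp [reindex_apply, blockDiagonal_apply, diagonal_apply]

theorem blk_injective : Function.Injective (blk (m := m) (F := F)) :=
  (reindexAlgEquiv F F (pairEquiv m)).injective.comp blockDiagonal_injective

theorem det_blk (a : Fin m → Matrix (Fin 2) (Fin 2) F) : (blk a).det = ∏ i, (a i).det := by
  rw [← det_blockDiagonal]
  exact det_reindexAlgEquiv F F (pairEquiv m) (blockDiagonal a)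

/-- Coordinate permutation matrices. -/
def pmat : Perm (Fin m) →* Matrix (Fin m ⊕ Fin m) (Fin m ⊕ Fin m) F :=
  permMatrixHom.comp ((Perm.sumCongrHom (Fin m) (Fin m)).comp ((MonoidHom.id _).prod (MonoidHom.id _)))

theorem pmat_apply (σ : Perm (Fin m)) :
    pmat (F := F) σ = (Equiv.sumCongr σ σ).symm.toPEquiv.toMatrix := rfl

theorem det_pmat (σ : Perm (Fin m)) : (pmat (F := F) σ).det = 1 := by
  rw [pmat_apply]
  rw [show (Equiv.sumCongr σ σ).symm = Equiv.sumCongr σ.symm σ.symm from rfl]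
  exact (det_permutation (σ := Equiv.sumCongr σ.symm σ.symm)).trans (by
    rw [Perm.sign_sumCongr, Int.units_mul_self]; simp)

theorem pmat_mul_blk (σ : Perm (Fin m)) (a : Fin m → Matrix (Fin 2) (Fin 2) F) :
    pmat σ * blk a = blk (fun i => a (σ.symm i)) * pmat σ := by
  rw [pmat_apply, PEquiv.toMatrix_toPEquiv_mul, PEquiv.mul_toMatrix_toPEquiv, blk_apply, blk_apply]
  ext (i | i) (j | j) <;> simp [diagonal_apply, Equiv.symm_apply_eq]

theorem eq_one_of_blk_mul_pmat (a : Fin m → Matrix (Fin 2) (Fin 2) F) (σ : Perm (Fin m))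
    (h : blk a * pmat σ = 1) : a = 1 ∧ σ = 1 := by
  have hσ : σ = 1 := by
    refine Equiv.ext fun i => ?_
    by_contra hne
    have h1 : blk a = pmat σ⁻¹ := by
      rw [← mul_one (blk a), ← map_one (pmat (F := F)), ← mul_inv_cancel σ, map_mul, ← mul_assoc, h,
        one_mul]
    have h2 := congrFun (congrFun h1 (Sum.inl i)) (Sum.inl (σ i))
    rw [pmat_apply, PEquiv.toMatrix_apply, blk_apply] at h2
    simp [Ne.symm (show ¬σ i = i from hne)] at h2
    exact h2 rfl
  subst hσ
  rw [map_one, mul_one] at h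
  exact ⟨blk_injective (h.trans (map_one blk).symm), rfl⟩

theorem factorization_pow_two_mul_sub_one {q : ℕ} (h1 : 1 < q) (hodd : Odd q) {i : ℕ} (hi : i ≠ 0) :
    (q ^ (2 * i) - 1).factorization 2 = (q ^ 2 - 1).factorization 2 + i.factorization 2 := by
  have hx : ¬2 ∣ q := fun h => Nat.not_even_iff_odd.2 hodd (even_iff_two_dvd.2 h)
  haveI : Fact (Nat.Prime 2) := ⟨Nat.prime_two⟩
  simp only [Nat.factorization_def _ Nat.prime_two]
  have a := padicValNat.pow_two_sub_one h1 hx (n := 2 * i) (by omega) (even_two_mul i)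
  have b := padicValNat.pow_two_sub_one h1 hx (n := 2) (by omega) even_two
  rw [padicValNat.mul (by norm_num) hi] at a
  simp at a b
  omega

theorem factorization_prod_range {q : ℕ} (h1 : 1 < q) (hodd : Odd q) (m : ℕ) :
    (∏ i ∈ Finset.range m, (q ^ (2 * (i + 1)) - 1)).factorization 2 =
      m * (q ^ 2 - 1).factorization 2 + m.factorial.factorization 2 := by
  induction m with
  | zero => simp
  | succ m ih =>
    have hne : ∀ k : ℕ, q ^ (2 * (k + 1)) - 1 ≠ 0 := fun k => by
      have := Nat.one_lt_pow (by omega : 2 * (k + 1) ≠ 0) h1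
      omega
    rw [Finset.prod_range_succ, Nat.factorization_mul (Finset.prod_ne_zero_iff.2 fun k _ => hne k) (hne m),
      Nat.factorial_succ, Nat.factorization_mul (by omega) (Nat.factorial_ne_zero m)]
    simp only [Finsupp.coe_add, Pi.add_apply, ih, factorization_pow_two_mul_sub_one h1 hodd (by omega : m + 1 ≠ 0)]
    ring

theorem card_sylow_perm (m : ℕ) (C : Sylow 2 (Perm (Fin m))) :
    Nat.card (C : Subgroup (Perm (Fin m))) = 2 ^ m.factorial.factorization 2 := by
  haveI : Fact (Nat.Prime 2) := ⟨Nat.prime_two⟩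
  rw [C.card_eq_multiplicity, Nat.card_perm, Nat.card_fin]

theorem sylow_perm_gen (m : ℕ) (C : Sylow 2 (Perm (Fin m))) :
    (C : Subgroup (Perm (Fin m))) ≤
      Subgroup.closure {σ | σ ∈ (C : Subgroup (Perm (Fin m))) ∧ σ ^ 2 = 1} :=
  haveI : Fact (Nat.Prime 2) := ⟨Nat.prime_two⟩
  (CfsgLib.SymSylow.Mono.gen_all 2 C).1

end CfsgLib.SymSylow.BlockMono
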