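import Mathlib
import Cfsg.Agent.SymSylow.SqDerived

/-!
Rank of the largest normal elementary abelian 2-subgroup: invariance, products with elementary
abelian groups, and monomial groups.
-/

set_option autoImplicit false

namespace CfsgLib.SymSylow.NRank

open CfsgLib.SymSylow.SqDer

variable {K : Type*} [Group K]

/-- Elementary abelian 2-subgroup. -/
def EA (E : Subgroup K) : Prop := IsMulCommutative E ∧ ∀ e ∈ E, e ^ 2 = 1

/-- The largest normal elementary abelian 2-subgroup of `K` has order `2 ^ k`. -/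
def NormalRankEq (K : Type*) [Group K] (k : ℕ) : Prop :=
  (∃ E : Subgroup K, E.Normal ∧ EA E ∧ 2 ^ k ≤ Nat.card E) ∧
    ∀ E : Subgroup K, E.Normal → EA E → Nat.card E ≤ 2 ^ k

theorem EA.map {L : Type*} [Group L] {E : Subgroup K} (h : EA E) (f : K →* L) : EA (E.map f) := by
  refine ⟨⟨⟨?_⟩⟩, ?_⟩
  · rintro ⟨_, a, ha, rfl⟩ ⟨_, b, hb, rfl⟩
    refine Subtype.ext ?_
    show f a * f b = f b * f a
    rw [← map_mul, ← map_mul]
    exact congrArg f (congrArg Subtype.val (h.1.is_comm.comm ⟨a, ha⟩ ⟨b, hb⟩))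
  · rintro _ ⟨a, ha, rfl⟩
    rw [← map_pow, h.2 a ha, map_one]

theorem NormalRankEq.congr {L : Type*} [Group L] {k : ℕ} (h : NormalRankEq K k) (e : K ≃* L) :
    NormalRankEq L k := by
  obtain ⟨⟨E, hn, he, hc⟩, hu⟩ := h
  refine ⟨⟨E.map e.toMonoidHom, hn.map _ e.surjective, he.map _, ?_⟩, fun E' hn' he' => ?_⟩
  · rwa [← Nat.card_congr (E.equivMapOfInjective e.toMonoidHom e.injective).toEquiv]
  · rw [Nat.card_congr (E'.equivMapOfInjective e.symm.toMonoidHom e.symm.injective).toEquiv]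
    exact hu _ (hn'.map _ e.symm.surjective) (he'.map _)

theorem NormalRankEq.prod {L : Type*} [Group L] [Finite K] [Finite L] {a b : ℕ}
    (h : NormalRankEq K a) (hc : ∀ x y : L, x * y = y * x) (hsq : ∀ x : L, x ^ 2 = 1)
    (hcard : Nat.card L = 2 ^ b) : NormalRankEq (K × L) (a + b) := by
  obtain ⟨⟨E, hn, he, hcE⟩, hu⟩ := h
  refine ⟨⟨E.prod ⊤, inferInstance, ⟨⟨⟨?_⟩⟩, ?_⟩, ?_⟩, fun E' hn' he' => ?_⟩
  · rintro ⟨x, hx⟩ ⟨y, hy⟩
    exact Subtype.ext (Prod.ext (congrArg Subtype.val (he.1.is_comm.comm ⟨x.1, hx.1⟩ ⟨y.1, hy.1⟩))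
      (hc _ _))
  · rintro ⟨x, y⟩ hx
    exact Prod.ext (he.2 x hx.1) (hsq y)
  · rw [Nat.card_congr (E.prodEquiv ⊤).toEquiv, Nat.card_prod, Subgroup.card_top, hcard, pow_add]
    exact Nat.mul_le_mul_right _ hcE
  · let f : E' →* E'.map (MonoidHom.fst K L) := (MonoidHom.fst K L).subgroupMap E'
    have hf : Function.Surjective f := MonoidHom.subgroupMap_surjective _ E'
    rw [Subgroup.card_eq_card_quotient_mul_card_subgroup f.ker,
      Nat.card_congr (QuotientGroup.quotientKerEquivOfSurjective f hf).toEquiv, pow_add, ← hcard]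
    refine Nat.mul_le_mul (hu _ (hn'.map _ Prod.fst_surjective) (he'.map _)) ?_
    refine Nat.card_le_card_of_injective (fun x => ((x : E') : K × L).2) fun x y hxy => ?_
    refine Subtype.ext (Subtype.ext (Prod.ext ?_ hxy))
    exact (congrArg Subtype.val (MonoidHom.mem_ker.1 x.2)).trans
      (congrArg Subtype.val (MonoidHom.mem_ker.1 y.2)).symm

theorem normalRankEq_sylow {G : Type*} [Group G] [Finite G] (H : Subgroup G)
    (hcard : Nat.card H = 2 ^ (Nat.card G).factorization 2) {k : ℕ} (h : NormalRankEq H k)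
    (S : Sylow 2 G) : NormalRankEq (S : Subgroup G) k :=
  haveI : Fact (Nat.Prime 2) := ⟨Nat.prime_two⟩
  h.congr ((Sylow.ofCard H hcard).equiv S)

section Monomial

variable {G : Type*} [Group G] {ι : Type*} {A : Type*} [Group A] {φ : (ι → A) →* G}
  {ψ : Equiv.Perm ι →* G} (hc : Compat φ ψ) {W : Subgroup A} {C : Subgroup (Equiv.Perm ι)}
  (hinj : ∀ a σ, φ a * ψ σ = 1 → a = 1 ∧ σ = 1)

theorem stable_pi (W : Subgroup A) (C : Subgroup (Equiv.Perm ι)) :
    Stable (Subgroup.pi Set.univ fun _ : ι => W) C :=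
  fun σ _ _ ha i _ => ha (σ.symm i) trivial

theorem card_pi [Finite ι] (W : Subgroup A) :
    Nat.card (Subgroup.pi Set.univ fun _ : ι => W) = Nat.card W ^ Nat.card ι := by
  rw [← Nat.card_fun]
  exact Nat.card_congr
    { toFun := fun a i => ⟨a.1 i, a.2 i trivial⟩
      invFun := fun a => ⟨fun i => a i, fun i _ => (a i).2⟩
      left_inv := fun _ => rfl
      right_inv := fun _ => rfl }

include hinj

theorem exists_normal_pi [Finite ι] {z : A} (hzW : z ∈ W) (hzc : ∀ w : A, w * z = z * w)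
    (hz2 : z * z = 1) (hz1 : z ≠ 1) :
    ∃ E : Subgroup (monoSub φ ψ hc (stable_pi W C)), E.Normal ∧ EA E ∧ 2 ^ Nat.card ι ≤ Nat.card E := by
  classical
  let U : Subgroup A :=
    { carrier := {1, z}
      one_mem' := Or.inl rfl
      mul_mem' := by rintro x y (rfl | rfl) (rfl | rfl) <;> simp [hz2]
      inv_mem' := by rintro x (rfl | rfl) <;> simp [inv_eq_of_mul_eq_one_right hz2] }
  let T : Subgroup (ι → A) := Subgroup.pi Set.univ fun _ => U
  have hT : ∀ a ∈ T, ∀ i, a i = 1 ∨ a i = z := fun a ha i => ha i trivial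
  have hTm : ∀ a ∈ T, φ a ∈ monoSub φ ψ hc (stable_pi W C) := fun a ha =>
    base_mem hc _ (a := a) (fun i _ => by
      show a i ∈ W
      rcases hT a ha i with h | h <;> rw [h]
      · exact one_mem _
      · exact hzW)
  have hTc : ∀ a ∈ T, ∀ b : ι → A, b * a = a * b := fun a ha b => funext fun i => by
    rcases hT a ha i with h | h <;> simp [h, hzc]
  let f : T →* monoSub φ ψ hc (stable_pi W C) :=
    MonoidHom.codRestrict (φ.comp T.subtype) _ (fun a => hTm a a.2)
  have hf : Function.Injective f := by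
    intro a b h
    have h' : φ (a : ι → A) = φ b := congrArg Subtype.val h
    have h'' := hinj ((b : ι → A)⁻¹ * (a : ι → A)) 1 (by rw [map_mul, map_inv, h', map_one]; simp)
    exact Subtype.ext (inv_mul_eq_one.1 h''.1).symm
  refine ⟨f.range, ⟨?_⟩, ⟨⟨⟨?_⟩⟩, ?_⟩, ?_⟩
  · rintro _ ⟨⟨a, ha⟩, rfl⟩ ⟨_, w, hw, σ, hσ, rfl⟩
    refine ⟨⟨fun i => a (σ.symm i), fun i _ => ha (σ.symm i) trivial⟩, Subtype.ext ?_⟩
    show φ (fun i => a (σ.symm i)) = φ w * ψ σ * φ a * (φ w * ψ σ)⁻¹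
    have key : φ w * ψ σ * φ a * (φ w * ψ σ)⁻¹ = φ w * (ψ σ * φ a) * (ψ σ)⁻¹ * (φ w)⁻¹ := by
      simp [mul_assoc]
    rw [key, hc σ a, ← mul_assoc (φ w), mul_inv_cancel_right, ← map_inv, ← map_mul, ← map_mul,
      hTc _ (fun i _ => ha (σ.symm i) trivial) w, mul_inv_cancel_right]
  · rintro ⟨_, a, rfl⟩ ⟨_, b, rfl⟩
    refine Subtype.ext ?_
    show f a * f b = f b * f a
    rw [← map_mul, ← map_mul]
    exact congrArg f (Subtype.ext (hTc _ b.2 _))
  · rintro _ ⟨a, rfl⟩
    rw [← map_pow]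
    have : a ^ 2 = 1 := Subtype.ext (funext fun i => by
      show (a : ι → A) i ^ 2 = 1
      rcases hT a a.2 i with h | h <;> simp [h, sq, hz2])
    rw [this, map_one]
  · rw [← Nat.card_congr (MonoidHom.ofInjective hf).toEquiv, card_pi]
    refine (Nat.pow_le_pow_left (le_of_eq ?_) _)
    show 2 = Nat.card ↥({1, z} : Set A)
    rw [Nat.card_coe_set_eq, Set.ncard_pair hz1.symm]

/-- If conjugation by `Q` moves every base involution outside `U = {1, z}`, normal elementary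
abelian subgroups lie in `U ^ ι`. -/
theorem card_le_of_local [Finite ι] [Finite A] {Q : Subgroup A} (hQW : Q ≤ W)
    (hQ : ∃ x ∈ Q, x * x ≠ 1) {z : A}
    (hloc : ∀ a ∈ W, a * a = 1 → (∀ x ∈ Q, (x * a * x⁻¹ * a⁻¹) * (x * a * x⁻¹ * a⁻¹) = 1) →
      a = 1 ∨ a = z)
    (E : Subgroup (monoSub φ ψ hc (stable_pi W C))) (hn : E.Normal) (he : EA E) :
    Nat.card E ≤ 2 ^ Nat.card ι := by
  classical
  have hinj' : ∀ a b σ τ, φ a * ψ σ = φ b * ψ τ → a = b ∧ σ = τ := by
    intro a b σ τ h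
    have h1 : φ (b⁻¹ * a) * ψ (σ * τ⁻¹) = 1 := by
      rw [map_mul, map_mul, map_inv, map_inv, mul_assoc, ← mul_assoc (φ a), h]
      simp
    obtain ⟨e1, e2⟩ := hinj _ _ h1
    exact ⟨(inv_mul_eq_one.1 e1).symm, mul_inv_eq_one.1 e2⟩
  have key : ∀ e : E, ∃ a : ι → A, (∀ i, a i = 1 ∨ a i = z) ∧ ((e.1 : G)) = φ a := by
    rintro ⟨⟨_, a, ha, σ, hσ, rfl⟩, hmem⟩
    let e : monoSub φ ψ hc (stable_pi W C) := ⟨φ a * ψ σ, a, ha, σ, hσ, rfl⟩
    have hcomm : ∀ i, ∀ x ∈ Q, ∀ j,
        ((Pi.mulSingle i x : ι → A) j * (a j * ((Pi.mulSingle i x : ι → A) (σ.symm j))⁻¹ * (a j)⁻¹)) ^ 2 = 1 := by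
      intro i x hx j
      have hy : φ (Pi.mulSingle i x) ∈ monoSub φ ψ hc (stable_pi W C) :=
        base_mem hc _ fun l _ => by
          show (Pi.mulSingle i x : ι → A) l ∈ W
          rcases eq_or_ne l i with rfl | hl
          · rw [Pi.mulSingle_eq_same]; exact hQW hx
          · rw [Pi.mulSingle_eq_of_ne hl]; exact one_mem _
      let y : monoSub φ ψ hc (stable_pi W C) := ⟨_, hy⟩
      have hE : y * e * y⁻¹ * e⁻¹ ∈ E := E.mul_mem (hn.conj_mem e hmem y) (E.inv_mem hmem)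
      have h2 := congrArg Subtype.val (he.2 _ hE)
      let s : ι → A := Pi.mulSingle i x
      let t : ι → A := s * (a * (fun l => (s (σ.symm l))⁻¹) * a⁻¹)
      have h3 : ((y * e * y⁻¹ * e⁻¹ : monoSub φ ψ hc (stable_pi W C)) : G) = φ t := by
        show φ s * (φ a * ψ σ) * (φ s)⁻¹ * (φ a * ψ σ)⁻¹ = φ t
        have k1 : φ s * (φ a * ψ σ) * (φ s)⁻¹ * (φ a * ψ σ)⁻¹ =
            φ s * φ a * (ψ σ * φ s⁻¹) * (ψ σ)⁻¹ * (φ a)⁻¹ := by simp [map_inv, mul_assoc]
        rw [k1, hc σ s⁻¹, show φ t = φ s * (φ a * φ (fun l => (s (σ.symm l))⁻¹) * φ a⁻¹) by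
          simp only [t, map_mul]]
        simp [mul_assoc, map_inv, show (fun l => s⁻¹ (σ.symm l)) = (fun l => (s (σ.symm l))⁻¹) from rfl]
      have h4 : φ (t ^ 2) * ψ 1 = φ 1 * ψ 1 := by
        rw [map_one, map_one, one_mul, mul_one, map_pow, ← h3]
        simpa using h2
      exact congrFun (hinj' _ _ _ _ h4).1 j
    obtain ⟨x0, hx0, hx0'⟩ := hQ
    have hσ1 : σ = 1 := by
      refine Equiv.ext fun i => ?_
      by_contra hne
      have h := hcomm i x0 hx0 i
      have hne' : σ.symm i ≠ i := fun e => hne (by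
        conv_lhs => rw [← e, Equiv.apply_symm_apply]
        rfl)
      rw [Pi.mulSingle_eq_same, Pi.mulSingle_eq_of_ne hne'] at h
      simp [sq] at h
      exact hx0' h
    subst hσ1
    have hsq : a * a = 1 := by
      have h2 := congrArg Subtype.val (he.2 _ hmem)
      refine (hinj (a * a) 1 ?_).1
      rw [map_one, mul_one, map_mul]
      simpa [sq] using h2
    refine ⟨a, fun i => hloc (a i) (ha i trivial) (congrFun hsq i) fun x hx => ?_, by simp⟩
    have h := hcomm i x hx i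
    rw [show ((1 : Equiv.Perm ι).symm i) = i from rfl, Pi.mulSingle_eq_same, sq] at h
    simpa [mul_assoc] using h
  choose α hα hαe using key
  refine (Nat.card_le_card_of_injective (fun e : E => fun i => decide (α e i = 1)) ?_).trans ?_
  · intro e e' h
    have : α e = α e' := funext fun i => by
      have hi : decide (α e i = 1) = decide (α e' i = 1) := congrFun h i
      rw [decide_eq_decide] at hi
      rcases hα e i with p | p <;> rcases hα e' i with p' | p' <;> simp_all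
    exact Subtype.ext (Subtype.ext ((hαe e).trans ((congrArg φ this).trans (hαe e').symm)))
  · rw [Nat.card_fun, Nat.card_eq_fintype_card (α := Bool), Fintype.card_bool]

end Monomial

end CfsgLib.SymSylow.NRank
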