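import Mathlib
import Cfsg.Agent.SymSylow.BlockMonomial
import Cfsg.Agent.Classical.Symp.Card
import Cfsg.Agent.SL2.Sylow

/-!
A Sylow 2-subgroup of `Sp_{2m}(q)`, `q` odd, as a monomial group over `SL_2(q)`.
-/

set_option autoImplicit false

namespace CfsgLib.SymSylow.SympTwo

open Matrix Equiv CfsgLib.SymSylow.BlockMono CfsgLib.SymSylow.SqDer
open scoped commutatorElement

variable {m : ℕ} {F : Type*} [Field F]

local notation "SL₂" => Matrix.SpecialLinearGroup (Fin 2) F
local notation "Sp" => Matrix.symplecticGroup (Fin m) F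

theorem blk_mem (a : Fin m → SL₂) :
    blk (fun i => (a i : Matrix (Fin 2) (Fin 2) F)) ∈ Matrix.symplecticGroup (Fin m) F := by
  rw [SymplecticGroup.mem_iff, blk_apply, J, fromBlocks_transpose, fromBlocks_multiply,
    fromBlocks_multiply]
  simp only [diagonal_transpose, Matrix.mul_zero, Matrix.mul_one, Matrix.mul_neg, add_zero, zero_add,
    Matrix.neg_mul, diagonal_mul_diagonal, ← diagonal_neg, diagonal_add, ← diagonal_one]
  have hd : ∀ i, (a i : Matrix (Fin 2) (Fin 2) F) 0 0 * (a i : Matrix (Fin 2) (Fin 2) F) 1 1 -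
      (a i : Matrix (Fin 2) (Fin 2) F) 0 1 * (a i : Matrix (Fin 2) (Fin 2) F) 1 0 = 1 := fun i => by
    rw [← det_fin_two]; exact (a i).2
  congr 1 <;> ext i j <;> rcases eq_or_ne i j with rfl | hij <;>
    simp_all <;>
    first
    | linear_combination hd i
    | linear_combination -(hd i)
    | ring

/-- Block diagonal elements. -/
def blkSp : (Fin m → SL₂) →* Sp :=
  MonoidHom.codRestrict ((blk (m := m) (F := F)).comp
    ((Matrix.SpecialLinearGroup.toGL.comp (MonoidHom.id SL₂)).compLeft (Fin m) |>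
      fun f => ((Units.coeHom (Matrix (Fin 2) (Fin 2) F)).compLeft (Fin m)).comp f))
    _ blk_mem

theorem coe_blkSp (a : Fin m → SL₂) :
    (blkSp a : Matrix (Fin m ⊕ Fin m) (Fin m ⊕ Fin m) F) =
      blk (fun i => (a i : Matrix (Fin 2) (Fin 2) F)) := rfl

theorem pmat_mem (σ : Perm (Fin m)) : pmat (F := F) σ ∈ Matrix.symplecticGroup (Fin m) F := by
  rw [SymplecticGroup.mem_iff, pmat_apply]
  change _ * _ * (Equiv.sumCongr σ σ).symm.toPEquiv.toMatrixᵀ = _
  rw [← PEquiv.toMatrix_symm, ← Equiv.toPEquiv_symm, PEquiv.toMatrix_toPEquiv_mul,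
    PEquiv.mul_toMatrix_toPEquiv, J]
  ext (i | i) (j | j) <;> simp [Matrix.one_apply]

/-- Permutations of the blocks. -/
def pmatSp : Perm (Fin m) →* Sp := MonoidHom.codRestrict pmat _ pmat_mem

theorem compat : Compat (blkSp (m := m) (F := F)) pmatSp :=
  fun σ _ => Subtype.ext (pmat_mul_blk σ _)

theorem injective (a : Fin m → SL₂) (σ : Perm (Fin m)) (h : blkSp a * pmatSp σ = 1) :
    a = 1 ∧ σ = 1 := by
  obtain ⟨h1, h2⟩ := eq_one_of_blk_mul_pmat _ σ (congrArg Subtype.val h)
  exact ⟨funext fun i => Subtype.ext (congrFun h1 i), h2⟩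

theorem stable (W : Subgroup SL₂) (C : Subgroup (Perm (Fin m))) :
    Stable (Subgroup.pi Set.univ fun _ => W) C :=
  fun σ _ _ ha i _ => ha (σ.symm i) trivial

variable [Fintype F]

theorem factorization_card (hodd : Odd (Fintype.card F)) :
    (Nat.card Sp).factorization 2 =
      m * (Nat.card SL₂).factorization 2 + m.factorial.factorization 2 := by
  have h1 : 1 < Fintype.card F := Fintype.one_lt_card
  have hn : ¬2 ∣ Fintype.card F := fun h => Nat.not_even_iff_odd.2 hodd (even_iff_two_dvd.2 h)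
  have hne : ∀ k : ℕ, k ≠ 0 → Fintype.card F ^ k - 1 ≠ 0 := fun k hk => by
    have := Nat.one_lt_pow hk h1
    omega
  rw [CfsgLib.Classical.Symp.card_symplecticGroup, CfsgLib.SL2.card_SL,
    Nat.factorization_mul (by positivity) (Finset.prod_ne_zero_iff.2 fun k _ => hne _ (by omega)),
    Nat.factorization_mul (by omega) (hne 2 (by omega)), Nat.factorization_pow]
  simp only [Finsupp.coe_add, Pi.add_apply, Finsupp.coe_smul, Pi.smul_apply,
    Nat.factorization_eq_zero_of_not_dvd hn, smul_eq_mul, mul_zero, zero_add,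
    factorization_prod_range h1 hodd]

theorem sqDer_sylow (hodd : Odd (Fintype.card F)) (P : Sylow 2 Sp) :
    ∀ x : (P : Subgroup Sp), x ^ 2 ∈ commutator (P : Subgroup Sp) := by
  classical
  haveI : Fact (Nat.Prime 2) := ⟨Nat.prime_two⟩
  have h2 : (2 : F) ≠ 0 := CfsgLib.SL2.two_ne_zero_iff_odd.2 hodd
  obtain ⟨W⟩ := (inferInstance : Nonempty (Sylow 2 SL₂))
  obtain ⟨C⟩ := (inferInstance : Nonempty (Sylow 2 (Perm (Fin m))))
  obtain ⟨k, hk, ⟨e⟩⟩ := CfsgLib.SL2.sylow_two_quaternion h2 W
  have hst := stable (W : Subgroup SL₂) (C : Subgroup (Perm (Fin m)))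
  refine sqDer_sylow_two (monoSub blkSp pmatSp compat hst) ?_ ?_ P
  · have hD : Nat.card (Subgroup.pi Set.univ fun _ : Fin m => (W : Subgroup SL₂)) =
        Nat.card (W : Subgroup SL₂) ^ m := by
      rw [Nat.card_congr (show (Subgroup.pi Set.univ fun _ : Fin m => (W : Subgroup SL₂)) ≃
          (Fin m → (W : Subgroup SL₂)) from
        { toFun := fun a i => ⟨a.1 i, a.2 i trivial⟩, invFun := fun a => ⟨fun i => a i, fun i _ => (a i).2⟩,
          left_inv := fun _ => rfl, right_inv := fun _ => rfl }), Nat.card_fun, Nat.card_fin]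
    rw [card_monoSub compat hst injective, hD, W.card_eq_multiplicity, card_sylow_perm, ← pow_mul,
      ← pow_add, factorization_card hodd, mul_comm]
  · refine sqDer_monoSub compat hst _ (subset_refl _) Subgroup.subset_closure ?_ (sylow_perm_gen m C)
    intro a ha
    exact sq_mem_of_pointwise compat hst (fun _ => (W : Subgroup SL₂)) le_rfl
      (fun _ _ hw => sq_mem_commutator_of_quaternion hk e hw) (fun i => ha i trivial)

end CfsgLib.SymSylow.SympTwo
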