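import Mathlib
import Cfsg.Agent.SymSylow.SympTwo
import Cfsg.Agent.Classical.Symp.Form
import Cfsg.Agent.TwoRank.Eigen

/-!
Elementary abelian 2-subgroups of `Sp_{2m}(q)`, `q` odd: rank at most `m`, attained by a normal
subgroup of a Sylow 2-subgroup.
-/

set_option autoImplicit false

namespace CfsgLib.SymSylow.SympTwo

open Matrix Equiv CfsgLib.SymSylow.BlockMono CfsgLib.SymSylow.SqDer

variable {m : ℕ} {F : Type*} [Field F]

local notation "SL₂" => Matrix.SpecialLinearGroup (Fin 2) F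
local notation "Sp" => Matrix.symplecticGroup (Fin m) F
local notation "Mat" => Matrix (Fin m ⊕ Fin m) (Fin m ⊕ Fin m) F

theorem card_le_two_pow {A : Type*} [Group A] [Finite A] (h2 : (2 : F) ≠ 0)
    (ρ : A →* Sp) (hρ : Function.Injective ρ) (hc : ∀ a b : A, a * b = b * a)
    (hinv : ∀ a : A, a * a = 1) : Nat.card A ≤ 2 ^ m := by
  classical
  obtain ⟨b, s, hs, hinj⟩ := CfsgLib.TwoRank.exists_sign_basis h2
    ((Submonoid.subtype _).comp ρ : A →* Mat) (Subtype.val_injective.comp hρ) hc hinv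
  let χ : Fin m ⊕ Fin m → (A → ℤˣ) := fun i a => s a i
  have hpart : ∀ i, ∃ j, j ≠ i ∧ χ j = χ i := by
    intro i
    obtain ⟨j, hj⟩ : ∃ j, Cfsg.sympForm m F (b i) (b j) ≠ 0 := by
      by_contra hne
      push Not at hne
      obtain ⟨z, hz⟩ := CfsgLib.Classical.Symp.exists_form_eq_one (b.ne_zero i)
      rw [← b.sum_repr z, CfsgLib.Classical.Symp.form_sum_right] at hz
      simp [CfsgLib.Classical.Symp.form_smul_right, hne] at hz
    refine ⟨j, ?_, ?_⟩
    · rintro rfl
      exact hj (CfsgLib.Classical.Symp.form_self _)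
    · funext a
      refine CfsgLib.TwoRank.sign_cast_inj h2 ?_
      have h := ((CfsgLib.Classical.Symp.mem_symplecticGroup_iff_form _).1 (ρ a).2) (b i) (b j)
      have hi : (ρ a : Mat) *ᵥ b i = ((s a i : ℤ) : F) • b i := hs a i
      have hj' : (ρ a : Mat) *ᵥ b j = ((s a j : ℤ) : F) • b j := hs a j
      rw [hi, hj', CfsgLib.Classical.Symp.form_smul_left, CfsgLib.Classical.Symp.form_smul_right,
        ← mul_assoc] at h
      have h1 : ((s a i : ℤ) : F) * ((s a j : ℤ) : F) = 1 ∨ ((s a j : ℤ) : F) * ((s a i : ℤ) : F) = 1 := by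
        rcases eq_or_ne (((s a j : ℤ) : F) * ((s a i : ℤ) : F)) 1 with e | e
        · exact Or.inr e
        · exact Or.inl ((mul_eq_right₀ hj).1 h)
      have hsq : ((s a i : ℤ) : F) * ((s a i : ℤ) : F) = 1 := by
        rw [← Int.cast_mul, ← Units.val_mul, ← sq, Int.units_sq]; simp
      show ((s a j : ℤ) : F) = ((s a i : ℤ) : F)
      rcases h1 with e | e
      · linear_combination ((s a i : ℤ) : F) * e - ((s a j : ℤ) : F) * hsq
      · linear_combination ((s a i : ℤ) : F) * e - ((s a j : ℤ) : F) * hsq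
  have hcard : (Finset.univ.image χ).card ≤ m := by
    have h : 2 * (Finset.univ.image χ).card ≤ Fintype.card (Fin m ⊕ Fin m) := by
      rw [← Finset.card_univ, Finset.card_eq_sum_card_image χ Finset.univ, mul_comm, ← smul_eq_mul]
      refine Finset.card_nsmul_le_sum _ _ 2 fun c hc' => ?_
      obtain ⟨i, -, rfl⟩ := Finset.mem_image.1 hc'
      obtain ⟨j, hji, hχ⟩ := hpart i
      refine Finset.one_lt_card.2 ⟨j, by simp [hχ], i, by simp, hji⟩
    simp at h
    omega
  refine (Nat.card_le_card_of_injective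
    (fun a (c : {x // x ∈ Finset.univ.image χ}) => c.1 a) ?_).trans ?_
  · intro a a' h
    exact hinj (funext fun i => congrFun h ⟨χ i, Finset.mem_image_of_mem χ (Finset.mem_univ i)⟩)
  · rw [Nat.card_fun, Nat.card_eq_fintype_card, Nat.card_eq_fintype_card, Fintype.card_units_int,
      Fintype.card_coe]
    exact Nat.pow_le_pow_right (by norm_num) hcard

variable [Fintype F]

theorem neg_one_mem_sylow (W : Sylow 2 SL₂) : (-1 : SL₂) ∈ (W : Subgroup SL₂) := by
  haveI : Fact (Nat.Prime 2) := ⟨Nat.prime_two⟩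
  have hc : ∀ g : SL₂, g * (-1) = (-1) * g := fun g => Subtype.ext (by simp)
  have hn : (Subgroup.zpowers (-1 : SL₂)).Normal := by
    refine ⟨fun x hx g => ?_⟩
    obtain ⟨k, rfl⟩ := hx
    have : g * (-1 : SL₂) ^ k * g⁻¹ = (-1 : SL₂) ^ k := by
      rw [((show Commute g (-1) from hc g).zpow_right k).eq, mul_inv_cancel_right]
    rw [this]
    exact ⟨k, rfl⟩
  have hp : IsPGroup 2 (Subgroup.zpowers (-1 : SL₂)) := by
    rintro ⟨x, hx⟩
    obtain ⟨k, rfl⟩ := hx
    refine ⟨1, Subtype.ext ?_⟩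
    show ((-1 : SL₂) ^ k) ^ (2 ^ 1) = 1
    rw [pow_one, ← zpow_natCast, ← _root_.zpow_mul, mul_comm, _root_.zpow_mul]
    rw [show (-1 : SL₂) ^ ((2 : ℕ) : ℤ) = 1 from by
      rw [zpow_natCast, sq]; exact Subtype.ext (by simp), _root_.one_zpow]
  have h := W.is_maximal' (W.isPGroup'.to_sup_of_normal_right hp) le_sup_left
  exact h ▸ Subgroup.mem_sup_right (Subgroup.mem_zpowers _)

theorem exists_normal_elementary (hodd : Odd (Fintype.card F)) (S : Sylow 2 Sp) :
    ∃ E : Subgroup (S : Subgroup Sp), E.Normal ∧ IsMulCommutative E ∧ (∀ e ∈ E, e ^ 2 = 1) ∧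
      2 ^ m ≤ Nat.card E := by
  classical
  haveI : Fact (Nat.Prime 2) := ⟨Nat.prime_two⟩
  have h2 : (2 : F) ≠ 0 := CfsgLib.SL2.two_ne_zero_iff_odd.2 hodd
  obtain ⟨W⟩ := (inferInstance : Nonempty (Sylow 2 SL₂))
  obtain ⟨C⟩ := (inferInstance : Nonempty (Sylow 2 (Perm (Fin m))))
  have hst := stable (W : Subgroup SL₂) (C : Subgroup (Perm (Fin m)))
  let M := monoSub blkSp pmatSp compat hst
  have hMcard : Nat.card M = 2 ^ (Nat.card Sp).factorization 2 := by
    have hD : Nat.card (Subgroup.pi Set.univ fun _ : Fin m => (W : Subgroup SL₂)) =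
        Nat.card (W : Subgroup SL₂) ^ m := by
      rw [Nat.card_congr (show (Subgroup.pi Set.univ fun _ : Fin m => (W : Subgroup SL₂)) ≃
          (Fin m → (W : Subgroup SL₂)) from
        { toFun := fun a i => ⟨a.1 i, a.2 i trivial⟩, invFun := fun a => ⟨fun i => a i, fun i _ => (a i).2⟩,
          left_inv := fun _ => rfl, right_inv := fun _ => rfl }), Nat.card_fun, Nat.card_fin]
    rw [card_monoSub compat hst injective, hD, W.card_eq_multiplicity, card_sylow_perm, ← pow_mul,
      ← pow_add, factorization_card hodd, mul_comm]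
  let P₀ : Sylow 2 Sp := Sylow.ofCard M hMcard
  obtain ⟨c, hc⟩ := MulAction.exists_smul_eq Sp P₀ S
  have hS : (S : Subgroup Sp) = M.map (MulAut.conj c).toMonoidHom := by
    rw [← hc, Sylow.coe_subgroup_smul, Subgroup.pointwise_smul_def]
    rfl
  -- the sign pattern subgroup
  have hne : (1 : SL₂) ≠ -1 := fun e => h2 (by
    have e' := congrArg (fun x : SL₂ => (x : Matrix (Fin 2) (Fin 2) F) 0 0) e
    simp at e'
    linear_combination e')
  let U : Subgroup SL₂ :=
    { carrier := {1, -1}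
      one_mem' := Or.inl rfl
      mul_mem' := by rintro x y (rfl | rfl) (rfl | rfl) <;> simp
      inv_mem' := by rintro x (rfl | rfl) <;> simp }
  let T : Subgroup (Fin m → SL₂) := Subgroup.pi Set.univ fun _ => U
  have hT : ∀ a ∈ T, ∀ i, a i = 1 ∨ a i = -1 := fun a ha i => ha i trivial
  have hTm : ∀ a ∈ T, blkSp a ∈ M := fun a ha => base_mem compat hst (a := a) (fun i _ => by
    show a i ∈ (W : Subgroup SL₂)
    rcases hT a ha i with h | h <;> rw [h]
    · exact one_mem _
    · exact neg_one_mem_sylow W)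
  have hTc : ∀ a ∈ T, ∀ b : Fin m → SL₂, b * a = a * b := fun a ha b => funext fun i => by
    rcases hT a ha i with h | h <;> simp [h]
  let φ : T →* (S : Subgroup Sp) := MonoidHom.codRestrict
    ((MulAut.conj c).toMonoidHom.comp (blkSp.comp T.subtype)) _
    (fun a => by rw [hS]; exact Subgroup.mem_map_of_mem _ (hTm a a.2))
  have hφ : Function.Injective φ := by
    intro a b h
    have h' : blkSp (a : Fin m → SL₂) = blkSp b := (MulAut.conj c).injective (congrArg Subtype.val h)
    have h'' := injective ((b : Fin m → SL₂)⁻¹ * (a : Fin m → SL₂)) 1 (by rw [map_mul, map_inv, h', map_one]; simp)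
    exact Subtype.ext (inv_mul_eq_one.1 h''.1).symm
  refine ⟨φ.range, ⟨?_⟩, ⟨⟨?_⟩⟩, ?_, ?_⟩
  · rintro _ ⟨⟨a, ha⟩, rfl⟩ ⟨g, hg⟩
    obtain ⟨x, ⟨w, hw, σ, hσ, rfl⟩, rfl⟩ := hS ▸ hg
    refine ⟨⟨fun i => a (σ.symm i), fun i _ => ha (σ.symm i) trivial⟩, Subtype.ext ?_⟩
    show MulAut.conj c (blkSp fun i => a (σ.symm i)) =
      MulAut.conj c (blkSp w * pmatSp σ) * MulAut.conj c (blkSp a) *
        (MulAut.conj c (blkSp w * pmatSp σ))⁻¹
    rw [← map_inv, ← map_mul, ← map_mul]
    congr 1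
    have key : blkSp w * pmatSp σ * blkSp a * (blkSp w * pmatSp σ)⁻¹ =
        blkSp w * (pmatSp σ * blkSp a) * (pmatSp σ)⁻¹ * (blkSp w)⁻¹ := by simp [mul_assoc]
    rw [key, compat σ a, ← mul_assoc (blkSp w), mul_inv_cancel_right, ← map_inv, ← map_mul, ← map_mul,
      hTc _ (fun i _ => ha (σ.symm i) trivial) w, mul_inv_cancel_right]
  · rintro ⟨_, a, rfl⟩ ⟨_, b, rfl⟩
    refine Subtype.ext ?_
    show φ a * φ b = φ b * φ a
    rw [← map_mul, ← map_mul]
    exact congrArg φ (Subtype.ext (hTc _ b.2 _))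
  · rintro _ ⟨a, rfl⟩
    rw [← map_pow]
    have : a ^ 2 = 1 := Subtype.ext (funext fun i => by
      show (a : Fin m → SL₂) i ^ 2 = 1
      rcases hT a a.2 i with h | h <;> simp [h, sq])
    rw [this, map_one]
  · rw [← Nat.card_congr (MonoidHom.ofInjective hφ).toEquiv]
    refine le_of_eq_of_le (?_ : 2 ^ m = Nat.card (Fin m → ℤˣ)) (Nat.card_le_card_of_injective
      (fun f : Fin m → ℤˣ => (⟨fun i => if f i = 1 then 1 else -1,
        fun i _ => show (if f i = 1 then (1 : SL₂) else -1) = 1 ∨ (if f i = 1 then (1 : SL₂) else -1) = -1 from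
          (if h : f i = 1 then Or.inl (if_pos h) else Or.inr (if_neg h))⟩ : T)) ?_)
    · rw [Nat.card_fun, Nat.card_eq_fintype_card, Fintype.card_units_int, Nat.card_fin]
    · intro f g h
      funext i
      have h' := congrFun (congrArg Subtype.val h) i
      simp only at h'
      rcases Int.units_eq_one_or (f i) with e | e <;> rcases Int.units_eq_one_or (g i) with e' | e' <;>
        simp_all

end CfsgLib.SymSylow.SympTwo
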