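import Mathlib
import Cfsg.Agent.SymSylow.BlockMonomial
import Cfsg.Agent.SymSylow.NormalRank
import Cfsg.Agent.SymSylow.SympRank
import Cfsg.Agent.TwoRank.Eigen
import Cfsg.Agent.SL2.Sylow

/-!
Sylow 2-subgroups of `GL_n(q)`, `q` odd, as monomial groups, and their normal 2-rank.
-/

set_option autoImplicit false

namespace CfsgLib.SymSylow.GLTwo

open Matrix Equiv CfsgLib.SymSylow.BlockMono CfsgLib.SymSylow.SqDer CfsgLib.SymSylow.NRank

variable {F : Type*} [Field F]

local notation "Mat₂" => Matrix (Fin 2) (Fin 2) F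

theorem factorization_two_of_mod_four {x : ℕ} (h : x % 4 = 2) : x.factorization 2 = 1 := by
  have : x = 2 * (x / 2) := by omega
  rw [this, Nat.factorization_mul (by norm_num) (by omega)]
  simp [Nat.prime_two.factorization_self,
    Nat.factorization_eq_zero_of_not_dvd (show ¬2 ∣ x / 2 by omega)]

theorem pow_mod_four_of_three {q : ℕ} (h : q % 4 = 3) : ∀ k, q ^ (2 * k + 1) % 4 = 3
  | 0 => by simpa using h
  | k + 1 => by
    rw [show 2 * (k + 1) + 1 = (2 * k + 1) + 2 from by ring, pow_add, Nat.mul_mod,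
      pow_mod_four_of_three h k, Nat.pow_mod, h]

theorem factorization_pow_sub_one {q : ℕ} (h1 : 1 < q) (h : q % 4 = 1) {i : ℕ} (hi : i ≠ 0) :
    (q ^ i - 1).factorization 2 = (q - 1).factorization 2 + i.factorization 2 := by
  have hodd : Odd q := Nat.odd_iff.2 (by omega)
  have hp : ∀ j, q ^ j % 4 = 1 := fun j => by simp [Nat.pow_mod, h]
  have hs : ∀ j, j ≠ 0 → (q ^ (2 * j) - 1).factorization 2 = (q ^ j - 1).factorization 2 + 1 := by
    intro j hj
    have h' := Nat.one_lt_pow hj h1
    rw [mul_comm 2 j, pow_mul, ← one_pow 2, Nat.sq_sub_sq, one_pow,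
      Nat.factorization_mul (by omega) (by omega)]
    have := factorization_two_of_mod_four (x := q ^ j + 1) (by have := hp j; omega)
    simp [this, add_comm]
  have a := hs i hi
  have b := hs 1 one_ne_zero
  rw [factorization_pow_two_mul_sub_one h1 hodd hi] at a
  rw [mul_one, pow_one] at b
  omega

section Card

variable [Fintype F]

theorem factorization_card_GL (hodd : Odd (Fintype.card F)) (n : ℕ) :
    (Nat.card (GL (Fin n) F)).factorization 2 =
      ∑ i ∈ Finset.range n, (Fintype.card F ^ (i + 1) - 1).factorization 2 := by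
  obtain ⟨q, hq⟩ : ∃ q, Fintype.card F = q := ⟨_, rfl⟩
  rw [hq] at hodd
  rw [Matrix.card_GL_field, hq]
  have h1 : 1 < q := hq ▸ Fintype.one_lt_card
  have hn : ¬2 ∣ q := fun h => Nat.not_even_iff_odd.2 hodd (even_iff_two_dvd.2 h)
  have e : ∀ i : Fin n, q ^ n - q ^ (i : ℕ) = q ^ (i : ℕ) * (q ^ (n - (i : ℕ)) - 1) := fun i => by
    rw [Nat.mul_sub, mul_one, ← pow_add, Nat.add_sub_cancel' i.2.le]
  have hne : ∀ i : Fin n, q ^ (n - (i : ℕ)) - 1 ≠ 0 := fun i => by
    have := Nat.one_lt_pow (n := n - (i : ℕ)) (by omega) h1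
    omega
  rw [Nat.factorization_prod (fun i _ => by
    rw [e i]; exact Nat.mul_ne_zero (by positivity) (hne i)), Finsupp.finset_sum_apply]
  refine (Finset.sum_congr rfl (fun (i : Fin n) _ => show (q ^ n - q ^ (i : ℕ)).factorization 2 =
    (q ^ (n - (i : ℕ)) - 1).factorization 2 by
      rw [e i, Nat.factorization_mul (by positivity) (hne i), Nat.factorization_pow]
      simp [Nat.factorization_eq_zero_of_not_dvd hn])).trans ?_
  rw [Fin.sum_univ_eq_sum_range (fun i => (q ^ (n - i) - 1).factorization 2) n]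
  rw [← Finset.sum_range_reflect (fun i => (q ^ (i + 1) - 1).factorization 2) n]
  refine Finset.sum_congr rfl fun i hi => ?_
  have := Finset.mem_range.1 hi
  rw [show n - 1 - i + 1 = n - i from by omega]

theorem factorization_card_GL_one (h : Fintype.card F % 4 = 1) (n : ℕ) :
    (Nat.card (GL (Fin n) F)).factorization 2 =
      n * (Fintype.card F - 1).factorization 2 + n.factorial.factorization 2 := by
  rw [factorization_card_GL (Nat.odd_iff.2 (by omega))]
  induction n with
  | zero => simp
  | succ n ih =>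
    rw [Finset.sum_range_succ, ih, factorization_pow_sub_one Fintype.one_lt_card h (by omega),
      Nat.factorial_succ, Nat.factorization_mul (by omega) (Nat.factorial_ne_zero n)]
    simp only [Finsupp.coe_add, Pi.add_apply]
    ring

theorem factorization_card_GL_three (h : Fintype.card F % 4 = 3) (k r : ℕ) (hr : r ≤ 1) :
    (Nat.card (GL (Fin (k + k + r)) F)).factorization 2 =
      k * (Nat.card (GL (Fin 2) F)).factorization 2 + k.factorial.factorization 2 + r := by
  have hodd : Odd (Fintype.card F) := Nat.odd_iff.2 (by omega)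
  have h1 : 1 < Fintype.card F := Fintype.one_lt_card
  have ho : ∀ j, (Fintype.card F ^ (2 * j + 1) - 1).factorization 2 = 1 := fun j => by
    refine factorization_two_of_mod_four ?_
    have := pow_mod_four_of_three h j
    omega
  have h0 := ho 0
  rw [show 2 * 0 + 1 = 1 from rfl, pow_one] at h0
  rw [factorization_card_GL hodd, factorization_card_GL hodd]
  rw [show Finset.range 2 = {0, 1} from rfl, Finset.sum_pair (by norm_num)]
  simp only [zero_add, pow_one, h0]
  have hk : ∑ i ∈ Finset.range (k + k), (Fintype.card F ^ (i + 1) - 1).factorization 2 =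
      k * (1 + (Fintype.card F ^ (1 + 1) - 1).factorization 2) + k.factorial.factorization 2 := by
    induction k with
    | zero => simp
    | succ k ih =>
      rw [show k + 1 + (k + 1) = (k + k) + 1 + 1 from by ring, Finset.sum_range_succ,
        Finset.sum_range_succ, ih, show k + k + 1 = 2 * k + 1 from by ring, ho k,
        show 2 * k + 1 + 1 = 2 * (k + 1) from by ring,
        factorization_pow_two_mul_sub_one h1 hodd (by omega : k + 1 ≠ 0),
        Nat.factorial_succ, Nat.factorization_mul (by omega) (Nat.factorial_ne_zero k)]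
      simp only [Finsupp.coe_add, Pi.add_apply]
      ring
  rcases Nat.le_one_iff_eq_zero_or_eq_one.1 hr with rfl | rfl
  · simpa using hk
  · rw [Finset.sum_range_succ, hk, show k + k + 1 = 2 * k + 1 from by ring, ho k]

end Card

section Homs

variable {k : ℕ}

/-- Block diagonal elements. -/
def blkGL : (Fin k → GL (Fin 2) F) →* GL (Fin k ⊕ Fin k) F :=
  ((blk (m := k) (F := F)).comp ((Units.coeHom Mat₂).compLeft (Fin k))).toHomUnits

/-- Block permutations. -/
def pmatGL : Perm (Fin k) →* GL (Fin k ⊕ Fin k) F := (pmat (m := k) (F := F)).toHomUnits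

theorem compatGL : Compat (blkGL (k := k) (F := F)) pmatGL :=
  fun σ _ => Units.ext (pmat_mul_blk σ _)

theorem injectiveGL (a : Fin k → GL (Fin 2) F) (σ : Perm (Fin k)) (h : blkGL a * pmatGL σ = 1) :
    a = 1 ∧ σ = 1 := by
  obtain ⟨h1, h2⟩ := eq_one_of_blk_mul_pmat _ σ (congrArg Units.val h)
  exact ⟨funext fun i => Units.ext (congrFun h1 i), h2⟩

/-- Diagonal elements. -/
def diagGL : (Fin k → Fˣ) →* GL (Fin k) F :=
  ((Matrix.diagonalRingHom (Fin k) F).toMonoidHom.comp ((Units.coeHom F).compLeft (Fin k))).toHomUnits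

/-- Permutation matrices. -/
def permGL : Perm (Fin k) →* GL (Fin k) F := (permMatrixHom (n := Fin k) (R := F)).toHomUnits

theorem compatDiag : Compat (diagGL (k := k) (F := F)) permGL := by
  intro σ a
  refine Units.ext ?_
  show σ⁻¹.permMatrix F * diagonal (fun i => (a i : F)) =
    diagonal (fun i => (a (σ.symm i) : F)) * σ⁻¹.permMatrix F
  rw [PEquiv.toMatrix_toPEquiv_mul, PEquiv.mul_toMatrix_toPEquiv]
  ext i j
  simp [diagonal_apply, Perm.inv_def, Equiv.symm_apply_eq]

theorem injectiveDiag (a : Fin k → Fˣ) (σ : Perm (Fin k)) (h : diagGL a * permGL σ = 1) :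
    a = 1 ∧ σ = 1 := by
  have h' : diagonal (fun i => (a i : F)) * σ⁻¹.permMatrix F = 1 := congrArg Units.val h
  rw [PEquiv.mul_toMatrix_toPEquiv] at h'
  have hσ : σ = 1 := by
    refine Equiv.ext fun i => ?_
    by_contra hne
    have h2 := congrFun (congrFun h' (σ i)) (σ i)
    simp [Perm.inv_def, diagonal_apply] at h2
    rw [if_neg (fun e => hne e.symm)] at h2
    exact zero_ne_one h2
  subst hσ
  refine ⟨funext fun i => Units.ext ?_, rfl⟩
  exact ((diagonal_apply_eq (fun i => (a i : F)) i).symm.trans (congrFun (congrFun h' i) i)).trans (one_apply_eq i)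

variable {α β : Type*} [Fintype α] [DecidableEq α] [Fintype β] [DecidableEq β]

/-- Block sum. -/
def joinGL : GL α F × GL β F →* GL (α ⊕ β) F :=
  MonoidHom.toHomUnits
    { toFun := fun p => fromBlocks (p.1 : Matrix α α F) 0 0 (p.2 : Matrix β β F)
      map_one' := by simp
      map_mul' := fun p q => by simp [fromBlocks_multiply] }

theorem joinGL_injective : Function.Injective (joinGL (F := F) (α := α) (β := β)) := by
  intro p q h
  have h' : fromBlocks (p.1 : Matrix α α F) 0 0 (p.2 : Matrix β β F) =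
      fromBlocks (q.1 : Matrix α α F) 0 0 (q.2 : Matrix β β F) := congrArg Units.val h
  obtain ⟨e1, -, -, e2⟩ := fromBlocks_inj.1 h'
  exact Prod.ext (Units.ext e1) (Units.ext e2)

/-- Change of coordinates. -/
def reindexGL (e : α ≃ β) : GL α F ≃* GL β F :=
  Units.mapEquiv (reindexAlgEquiv F F e).toMulEquiv

end Homs

theorem involution_cases {a : Mat₂} (h : a * a = 1) :
    a = 1 ∨ a = -1 ∨ (a.trace = 0 ∧ a.det = -1) := by
  have h00 := congrFun (congrFun h 0) 0
  have h01 := congrFun (congrFun h 0) 1
  have h10 := congrFun (congrFun h 1) 0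
  have h11 := congrFun (congrFun h 1) 1
  simp [mul_apply, Fin.sum_univ_two] at h00 h01 h10 h11
  by_cases ht : a 0 0 + a 1 1 = 0
  · refine Or.inr (Or.inr ⟨by rw [trace_fin_two]; exact ht, ?_⟩)
    rw [det_fin_two]
    linear_combination -h00 + a 0 0 * ht
  · have hb : a 0 1 = 0 := (mul_eq_zero.1 (show a 0 1 * (a 0 0 + a 1 1) = 0 by
      linear_combination h01)).resolve_right ht
    have hc : a 1 0 = 0 := (mul_eq_zero.1 (show a 1 0 * (a 0 0 + a 1 1) = 0 by
      linear_combination h10)).resolve_right ht
    have hd : a 0 0 = a 1 1 := by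
      have := (mul_eq_zero.1 (show (a 0 0 - a 1 1) * (a 0 0 + a 1 1) = 0 by
        linear_combination h00 - h11)).resolve_right ht
      linear_combination this
    rw [hb, zero_mul, add_zero] at h00
    rcases mul_self_eq_one_iff.1 h00 with e | e
    · left; ext i j; fin_cases i <;> fin_cases j <;> simp [hb, hc, ← hd, e]
    · right; left; ext i j; fin_cases i <;> fin_cases j <;> simp [hb, hc, ← hd, e]

theorem sq_ne_neg_one_of_commute (h2 : (2 : F) ≠ 0) (hi : ∀ c : F, c * c ≠ -1) {a x : Mat₂}
    (ha : a * a = 1) (htr : a.trace = 0) (hx : x.det = 1) (hc : x * a = a * x) : x * x ≠ -1 := by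
  intro hs
  have hid : (2 : F) • x = x.trace • (1 : Mat₂) + (x * a).trace • a := by
    have h1 : x * a + a * x = x.trace • a + (x * a).trace • (1 : Mat₂) := by
      rw [trace_fin_two] at htr
      ext i j
      fin_cases i <;> fin_cases j <;> simp [mul_apply, Fin.sum_univ_two, trace_fin_two] <;>
        first
        | linear_combination (x 0 0 - x 1 1) * htr
        | linear_combination (x 0 1) * htr
        | linear_combination (x 1 0) * htr
        | linear_combination -(x 0 0 - x 1 1) * htr
        | linear_combination (x 1 1 - x 0 0) * htr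
        | linear_combination (x 1 1) * htr
        | linear_combination -(x 1 1) * htr
        | linear_combination (x 0 0) * htr
        | linear_combination -(x 0 0) * htr
        | ring1
    rw [← hc, ← two_smul F (x * a)] at h1
    have h3 := congrArg (· * a) h1
    simpa [Matrix.add_mul, Matrix.smul_mul, mul_assoc, ha, add_comm] using h3
  -- `x = α + β a` with `α² - β² = 1` and `x² = -1`
  set α := x.trace / 2 with hα
  set β := (x * a).trace / 2 with hβ
  have hxe : x = α • (1 : Mat₂) + β • a := by
    have h := congrArg ((2 : F)⁻¹ • ·) hid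
    simp only [smul_smul, inv_mul_cancel₀ h2, one_smul, smul_add] at h
    rw [hα, hβ, div_eq_inv_mul, div_eq_inv_mul]
    exact h
  rw [trace_fin_two] at htr
  have hd : α * α + β * β * a.det = 1 := by
    rw [hxe, det_fin_two] at hx
    rw [det_fin_two]
    simp at hx
    linear_combination hx - α * β * htr
  have hda : a.det = -1 ∨ β = 0 := by
    rcases involution_cases ha with e | e | e
    · right
      rw [e] at htr; simp at htr
      exact absurd (show (2 : F) = 0 by linear_combination htr) h2
    · right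
      rw [e] at htr; simp at htr
      exact absurd (show (2 : F) = 0 by linear_combination -htr) h2
    · exact Or.inl e.2
  have hsq : x * x = (α * α + β * β) • (1 : Mat₂) + (2 * α * β) • a := by
    rw [hxe]
    simp [Matrix.add_mul, Matrix.mul_add, smul_smul, ha]
    module
  rw [hs] at hsq
  have e00 := congrFun (congrFun hsq 0) 0
  have e11 := congrFun (congrFun hsq 1) 1
  simp at e00 e11
  have hsum : α * α + β * β = -1 :=
    mul_left_cancel₀ h2 (by linear_combination -e00 - e11 - 2 * α * β * htr)
  rcases hda with h | h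
  · rw [h] at hd
    have hα0 : α = 0 := mul_self_eq_zero.1
      ((mul_eq_zero.1 (show (2 : F) * (α * α) = 0 by linear_combination hd + hsum)).resolve_left h2)
    rw [hα0] at hsum
    exact hi β (by linear_combination hsum)
  · rw [h] at hsum
    exact hi α (by linear_combination hsum)

variable [Fintype F]

local notation "SL₂" => Matrix.SpecialLinearGroup (Fin 2) F

theorem eight_le_card_sylow (hodd : Odd (Fintype.card F)) (Q : Sylow 2 SL₂) :
    8 ≤ Nat.card (Q : Subgroup SL₂) := by
  haveI : Fact (Nat.Prime 2) := ⟨Nat.prime_two⟩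
  refine Nat.le_of_dvd Nat.card_pos (Q.pow_dvd_card_of_pow_dvd_card (n := 3) ?_)
  rw [CfsgLib.SL2.card_SL]
  exact (Nat.eight_dvd_sq_sub_one_of_odd hodd).mul_left _

theorem sl_sq_eq_one (h2 : (2 : F) ≠ 0) {x : SL₂} (h : x * x = 1) : x = 1 ∨ x = -1 := by
  rcases involution_cases (congrArg Subtype.val h) with e | e | e
  · exact Or.inl (Subtype.ext e)
  · exact Or.inr (Subtype.ext e)
  · exfalso
    have := x.2.symm.trans e.2
    exact h2 (by linear_combination this)

/-- An involution of `GL_2` whose commutators with the quaternion group `Q` square to one is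
scalar. -/
theorem eq_or_eq_neg_of_local (h4 : Fintype.card F % 4 = 3) (Q : Sylow 2 SL₂) (a : GL (Fin 2) F)
    (ha : a * a = 1)
    (h : ∀ x ∈ (Q : Subgroup SL₂).map Matrix.SpecialLinearGroup.toGL,
      (x * a * x⁻¹ * a⁻¹) * (x * a * x⁻¹ * a⁻¹) = 1) : a = 1 ∨ a = -1 := by
  classical
  have hodd : Odd (Fintype.card F) := Nat.odd_iff.2 (by omega)
  have h2 : (2 : F) ≠ 0 := CfsgLib.SL2.two_ne_zero_iff_odd.2 hodd
  have hi : ∀ c : F, c * c ≠ -1 := by
    intro c hc
    exact (FiniteField.isSquare_neg_one_iff.1 ⟨c, hc.symm⟩) h4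
  rcases involution_cases (congrArg Units.val ha) with e | e | ⟨htr, -⟩
  · exact Or.inl (Units.ext e)
  · exact Or.inr (Units.ext e)
  exfalso
  have haa : (a : Mat₂) * a = 1 := congrArg Units.val ha
  have hainv : a⁻¹ = a := inv_eq_of_mul_eq_one_right ha
  let κ : SL₂ → GL (Fin 2) F := fun x => Matrix.SpecialLinearGroup.toGL x
  have hcom : ∀ x ∈ (Q : Subgroup SL₂), κ x * a = a * κ x ∨ κ x * a = -(a * κ x) := by
    intro x hx
    have hc := h (κ x) (Subgroup.mem_map_of_mem _ hx)
    let c : SL₂ := ⟨((κ x * a * (κ x)⁻¹ * a⁻¹ : GL (Fin 2) F) : Mat₂), by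
      have hd : Matrix.GeneralLinearGroup.det (κ x * a * (κ x)⁻¹ * a⁻¹) = 1 := by
        simp [mul_comm, mul_assoc, mul_left_comm]
      rw [← Matrix.GeneralLinearGroup.val_det_apply, hd, Units.val_one]⟩
    have hc' : c * c = 1 := Subtype.ext (congrArg Units.val hc)
    have hkey : κ x * a = (κ x * a * (κ x)⁻¹ * a⁻¹) * (a * κ x) := by simp [mul_assoc]
    rcases sl_sq_eq_one h2 hc' with e | e
    · left
      have : κ x * a * (κ x)⁻¹ * a⁻¹ = 1 := Units.ext (congrArg Subtype.val e)
      rw [hkey, this, one_mul]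
    · right
      have : κ x * a * (κ x)⁻¹ * a⁻¹ = -1 := Units.ext (congrArg Subtype.val e)
      rw [hkey, this, neg_one_mul]
  have hκ : ∀ x y : SL₂, κ (x * y) = κ x * κ y := fun x y => map_mul _ x y
  -- elements commuting with `a` square to one
  have hK : ∀ x ∈ (Q : Subgroup SL₂), κ x * a = a * κ x → x = 1 ∨ x = -1 := by
    intro x hx hxa
    obtain ⟨j, hj⟩ := Q.isPGroup' ⟨x, hx⟩
    have hj' : x ^ 2 ^ (j + 1) = 1 := by
      rw [pow_succ, pow_mul]
      rw [show x ^ 2 ^ j = 1 from congrArg Subtype.val hj, one_pow]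
    have hpow : ∀ l, κ (x ^ l) * a = a * κ (x ^ l) := fun l => by
      simp only [κ, map_pow]
      exact ((show Commute (κ x) a from hxa).pow_left l).eq
    have hmain : ∀ j, x ^ 2 ^ (j + 1) = 1 → x * x = 1 := by
      intro j
      induction j with
      | zero => intro e; rwa [zero_add, pow_one, sq] at e
      | succ j ih =>
        intro e
        refine ih ?_
        have e' : x ^ 2 ^ (j + 1) * x ^ 2 ^ (j + 1) = 1 := by
          rw [← pow_add, ← two_mul, ← pow_succ', e]
        rcases sl_sq_eq_one h2 e' with f | f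
        · exact f
        · exfalso
          have f' : x ^ 2 ^ j * x ^ 2 ^ j = -1 := by rw [← pow_add, ← two_mul, ← pow_succ', f]
          exact sq_ne_neg_one_of_commute h2 hi haa htr (x ^ 2 ^ j).2
            (congrArg Units.val (hpow (2 ^ j))) (congrArg Subtype.val f')
    exact sl_sq_eq_one h2 (hmain j hj')
  obtain ⟨x0, hx0⟩ : ∃ x0, ∀ x ∈ (Q : Subgroup SL₂), x = 1 ∨ x = -1 ∨ x = x0 ∨ x = -x0 := by
    by_cases hx : ∀ x ∈ (Q : Subgroup SL₂), κ x * a = a * κ x
    · exact ⟨1, fun x hx' => (hK x hx' (hx x hx')).elim Or.inl fun e => Or.inr (Or.inl e)⟩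
    · push Not at hx
      obtain ⟨x0, hx0, hx0a⟩ := hx
      have hx0' := (hcom x0 hx0).resolve_left hx0a
      refine ⟨x0, fun x hx => ?_⟩
      rcases hcom x hx with e | e
      · exact (hK x hx e).elim Or.inl fun e => Or.inr (Or.inl e)
      · have hc : κ (x0⁻¹ * x) * a = a * κ (x0⁻¹ * x) := by
          have h0 : (κ x0)⁻¹ * a = -(a * (κ x0)⁻¹) := by
            have := congrArg (fun z => (κ x0)⁻¹ * z * (κ x0)⁻¹) hx0'
            simp [mul_assoc] at this
            rw [this, neg_neg]
          rw [hκ, show κ x0⁻¹ = (κ x0)⁻¹ from map_inv _ _, mul_assoc, e, mul_neg, ← mul_assoc, h0,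
            neg_mul, neg_neg, mul_assoc]
        rcases hK _ (mul_mem (inv_mem hx0) hx) hc with f | f
        · exact Or.inr (Or.inr (Or.inl (inv_mul_eq_one.1 f).symm))
        · refine Or.inr (Or.inr (Or.inr ?_))
          rw [← mul_inv_cancel_left x0 x, f]
          simp
  have hle : Nat.card (Q : Subgroup SL₂) ≤ ({1, -1, x0, -x0} : Finset SL₂).card := by
    rw [← Nat.card_eq_finsetCard]
    refine Nat.card_le_card_of_injective (fun x => ⟨x.1, ?_⟩) fun x y e =>
      Subtype.ext (by simpa using e)
    simpa using hx0 x.1 x.2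
  have := eight_le_card_sylow hodd Q
  have := hle.trans Finset.card_le_four
  omega

theorem normalRankEq_GL_one (h4 : Fintype.card F % 4 = 1) (n : ℕ)
    (S : Sylow 2 (GL (Fin n) F)) : NormalRankEq (S : Subgroup (GL (Fin n) F)) n := by
  classical
  haveI : Fact (Nat.Prime 2) := ⟨Nat.prime_two⟩
  have h2 : (2 : F) ≠ 0 := CfsgLib.SL2.two_ne_zero_iff_odd.2 (Nat.odd_iff.2 (by omega))
  have hp : IsPGroup 2 (Subgroup.zpowers (-1 : Fˣ)) := by
    refine IsPGroup.of_card (n := 1) ?_
    rw [Nat.card_zpowers, orderOf_eq_prime_iff.2 ⟨neg_one_sq, fun e => h2 (by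
      have e' : (-1 : F) = 1 := congrArg Units.val e
      linear_combination -e')⟩, pow_one]
  obtain ⟨W, hW⟩ := hp.exists_le_sylow
  obtain ⟨C⟩ := (inferInstance : Nonempty (Sylow 2 (Perm (Fin n))))
  refine normalRankEq_sylow (monoSub diagGL permGL compatDiag
    (stable_pi (W : Subgroup Fˣ) (C : Subgroup (Perm (Fin n))))) ?_ ⟨?_, ?_⟩ S
  · rw [card_monoSub compatDiag _ injectiveDiag, card_pi, W.card_eq_multiplicity, card_sylow_perm,
      ← pow_mul, ← pow_add, factorization_card_GL_one h4, Nat.card_fin, Nat.card_units,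
      Nat.card_eq_fintype_card, mul_comm]
  · have := exists_normal_pi compatDiag (C := (C : Subgroup (Perm (Fin n)))) injectiveDiag (z := -1)
      (hW (Subgroup.mem_zpowers _)) (fun w => mul_comm _ _) (by simp) (fun e => h2 (by
      have e' : (-1 : F) = 1 := congrArg Units.val e
      linear_combination -e'))
    rwa [Nat.card_fin] at this
  · intro E _ hE
    let ρ : E →* Matrix (Fin n) (Fin n) F :=
      (Units.coeHom _).comp ((Subgroup.subtype _).comp E.subtype)
    obtain ⟨b, s, -, hinj⟩ := CfsgLib.TwoRank.exists_sign_basis h2 ρ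
      (fun x y e => Subtype.ext (Subtype.ext (Units.ext e)))
      (fun x y => hE.1.is_comm.comm x y)
      (fun x => Subtype.ext (by simpa [sq] using hE.2 x x.2))
    refine (Nat.card_le_card_of_injective s hinj).trans ?_
    rw [Nat.card_fun, Nat.card_eq_fintype_card, Fintype.card_units_int, Nat.card_fin]

theorem normalRankEq_GL_three (h4 : Fintype.card F % 4 = 3) (k r : ℕ) (hr : r ≤ 1)
    (S : Sylow 2 (GL (Fin (k + k + r)) F)) :
    NormalRankEq (S : Subgroup (GL (Fin (k + k + r)) F)) (k + r) := by
  classical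
  haveI : Fact (Nat.Prime 2) := ⟨Nat.prime_two⟩
  have hodd : Odd (Fintype.card F) := Nat.odd_iff.2 (by omega)
  have h2 : (2 : F) ≠ 0 := CfsgLib.SL2.two_ne_zero_iff_odd.2 hodd
  obtain ⟨Q⟩ := (inferInstance : Nonempty (Sylow 2 SL₂))
  obtain ⟨W, hW⟩ := (Q.isPGroup'.map (Matrix.SpecialLinearGroup.toGL (n := Fin 2) (R := F))).exists_le_sylow
  obtain ⟨C⟩ := (inferInstance : Nonempty (Sylow 2 (Perm (Fin k))))
  let M := monoSub blkGL pmatGL compatGL (stable_pi (W : Subgroup (GL (Fin 2) F)) (C : Subgroup (Perm (Fin k))))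
  have hMcard : Nat.card M = 2 ^ (k * (Nat.card (GL (Fin 2) F)).factorization 2 + k.factorial.factorization 2) := by
    rw [card_monoSub compatGL _ injectiveGL, card_pi, W.card_eq_multiplicity, card_sylow_perm,
      ← pow_mul, ← pow_add, Nat.card_fin, mul_comm]
  have hM : NormalRankEq M k := by
    have hz : (-1 : GL (Fin 2) F) ∈ (W : Subgroup (GL (Fin 2) F)) :=
      hW ⟨-1, CfsgLib.SymSylow.SympTwo.neg_one_mem_sylow Q, Units.ext (by simp)⟩
    have hz1 : (-1 : GL (Fin 2) F) ≠ 1 := fun e => h2 (by
      have e' := congrArg (fun g : GL (Fin 2) F => (g : Matrix (Fin 2) (Fin 2) F) 0 0) e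
      simp at e'
      linear_combination -e')
    refine ⟨?_, fun E hn hE => ?_⟩
    · have := exists_normal_pi compatGL (C := (C : Subgroup (Perm (Fin k)))) injectiveGL hz
        (fun w => by simp) (by simp) hz1
      rwa [Nat.card_fin] at this
    · obtain ⟨x, hx, hx'⟩ : ∃ x ∈ (Q : Subgroup SL₂), x * x ≠ 1 := by
        by_contra hne
        push Not at hne
        have hle : Nat.card (Q : Subgroup SL₂) ≤ ({1, -1} : Finset SL₂).card := by
          rw [← Nat.card_eq_finsetCard]
          refine Nat.card_le_card_of_injective (fun x => ⟨x.1, ?_⟩) fun x y e =>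
            Subtype.ext (by simpa using e)
          simpa using sl_sq_eq_one h2 (hne x.1 x.2)
        have := eight_le_card_sylow hodd Q
        have := hle.trans Finset.card_le_two
        omega
      have h' := card_le_of_local compatGL injectiveGL hW ⟨_, Subgroup.mem_map_of_mem _ hx,
        fun e => hx' (Matrix.SpecialLinearGroup.toGL_injective (by rw [map_mul, e, map_one]))⟩
        (fun a _ ha h => eq_or_eq_neg_of_local h4 Q a ha h) E hn hE
      rwa [Nat.card_fin] at h'
  let sg : (Fin r → ℤˣ) →* GL (Fin r) F :=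
    diagGL.comp ((Units.map (Int.castRingHom F).toMonoidHom).compLeft (Fin r))
  have hsg : Function.Injective sg := fun f g e => funext fun i => by
    refine CfsgLib.TwoRank.sign_cast_inj h2 ?_
    have := congrArg (fun x : GL (Fin r) F => (x : Matrix (Fin r) (Fin r) F) i i) e
    simpa [sg, diagGL] using this
  let e : GL ((Fin k ⊕ Fin k) ⊕ Fin r) F ≃* GL (Fin (k + k + r)) F :=
    reindexGL ((Equiv.sumCongr finSumFinEquiv (Equiv.refl _)).trans finSumFinEquiv)
  let f : M × (Fin r → ℤˣ) →* GL (Fin (k + k + r)) F :=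
    e.toMonoidHom.comp (joinGL.comp ((Subgroup.subtype M).prodMap sg))
  have hf : Function.Injective f := e.injective.comp
    (joinGL_injective.comp (Subtype.val_injective.prodMap hsg))
  refine normalRankEq_sylow f.range ?_ ?_ S
  · rw [← Nat.card_congr (MonoidHom.ofInjective hf).toEquiv, Nat.card_prod, hMcard, Nat.card_fun,
      Nat.card_eq_fintype_card (α := ℤˣ), Fintype.card_units_int, Nat.card_fin,
      factorization_card_GL_three h4 k r hr, ← pow_add]
  · refine ((hM.prod (b := r) (fun x y => mul_comm x y) (fun x => funext fun i => Int.units_sq _)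
      ?_).congr (MonoidHom.ofInjective hf))
    rw [Nat.card_fun, Nat.card_eq_fintype_card (α := ℤˣ), Fintype.card_units_int, Nat.card_fin]

end CfsgLib.SymSylow.GLTwo
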