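import Mathlib
import Cfsg.Agent.SymSylow.Basic

/-!
Sylow 2-subgroups of symmetric groups: invariant sets of equal size, odd elements, and the
two halves of a transitive Sylow 2-subgroup.
-/

set_option autoImplicit false

namespace CfsgLib.SymSylow

open Equiv

variable {α : Type*} [DecidableEq α] [Fintype α]

lemma padic_two_mul (c : ℕ) :
    padicValNat 2 (2 * c).factorial = padicValNat 2 c.factorial + c :=
  padicValNat_factorial_mul c

lemma padic_lt {c : ℕ} (hc : c ≠ 0) : padicValNat 2 c.factorial < c :=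
  padicValNat_factorial_lt_of_ne_zero 2 hc

/-- Two disjoint invariant sets of a Sylow 2-subgroup never have the same nonzero size. -/
theorem IsSylowOn.card_ne {s t u : Finset α} {P : Subgroup (Perm α)} (h : IsSylowOn 2 s P)
    (ht : t ⊆ s) (hu : u ⊆ s) (hPt : P ≤ keeps t) (hPu : P ≤ keeps u) (hd : Disjoint t u)
    (ht0 : t.Nonempty) : t.card ≠ u.card := by
  intro hc
  have hsub : t ∪ u ⊆ s := Finset.union_subset ht hu
  have hk : P ≤ keeps (t ∪ u) := fun g hg => keeps_union (hPt hg) (hPu hg)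
  obtain ⟨-, -, h3, -⟩ := h.split hsub hk
  have hadd := h3.padic_split (t := t) Finset.subset_union_left (fun g hg => hPt hg.1)
  rw [Finset.union_sdiff_left, Finset.sdiff_eq_self_of_disjoint hd.symm,
    Finset.card_union_of_disjoint hd, ← hc, ← two_mul, padic_two_mul] at hadd
  have := padic_lt (Finset.card_pos.mpr ht0).ne'
  omega

/-- Every Sylow 2-subgroup on a set with two points contains an odd permutation. -/
theorem IsSylowOn.exists_sign_neg {s : Finset α} {P : Subgroup (Perm α)} (h : IsSylowOn 2 s P)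
    (hs : 2 ≤ s.card) : ∃ g ∈ P, Perm.sign g = -1 := by
  by_contra hne
  push Not at hne
  obtain ⟨a, ha, b, hb, hab⟩ := Finset.one_lt_card.mp hs
  let σ : onSet s →* ℤˣ := Perm.sign.comp (onSet s).subtype
  have hsurj : Function.Surjective σ := by
    intro u
    rcases Int.units_eq_one_or u with rfl | rfl
    · exact ⟨1, map_one σ⟩
    · refine ⟨⟨Equiv.swap a b, fun x hx => Equiv.swap_apply_of_ne_of_ne ?_ ?_⟩,
        Perm.sign_swap hab⟩
      · rintro rfl; exact hx ha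
      · rintro rfl; exact hx hb
  have hle : P.subgroupOf (onSet s) ≤ σ.ker := by
    intro g hg
    rcases Int.units_eq_one_or (Perm.sign (g : Perm α)) with h1 | h1
    · exact h1
    · exact absurd h1 (hne g.1 hg)
  have hcard : Nat.card (P.subgroupOf (onSet s)) = Nat.card P :=
    Nat.card_congr (Subgroup.subgroupOfEquivOfLe h.le).toEquiv
  have hidx : σ.ker.index = 2 := by
    rw [Subgroup.index_ker, MonoidHom.range_eq_top.mpr hsurj, Subgroup.card_top,
      Nat.card_eq_fintype_card, Fintype.card_units_int]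
  have hdvd := Subgroup.card_dvd_of_le hle
  rw [hcard, h.card_eq] at hdvd
  have h2 : 2 ^ (padicValNat 2 s.card.factorial + 1) ∣ s.card.factorial := by
    have h3 := σ.ker.card_mul_index
    rw [hidx, card_onSet s] at h3
    rw [pow_succ]
    exact (mul_dvd_mul hdvd dvd_rfl).trans (dvd_of_eq h3)
  exact pow_succ_padicValNat_not_dvd (Nat.factorial_ne_zero _) h2

/-- The two halves of a transitive Sylow 2-subgroup. -/
structure Halves (O : Finset α) (P : Subgroup (Perm α)) (O1 O2 : Finset α) : Prop where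
  disj : Disjoint O1 O2
  union : O1 ∪ O2 = O
  card_eq : O1.card = O2.card
  nonempty : O1.Nonempty
  keep_or_swap : ∀ g ∈ P, (g ∈ keeps O1 ∧ g ∈ keeps O2) ∨
    ((∀ x ∈ O1, g x ∈ O2) ∧ (∀ x ∈ O2, g x ∈ O1))
  exists_swap : ∃ g ∈ P, (∀ x ∈ O1, g x ∈ O2) ∧ (∀ x ∈ O2, g x ∈ O1)
  res_mem₁ : ∀ g ∈ P, g ∈ keeps O1 → res O1 g ∈ P
  res_mem₂ : ∀ g ∈ P, g ∈ keeps O1 → res O2 g ∈ P
  sylow₁ : IsSylowOn 2 O1 (P ⊓ onSet O1)
  sylow₂ : IsSylowOn 2 O2 (P ⊓ onSet O2)
  trans₁ : ∀ x ∈ O1, ∀ y ∈ O1, ∃ g ∈ P ⊓ onSet O1, g x = y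
  trans₂ : ∀ x ∈ O2, ∀ y ∈ O2, ∃ g ∈ P ⊓ onSet O2, g x = y

theorem IsSylowOn.exists_halves {O : Finset α} {P : Subgroup (Perm α)} (h : IsSylowOn 2 O P)
    (htr : ∀ x ∈ O, ∀ y ∈ O, ∃ g ∈ P, g x = y) (hO : 2 ≤ O.card) :
    ∃ O1 O2, Halves O P O1 O2 := by
  have hPO : P ≤ keeps O := h.le.trans (onSet_le_keeps O)
  obtain ⟨x, hx, y, hy, hxy⟩ := Finset.one_lt_card.mp hO
  set v := padicValNat 2 O.card.factorial with hv
  let S : Subgroup P := MulAction.stabilizer P x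
  obtain ⟨n, hn⟩ := IsPGroup.iff_card.mp (h.isPGroup.to_subgroup S)
  have hnv : n + 1 ≤ v := by
    have hne : S ≠ ⊤ := by
      intro htop
      obtain ⟨g, hg, hgx⟩ := htr x hx y hy
      have : (⟨g, hg⟩ : P) ∈ S := htop ▸ Subgroup.mem_top _
      exact hxy ((MulAction.mem_stabilizer_iff.mp this).symm.trans hgx)
    by_contra hlt
    apply hne
    apply Subgroup.eq_top_of_le_card
    rw [hn, h.card_eq]
    exact Nat.pow_le_pow_right (by norm_num) (by omega)
  obtain ⟨K, hK, hSK⟩ := Sylow.exists_subgroup_card_pow_prime_le 2 (n := n) (m := v - 1)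
    (by rw [h.card_eq]; exact pow_dvd_pow 2 (Nat.sub_le _ _)) S hn (by omega)
  have hidx : K.index = 2 := by
    have h1 := K.card_mul_index
    have h2 : 2 ^ v = 2 ^ (v - 1) * 2 := by
      rw [← pow_succ]; congr 1; omega
    rw [hK, h.card_eq, ← hv, h2] at h1
    exact Nat.eq_of_mul_eq_mul_left (by positivity) h1
  obtain ⟨g0, hg0⟩ : ∃ g : P, g ∉ K := by
    by_contra hall
    push Not at hall
    rw [(Subgroup.eq_top_iff' K).mpr hall, Subgroup.index_top] at hidx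
    omega
  let K' : Subgroup (Perm α) := K.map P.subtype
  have hK'P : K' ≤ P := Subgroup.map_subtype_le K
  set O1 := orb K' x with hO1
  set O2 := O1.image (g0 : Perm α) with hO2
  have hmem1 : ∀ z, z ∈ O1 ↔ ∃ k : P, k ∈ K ∧ (k : Perm α) x = z := by
    intro z
    rw [hO1, mem_orb]
    constructor
    · rintro ⟨_, ⟨k, hk, rfl⟩, hz⟩; exact ⟨k, hk, hz⟩
    · rintro ⟨k, hk, hz⟩; exact ⟨k, ⟨k, hk, rfl⟩, hz⟩
  have hmem2 : ∀ z, z ∈ O2 ↔ ∃ k : P, k ∉ K ∧ (k : Perm α) x = z := by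
    intro z
    rw [hO2, Finset.mem_image]
    constructor
    · rintro ⟨w, hw, rfl⟩
      obtain ⟨k, hk, rfl⟩ := (hmem1 w).mp hw
      refine ⟨g0 * k, ?_, rfl⟩
      rw [Subgroup.mul_mem_iff_of_index_two hidx]
      tauto
    · rintro ⟨k, hk, rfl⟩
      refine ⟨((g0⁻¹ * k : P) : Perm α) x, (hmem1 _).mpr ⟨_, ?_, rfl⟩, by simp⟩
      rw [Subgroup.mul_mem_iff_of_index_two hidx, K.inv_mem_iff]
      tauto
  have hd : Disjoint O1 O2 := by
    rw [Finset.disjoint_left]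
    intro z hz1 hz2
    obtain ⟨k, hk, rfl⟩ := (hmem1 z).mp hz1
    obtain ⟨k', hk', hkk⟩ := (hmem2 _).mp hz2
    apply hk'
    have hs : k⁻¹ * k' ∈ S := by
      rw [MulAction.mem_stabilizer_iff]
      show ((k : Perm α)⁻¹ * (k' : Perm α)) x = x
      rw [Perm.mul_apply, hkk]
      simp
    have := K.mul_mem hk (hSK hs)
    rwa [mul_inv_cancel_left] at this
  have hun : O1 ∪ O2 = O := by
    ext z
    rw [Finset.mem_union]
    constructor
    · rintro (hz | hz)
      · obtain ⟨k, -, rfl⟩ := (hmem1 z).mp hz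
        exact (hPO k.2 x).mpr hx
      · obtain ⟨k, -, rfl⟩ := (hmem2 z).mp hz
        exact (hPO k.2 x).mpr hx
    · intro hz
      obtain ⟨g, hg, rfl⟩ := htr x hx z hz
      by_cases hgK : (⟨g, hg⟩ : P) ∈ K
      · exact Or.inl ((hmem1 _).mpr ⟨_, hgK, rfl⟩)
      · exact Or.inr ((hmem2 _).mpr ⟨_, hgK, rfl⟩)
  have hceq : O1.card = O2.card := (Finset.card_image_of_injective _ (g0 : Perm α).injective).symm
  have hkeep : ∀ g : P, g ∈ K →
      (∀ z ∈ O1, (g : Perm α) z ∈ O1) ∧ (∀ z ∈ O2, (g : Perm α) z ∈ O2) := by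
    intro g hg
    refine ⟨fun z hz => ?_, fun z hz => ?_⟩
    · obtain ⟨k, hk, rfl⟩ := (hmem1 z).mp hz
      exact (hmem1 _).mpr ⟨g * k, K.mul_mem hg hk, rfl⟩
    · obtain ⟨k, hk, rfl⟩ := (hmem2 z).mp hz
      refine (hmem2 _).mpr ⟨g * k, ?_, rfl⟩
      rw [Subgroup.mul_mem_iff_of_index_two hidx]; tauto
  have hswap : ∀ g : P, g ∉ K →
      (∀ z ∈ O1, (g : Perm α) z ∈ O2) ∧ (∀ z ∈ O2, (g : Perm α) z ∈ O1) := by
    intro g hg
    refine ⟨fun z hz => ?_, fun z hz => ?_⟩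
    · obtain ⟨k, hk, rfl⟩ := (hmem1 z).mp hz
      refine (hmem2 _).mpr ⟨g * k, ?_, rfl⟩
      rw [Subgroup.mul_mem_iff_of_index_two hidx]; tauto
    · obtain ⟨k, hk, rfl⟩ := (hmem2 z).mp hz
      refine (hmem1 _).mpr ⟨g * k, ?_, rfl⟩
      rw [Subgroup.mul_mem_iff_of_index_two hidx]; tauto
  have h1sub : O1 ⊆ O := hun ▸ Finset.subset_union_left
  have hO2eq : O \ O1 = O2 := by
    rw [← hun, Finset.union_sdiff_left, Finset.sdiff_eq_self_of_disjoint hd.symm]
  have hne : O1.Nonempty := ⟨x, self_mem_orb K' x⟩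
  have hO2c : O.card = 2 * O1.card := by
    rw [← hun, Finset.card_union_of_disjoint hd, ← hceq, two_mul]
  have hcardK : 2 ^ (padicValNat 2 O1.card.factorial + padicValNat 2 (O \ O1).card.factorial)
      ≤ Nat.card K' := by
    rw [Subgroup.card_map_of_injective P.subtype_injective, hK, hO2eq, ← hceq]
    apply Nat.pow_le_pow_right (by norm_num)
    have h1 := padic_lt (Finset.card_pos.mpr hne).ne'
    have h2 : v = padicValNat 2 O1.card.factorial + O1.card := by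
      rw [hv, hO2c, padic_two_mul]
    omega
  obtain ⟨r1, r2, s1, s2⟩ := split_of_card (h.isPGroup.to_le hK'P) (hK'P.trans h.le) h1sub
    (le_keeps_orb K' x) hcardK
  rw [hO2eq] at r2 s2
  have heq : ∀ (T : Finset α), T ⊆ O → IsSylowOn 2 T (K' ⊓ onSet T) →
      P ⊓ onSet T = K' ⊓ onSet T := fun T _ hT =>
    hT.eq_of_le (h.isPGroup.to_le inf_le_left) inf_le_right (inf_le_inf_right _ hK'P)
  have e1 := heq O1 h1sub s1
  have e2 := heq O2 (hun ▸ Finset.subset_union_right) s2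
  have hfromkeep : ∀ g ∈ P, g ∈ keeps O1 → g ∈ K' := by
    intro g hg hk
    by_cases hgK : (⟨g, hg⟩ : P) ∈ K
    · exact ⟨_, hgK, rfl⟩
    · obtain ⟨z, hz⟩ := hne
      exact absurd ((hswap ⟨g, hg⟩ hgK).1 z hz) (Finset.disjoint_left.mp hd ((hk z).mpr hz))
  refine ⟨O1, O2, ⟨hd, hun, hceq, hne, ?_, ⟨g0, g0.2, hswap g0 hg0⟩,
    fun g hg hk => hK'P (r1 g (hfromkeep g hg hk)),
    fun g hg hk => hK'P (r2 g (hfromkeep g hg hk)), by rwa [e1], by rwa [e2], ?_, ?_⟩⟩
  · intro g hg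
    by_cases hgK : (⟨g, hg⟩ : P) ∈ K
    · exact Or.inl ⟨keeps_of_mapsTo (hkeep _ hgK).1, keeps_of_mapsTo (hkeep _ hgK).2⟩
    · exact Or.inr (hswap _ hgK)
  · intro a ha b hb
    obtain ⟨g, hg, hgab⟩ := exists_map_of_mem_orb ha hb
    refine ⟨res O1 g, ⟨hK'P (r1 g hg), res_mem_onSet _ _⟩, ?_⟩
    rw [res_apply_of_mem (le_keeps_orb K' x hg) ha, hgab]
  · intro a ha b hb
    obtain ⟨k, hk, rfl⟩ := (hmem2 a).mp ha
    obtain ⟨k', hk', rfl⟩ := (hmem2 b).mp hb
    have hK2 : k' * k⁻¹ ∈ K := by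
      rw [Subgroup.mul_mem_iff_of_index_two hidx, K.inv_mem_iff]; tauto
    have hg : ((k' * k⁻¹ : P) : Perm α) ∈ K' := ⟨_, hK2, rfl⟩
    refine ⟨res O2 ((k' * k⁻¹ : P) : Perm α), ⟨hK'P (r2 _ hg), res_mem_onSet _ _⟩, ?_⟩
    rw [res_apply_of_mem (keeps_of_mapsTo (hkeep _ hK2).2) ha]
    simp

lemma Halves.subset₁ {O O1 O2 : Finset α} {P : Subgroup (Perm α)} (H : Halves O P O1 O2) :
    O1 ⊆ O := H.union ▸ Finset.subset_union_left

lemma Halves.subset₂ {O O1 O2 : Finset α} {P : Subgroup (Perm α)} (H : Halves O P O1 O2) :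
    O2 ⊆ O := H.union ▸ Finset.subset_union_right

lemma Halves.swap {O O1 O2 : Finset α} {P : Subgroup (Perm α)} (H : Halves O P O1 O2) :
    Halves O P O2 O1 where
  disj := H.disj.symm
  union := by rw [Finset.union_comm, H.union]
  card_eq := H.card_eq.symm
  nonempty := by rw [← Finset.card_pos, ← H.card_eq, Finset.card_pos]; exact H.nonempty
  keep_or_swap := fun g hg => (H.keep_or_swap g hg).imp And.symm And.symm
  exists_swap := by obtain ⟨g, hg, h⟩ := H.exists_swap; exact ⟨g, hg, h.symm⟩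
  res_mem₁ := fun g hg hk => by
    rcases H.keep_or_swap g hg with h | h
    · exact H.res_mem₂ g hg h.1
    · obtain ⟨z, hz⟩ := H.nonempty
      exact absurd ((hk _).mp (by exact h.1 z hz)) (Finset.disjoint_left.mp H.disj hz)
  res_mem₂ := fun g hg hk => by
    rcases H.keep_or_swap g hg with h | h
    · exact H.res_mem₁ g hg h.1
    · obtain ⟨z, hz⟩ := H.nonempty
      exact absurd ((hk _).mp (by exact h.1 z hz)) (Finset.disjoint_left.mp H.disj hz)
  sylow₁ := H.sylow₂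
  sylow₂ := H.sylow₁
  trans₁ := H.trans₂
  trans₂ := H.trans₁

end CfsgLib.SymSylow
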