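import Mathlib
import Cfsg.Agent.SymSylow.Two

/-!
Sylow 2-subgroups of symmetric groups, and of alternating groups of degree at least 6, are their
own normalizers.
-/

set_option autoImplicit false

namespace CfsgLib.SymSylow

open Equiv

variable {α : Type*} [DecidableEq α] [Fintype α]

lemma mem_normalizer_of_conj_mem {G : Type*} [Group G] [Finite G] {H : Subgroup G} {g : G}
    (h : ∀ x ∈ H, g * x * g⁻¹ ∈ H) : g ∈ Subgroup.normalizer (H : Set G) := by
  have he : H.map (MulAut.conj g).toMonoidHom = H := by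
    refine Subgroup.eq_of_le_of_card_ge ?_ ?_
    · rintro _ ⟨x, hx, rfl⟩; exact h x hx
    · rw [Subgroup.card_map_of_injective (MulAut.conj g).injective]
  rw [Subgroup.mem_normalizer_iff]
  intro x
  refine ⟨h x, fun hx => ?_⟩
  rw [← he] at hx
  obtain ⟨y, hy, hyx⟩ := hx
  exact ((MulAut.conj g).injective (hyx : MulAut.conj g y = MulAut.conj g x)) ▸ hy

lemma inv_conj_mem {G : Type*} [Group G] [Finite G] {H : Subgroup G} {g : G}
    (h : ∀ x ∈ H, g * x * g⁻¹ ∈ H) : ∀ x ∈ H, g⁻¹ * x * g ∈ H := by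
  intro x hx
  have := (Subgroup.mem_normalizer_iff.mp (inv_mem (mem_normalizer_of_conj_mem h)) x).mp hx
  simpa using this

lemma res_conj {t : Finset α} {g h : Perm α} (hg : g ∈ keeps t) (hh : h ∈ keeps t) :
    res t (g * h * g⁻¹) = res t g * res t h * (res t g)⁻¹ := by
  have hinv : res t g⁻¹ = (res t g)⁻¹ :=
    eq_inv_of_mul_eq_one_left (by rw [← res_mul (inv_mem hg) hg, inv_mul_cancel, res_one])
  rw [res_mul (mul_mem hg hh) (inv_mem hg), res_mul hg hh, hinv]

lemma keeps_image {t : Finset α} {g h : Perm α} (hh : g⁻¹ * h * g ∈ keeps t) :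
    h ∈ keeps (t.image g) := by
  refine keeps_of_mapsTo fun y hy => ?_
  obtain ⟨a, ha, rfl⟩ := Finset.mem_image.mp hy
  exact Finset.mem_image.mpr ⟨(g⁻¹ * h * g) a, (hh a).mpr ha, by simp⟩

/-- The even elements of a subgroup of permutations. -/
def evenPart (P : Subgroup (Perm α)) : Subgroup (Perm α) := P ⊓ Perm.sign.ker

lemma mem_evenPart {P : Subgroup (Perm α)} {g : Perm α} :
    g ∈ evenPart P ↔ g ∈ P ∧ Perm.sign g = 1 := Iff.rfl

/-- If each element of `W ≤ onSet t` is the restriction of an element of `T`, and `g` keeps `t`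
and normalizes `T`, then `res t g` normalizes `W`. -/
lemma res_normalizes {P T : Subgroup (Perm α)} {t : Finset α} {g : Perm α} (hTP : T ≤ P)
    (hres : ∀ h ∈ P, h ∈ keeps t → res t h ∈ P)
    (hlift : ∀ h ∈ P ⊓ onSet t, ∃ h' ∈ T, h' ∈ keeps t ∧ res t h' = h)
    (hg : g ∈ keeps t) (hn : ∀ h ∈ T, g * h * g⁻¹ ∈ T) :
    ∀ h ∈ P ⊓ onSet t, res t g * h * (res t g)⁻¹ ∈ P ⊓ onSet t := by
  intro h hh
  obtain ⟨h', hh', hk, he⟩ := hlift h hh
  rw [← he, ← res_conj hg hk]
  exact ⟨hres _ (hTP (hn h' hh')) (mul_mem (mul_mem hg hk) (inv_mem hg)), res_mem_onSet _ _⟩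

/-- The halves are the only blocks of half size for a large enough subgroup `T`. -/
lemma Halves.image_eq {O O1 O2 : Finset α} {P T : Subgroup (Perm α)} (H : Halves O P O1 O2)
    (hTP : T ≤ P) {g : Perm α} (hgO : g ∈ keeps O) (hn : ∀ h ∈ T, g * h * g⁻¹ ∈ T)
    (hfix1 : ∀ x ∈ O1, ∀ y ∈ O2, ∀ z ∈ O2, ∃ h ∈ T, h x = x ∧ h y = z)
    (hfix2 : ∀ x ∈ O2, ∀ y ∈ O1, ∀ z ∈ O1, ∃ h ∈ T, h x = x ∧ h y = z) :
    O1.image g = O1 ∨ O1.image g = O2 := by
  set t := O1.image g with ht
  have htc : t.card = O1.card := Finset.card_image_of_injective _ g.injective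
  have htO : t ⊆ O := by
    intro y hy
    obtain ⟨a, ha, rfl⟩ := Finset.mem_image.mp hy
    exact (hgO a).mpr (H.subset₁ ha)
  have hblock : ∀ h ∈ T, ∀ z ∈ t, h z ∈ t → ∀ w ∈ t, h w ∈ t := by
    intro h hh z hz hhz w hw
    obtain ⟨a, ha, rfl⟩ := Finset.mem_image.mp hz
    obtain ⟨b, hb, rfl⟩ := Finset.mem_image.mp hw
    obtain ⟨c, hc, hce⟩ := Finset.mem_image.mp hhz
    have hk' := hTP (inv_conj_mem hn h hh)
    rcases H.keep_or_swap _ hk' with hk | hk
    · exact Finset.mem_image.mpr ⟨(g⁻¹ * h * g) b, (hk.1 b).mpr hb, by simp⟩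
    · have h2 := hk.1 a ha
      have : (g⁻¹ * h * g) a = c := by simp [← hce]
      rw [this] at h2
      exact absurd h2 (Finset.disjoint_left.mp H.disj hc)
  have key : ∀ A B : Finset α, A ∪ B = O → Disjoint A B → B.card = t.card → A.card = t.card →
      (∀ x ∈ A, ∀ y ∈ B, ∀ z ∈ B, ∃ h ∈ T, h x = x ∧ h y = z) →
      ∀ x ∈ A, x ∈ t → t = A := by
    intro A B hU hD hB hA hfix x hxA hxt
    refine Finset.eq_of_subset_of_card_le (fun y hy => ?_) hA.le
    rcases Finset.mem_union.mp (hU.symm ▸ htO hy) with h | h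
    · exact h
    · exfalso
      have hsub : insert x B ⊆ t := by
        intro z hz
        rcases Finset.mem_insert.mp hz with rfl | hz
        · exact hxt
        · obtain ⟨f, hf, hfx, hfy⟩ := hfix x hxA y h z hz
          rw [← hfy]
          exact hblock f hf x hxt (by rw [hfx]; exact hxt) y hy
      have := Finset.card_le_card hsub
      rw [Finset.card_insert_of_notMem (Finset.disjoint_left.mp hD hxA), hB] at this
      omega
  obtain ⟨a, ha⟩ := H.nonempty
  have hga : g a ∈ t := Finset.mem_image_of_mem _ ha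
  rcases Finset.mem_union.mp (H.union.symm ▸ htO hga) with h | h
  · exact Or.inl (key O1 O2 H.union H.disj (H.card_eq ▸ htc.symm) htc.symm hfix1 _ h hga)
  · exact Or.inr (key O2 O1 (by rw [Finset.union_comm, H.union]) H.disj.symm htc.symm
      (H.card_eq ▸ htc.symm) hfix2 _ h hga)

/-- A normalizing element of `T ≤ P` which is large enough lies in `P`. -/
lemma Halves.mem_of_normalizes {O O1 O2 : Finset α} {P T : Subgroup (Perm α)}
    (hP : P ≤ onSet O) (H : Halves O P O1 O2) (hTP : T ≤ P)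
    (IH : ∀ (s : Finset α) (Q : Subgroup (Perm α)), s.card < O.card → IsSylowOn 2 s Q →
      ∀ g ∈ onSet s, (∀ h ∈ Q, g * h * g⁻¹ ∈ Q) → g ∈ Q)
    {g : Perm α} (hgO : g ∈ onSet O) (hn : ∀ h ∈ T, g * h * g⁻¹ ∈ T)
    (hsw : ∃ s ∈ T, (∀ x ∈ O1, s x ∈ O2) ∧ (∀ x ∈ O2, s x ∈ O1))
    (hlift1 : ∀ h ∈ P ⊓ onSet O1, ∃ h' ∈ T, h' ∈ keeps O1 ∧ res O1 h' = h)
    (hlift2 : ∀ h ∈ P ⊓ onSet O2, ∃ h' ∈ T, h' ∈ keeps O1 ∧ res O2 h' = h)
    (hfix1 : ∀ x ∈ O1, ∀ y ∈ O2, ∀ z ∈ O2, ∃ h ∈ T, h x = x ∧ h y = z)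
    (hfix2 : ∀ x ∈ O2, ∀ y ∈ O1, ∀ z ∈ O1, ∃ h ∈ T, h x = x ∧ h y = z) :
    g ∈ P := by
  obtain ⟨c, hcT, hkeep⟩ : ∃ c ∈ T, c * g ∈ keeps O1 := by
    rcases H.image_eq hTP (onSet_le_keeps O hgO) hn hfix1 hfix2 with h | h
    · refine ⟨1, T.one_mem, keeps_of_mapsTo fun x hx => ?_⟩
      rw [one_mul, ← h]
      exact Finset.mem_image_of_mem _ hx
    · obtain ⟨s, hs, -, hs2⟩ := hsw
      refine ⟨s, hs, keeps_of_mapsTo fun x hx => ?_⟩
      rw [Perm.mul_apply]
      exact hs2 _ (h ▸ Finset.mem_image_of_mem _ hx)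
  have hn' : ∀ h ∈ T, (c * g) * h * (c * g)⁻¹ ∈ T := by
    intro h hh
    have := T.mul_mem (T.mul_mem hcT (hn h hh)) (T.inv_mem hcT)
    convert this using 1
    group
  have hO : c * g ∈ onSet O := mul_mem (hP (hTP hcT)) hgO
  have heq : O \ O1 = O2 := by
    rw [← H.union, Finset.union_sdiff_left, Finset.sdiff_eq_self_of_disjoint H.disj.symm]
  have hkeep2 : c * g ∈ keeps O2 := heq ▸ keeps_sdiff (onSet_le_keeps O hO) hkeep
  have hk12 : ∀ h ∈ P, h ∈ keeps O1 → h ∈ keeps O2 :=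
    fun h hh hk => heq ▸ keeps_sdiff (onSet_le_keeps O (hP hh)) hk
  have hk21 : ∀ h ∈ P, h ∈ keeps O2 → h ∈ keeps O1 := by
    intro h hh hk
    rcases H.keep_or_swap h hh with h' | h'
    · exact h'.1
    · obtain ⟨a, ha⟩ := H.nonempty
      exact absurd ((hk a).mp (h'.1 a ha)) (Finset.disjoint_left.mp H.disj ha)
  have hlt : O1.card < O.card ∧ O2.card < O.card := by
    have h1 := Finset.card_pos.mpr H.nonempty
    have h2 := H.card_eq
    rw [← H.union, Finset.card_union_of_disjoint H.disj]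
    omega
  have m1 := IH O1 _ hlt.1 H.sylow₁ _ (res_mem_onSet O1 (c * g))
    (res_normalizes hTP H.res_mem₁ hlift1 hkeep hn')
  have m2 := IH O2 _ hlt.2 H.sylow₂ _ (res_mem_onSet O2 (c * g))
    (res_normalizes hTP (fun h hh hk => H.res_mem₂ h hh (hk21 h hh hk))
      (fun h hh => by
        obtain ⟨h', a, b, e⟩ := hlift2 h hh
        exact ⟨h', a, hk12 h' (hTP a) b, e⟩) hkeep2 hn')
  have hmem : c * g ∈ P := by
    rw [← res_mul_res_sdiff H.subset₁ hO hkeep, heq]
    exact P.mul_mem m1.1 m2.1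
  exact (Subgroup.mul_mem_cancel_left _ (hTP hcT)).mp hmem

private theorem selfNormalizing_aux (n : ℕ) : ∀ (s : Finset α) (P : Subgroup (Perm α)),
    s.card = n → IsSylowOn 2 s P → ∀ g ∈ onSet s, (∀ h ∈ P, g * h * g⁻¹ ∈ P) → g ∈ P := by
  induction n using Nat.strong_induction_on with
  | _ n IH =>
    intro s P hn h g hgs hgn
    by_cases hsmall : s.card ≤ 1
    · suffices g = 1 by rw [this]; exact one_mem _
      ext x
      by_cases hx : x ∈ s
      · exact (Finset.card_le_one.mp hsmall) _ ((onSet_le_keeps s hgs x).mpr hx) _ hx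
      · exact hgs x hx
    have hPs : P ≤ keeps s := h.le.trans (onSet_le_keeps s)
    obtain ⟨x, hx⟩ : s.Nonempty := Finset.card_pos.mp (by omega)
    set t := orb P x with ht
    have hts : t ⊆ s := orb_subset hPs hx
    by_cases htr : t = s
    · obtain ⟨O1, O2, H⟩ := h.exists_halves
        (fun a ha b hb => exists_map_of_mem_orb (htr.symm ▸ ha : a ∈ t) (htr.symm ▸ hb : b ∈ t))
        (by omega)
      refine H.mem_of_normalizes h.le le_rfl (fun s' Q hlt => IH _ (hn ▸ hlt) s' Q rfl)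
        hgs hgn H.exists_swap
        (fun a ha => ⟨a, ha.1, onSet_le_keeps _ ha.2, res_of_mem_onSet ha.2⟩)
        (fun a ha => ⟨a, ha.1, onSet_le_keeps_of_disjoint H.disj ha.2, res_of_mem_onSet ha.2⟩)
        ?_ ?_
      · intro a ha y hy z hz
        obtain ⟨f, hf, hfz⟩ := H.trans₂ y hy z hz
        exact ⟨f, hf.1, hf.2 a (Finset.disjoint_left.mp H.disj ha), hfz⟩
      · intro a ha y hy z hz
        obtain ⟨f, hf, hfz⟩ := H.trans₁ y hy z hz
        exact ⟨f, hf.1, hf.2 a (Finset.disjoint_right.mp H.disj ha), hfz⟩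
    · have hgx : g x ∈ s := (onSet_le_keeps s hgs x).mpr hx
      have hk : g ∈ keeps t := by
        refine keeps_of_mapsTo fun y hy => ?_
        set u := orb P (g x) with hu
        have himg : t.image g = u := by
          ext z
          rw [Finset.mem_image, hu, mem_orb]
          constructor
          · rintro ⟨a, ha, rfl⟩
            obtain ⟨f, hf, rfl⟩ := mem_orb.mp ha
            exact ⟨g * f * g⁻¹, hgn f hf, by simp⟩
          · rintro ⟨f, hf, rfl⟩
            exact ⟨(g⁻¹ * f * g) x,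
              mem_orb.mpr ⟨_, inv_conj_mem hgn f hf, rfl⟩, by simp⟩
        have hyu : g y ∈ u := himg ▸ Finset.mem_image_of_mem _ hy
        by_contra hnot
        have hd : Disjoint t u := by
          rw [Finset.disjoint_left]
          intro z hz hz'
          apply hnot
          rw [ht, ← orb_eq_of_mem hz, orb_eq_of_mem hz']
          exact hyu
        refine h.card_ne hts (orb_subset hPs hgx) (le_keeps_orb P x) (le_keeps_orb P (g x)) hd
          ⟨x, self_mem_orb P x⟩ ?_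
        show t.card = u.card
        rw [← himg, Finset.card_image_of_injective _ g.injective]
      have hk' : g ∈ keeps (s \ t) := keeps_sdiff (onSet_le_keeps s hgs) hk
      obtain ⟨r1, r2, s1, s2⟩ := h.split hts (le_keeps_orb P x)
      have hc := Finset.card_sdiff_add_card_eq_card hts
      have htpos : 0 < t.card := Finset.card_pos.mpr ⟨x, self_mem_orb P x⟩
      have hlt : t.card < s.card := Finset.card_lt_card (hts.ssubset_of_ne htr)
      have m1 := IH _ (hn ▸ hlt) t _ rfl s1 _ (res_mem_onSet t g)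
        (res_normalizes le_rfl (fun a ha _ => r1 a ha)
          (fun a ha => ⟨a, ha.1, onSet_le_keeps _ ha.2, res_of_mem_onSet ha.2⟩) hk hgn)
      have m2 := IH _ (by omega) (s \ t) _ rfl s2 _ (res_mem_onSet (s \ t) g)
        (res_normalizes le_rfl (fun a ha _ => r2 a ha)
          (fun a ha => ⟨a, ha.1, onSet_le_keeps _ ha.2, res_of_mem_onSet ha.2⟩) hk' hgn)
      rw [← res_mul_res_sdiff hts hgs hk]
      exact P.mul_mem m1.1 m2.1

/-- A Sylow 2-subgroup of `Sym(s)` is self-normalizing in `Sym(s)`. -/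
theorem IsSylowOn.mem_of_normalizes {s : Finset α} {P : Subgroup (Perm α)} (h : IsSylowOn 2 s P)
    {g : Perm α} (hg : g ∈ onSet s) (hn : ∀ a ∈ P, g * a * g⁻¹ ∈ P) : g ∈ P :=
  selfNormalizing_aux s.card s P rfl h g hg hn

private lemma exists_even_mul {P : Subgroup (Perm α)} {t : Finset α} {e h : Perm α}
    (hh : h ∈ P) (he : e ∈ P ⊓ onSet t) (hes : Perm.sign e = -1) :
    ∃ h' ∈ evenPart P, ∀ z, z ∉ t → h' z = h z := by
  rcases Int.units_eq_one_or (Perm.sign h) with hs | hs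
  · exact ⟨h, ⟨hh, hs⟩, fun _ _ => rfl⟩
  · refine ⟨h * e, ⟨P.mul_mem hh he.1, ?_⟩, fun z hz => by rw [Perm.mul_apply, he.2 z hz]⟩
    change Perm.sign _ = 1; rw [map_mul, hs, hes]
    decide

private lemma exists_even_lift {P : Subgroup (Perm α)} {t u : Finset α} (hd : Disjoint t u)
    {e : Perm α} (he : e ∈ P ⊓ onSet u) (hes : Perm.sign e = -1) {h : Perm α}
    (hh : h ∈ P ⊓ onSet t) :
    ∃ h' ∈ evenPart P, h' ∈ keeps t ∧ h' ∈ keeps u ∧ res t h' = h := by
  have hek : e ∈ keeps t := onSet_le_keeps_of_disjoint hd he.2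
  have hhu : h ∈ keeps u := onSet_le_keeps_of_disjoint hd.symm hh.2
  rcases Int.units_eq_one_or (Perm.sign h) with hs | hs
  · exact ⟨h, ⟨hh.1, hs⟩, onSet_le_keeps t hh.2, hhu, res_of_mem_onSet hh.2⟩
  · refine ⟨h * e, ⟨P.mul_mem hh.1 he.1, ?_⟩, mul_mem (onSet_le_keeps t hh.2) hek,
      mul_mem hhu (onSet_le_keeps u he.2), ?_⟩
    · change Perm.sign _ = 1; rw [map_mul, hs, hes]
      decide
    · have : res t e = 1 := by
        ext x
        by_cases hx : x ∈ t
        · rw [res_apply_of_mem hek hx, he.2 x (Finset.disjoint_left.mp hd hx)]; rfl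
        · rw [res_apply_of_notMem _ _ hx]; rfl
      rw [res_mul (onSet_le_keeps t hh.2) hek, res_of_mem_onSet hh.2, this, mul_one]

/-- In a half with at least four points, an odd element of `P` fixes any given point. -/
private lemma Halves.exists_odd_fix {O O1 O2 : Finset α} {P : Subgroup (Perm α)}
    (H : Halves O P O1 O2) (h4 : 4 ≤ O1.card) {x : α} (hx : x ∈ O1) :
    ∃ e ∈ P ⊓ onSet O1, Perm.sign e = -1 ∧ e x = x := by
  obtain ⟨Q1, Q2, HQ⟩ := H.sylow₁.exists_halves H.trans₁ (by omega)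
  have hc : Q1.card + Q2.card = O1.card := by
    rw [← Finset.card_union_of_disjoint HQ.disj, HQ.union]
  have hce := HQ.card_eq
  obtain ⟨u, v, HU, hxu⟩ : ∃ u v, Halves O1 (P ⊓ onSet O1) u v ∧ x ∈ u := by
    rcases Finset.mem_union.mp (HQ.union.symm ▸ hx) with h | h
    · exact ⟨Q1, Q2, HQ, h⟩
    · exact ⟨Q2, Q1, HQ.swap, h⟩
  have hv : 2 ≤ v.card := by
    have h1 := HU.card_eq
    have h2 := Finset.card_union_of_disjoint HU.disj
    rw [HU.union] at h2
    omega
  obtain ⟨e, he, hes⟩ := HU.sylow₂.exists_sign_neg hv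
  exact ⟨e, he.1, hes, he.2 x (Finset.disjoint_left.mp HU.disj hxu)⟩

/-- The even part of a transitive Sylow 2-subgroup of degree at least 8. -/
theorem Halves.evenPart_props {O O1 O2 : Finset α} {P : Subgroup (Perm α)}
    (H : Halves O P O1 O2) (h8 : 8 ≤ O.card) :
    (∃ s ∈ evenPart P, (∀ x ∈ O1, s x ∈ O2) ∧ (∀ x ∈ O2, s x ∈ O1)) ∧
    (∀ h ∈ P ⊓ onSet O1, ∃ h' ∈ evenPart P, h' ∈ keeps O1 ∧ res O1 h' = h) ∧
    (∀ h ∈ P ⊓ onSet O2, ∃ h' ∈ evenPart P, h' ∈ keeps O1 ∧ res O2 h' = h) ∧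
    (∀ x ∈ O1, ∀ y ∈ O2, ∀ z ∈ O2, ∃ h ∈ evenPart P, h x = x ∧ h y = z) ∧
    (∀ x ∈ O2, ∀ y ∈ O1, ∀ z ∈ O1, ∃ h ∈ evenPart P, h x = x ∧ h y = z) ∧
    (∀ x ∈ O, ∀ y ∈ O, ∃ h ∈ evenPart P, h x = y) := by
  have hc : O1.card + O2.card = O.card := by
    rw [← Finset.card_union_of_disjoint H.disj, H.union]
  have hce := H.card_eq
  obtain ⟨e1, he1, hs1⟩ := H.sylow₁.exists_sign_neg (by omega)
  obtain ⟨e2, he2, hs2⟩ := H.sylow₂.exists_sign_neg (by omega)
  have hsw : ∃ s ∈ evenPart P, (∀ x ∈ O1, s x ∈ O2) ∧ (∀ x ∈ O2, s x ∈ O1) := by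
    obtain ⟨s, hs, hsa, hsb⟩ := H.exists_swap
    rcases Int.units_eq_one_or (Perm.sign s) with h | h
    · exact ⟨s, ⟨hs, h⟩, hsa, hsb⟩
    · refine ⟨s * e1, ⟨P.mul_mem hs he1.1, ?_⟩, fun x hx => ?_, fun x hx => ?_⟩
      · change Perm.sign _ = 1; rw [map_mul, h, hs1]; decide
      · exact hsa _ ((onSet_le_keeps O1 he1.2 x).mpr hx)
      · exact hsb _ ((onSet_le_keeps_of_disjoint H.disj.symm he1.2 x).mpr hx)
  have hf1 : ∀ x ∈ O1, ∀ y ∈ O2, ∀ z ∈ O2, ∃ h ∈ evenPart P, h x = x ∧ h y = z := by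
    intro x hx y hy z hz
    obtain ⟨f, hf, hfz⟩ := H.trans₂ y hy z hz
    obtain ⟨e, he, hes, hex⟩ := H.exists_odd_fix (by omega) hx
    have hfx : f x = x := hf.2 x (Finset.disjoint_left.mp H.disj hx)
    rcases Int.units_eq_one_or (Perm.sign f) with h | h
    · exact ⟨f, ⟨hf.1, h⟩, hfx, hfz⟩
    · refine ⟨f * e, ⟨P.mul_mem hf.1 he.1, ?_⟩, by rw [Perm.mul_apply, hex, hfx], ?_⟩
      · change Perm.sign _ = 1; rw [map_mul, h, hes]; decide
      · rw [Perm.mul_apply, he.2 y (Finset.disjoint_right.mp H.disj hy), hfz]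
  refine ⟨hsw, fun h hh => ?_, fun h hh => ?_, hf1, ?_, ?_⟩
  · obtain ⟨h', a, b, -, e⟩ := exists_even_lift H.disj he2 hs2 hh
    exact ⟨h', a, b, e⟩
  · obtain ⟨h', a, -, c, e⟩ := exists_even_lift H.disj.symm he1 hs1 hh
    exact ⟨h', a, c, e⟩
  · intro x hx y hy z hz
    obtain ⟨f, hf, hfz⟩ := H.trans₁ y hy z hz
    obtain ⟨e, he, hes, hex⟩ := H.swap.exists_odd_fix (by omega) hx
    have hfx : f x = x := hf.2 x (Finset.disjoint_right.mp H.disj hx)
    rcases Int.units_eq_one_or (Perm.sign f) with h | h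
    · exact ⟨f, ⟨hf.1, h⟩, hfx, hfz⟩
    · refine ⟨f * e, ⟨P.mul_mem hf.1 he.1, ?_⟩, by rw [Perm.mul_apply, hex, hfx], ?_⟩
      · change Perm.sign _ = 1; rw [map_mul, h, hes]; decide
      · rw [Perm.mul_apply, he.2 y (Finset.disjoint_left.mp H.disj hy), hfz]
  · have same1 : ∀ a ∈ O1, ∀ b ∈ O1, ∃ h ∈ evenPart P, h a = b := by
      intro a ha b hb
      obtain ⟨f, hf, hfb⟩ := H.trans₁ a ha b hb
      obtain ⟨f', hf', he⟩ := exists_even_mul hf.1 he2 hs2
      exact ⟨f', hf', by rw [he a (Finset.disjoint_left.mp H.disj ha), hfb]⟩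
    have same2 : ∀ a ∈ O2, ∀ b ∈ O2, ∃ h ∈ evenPart P, h a = b := by
      intro a ha b hb
      obtain ⟨f, hf, hfb⟩ := H.trans₂ a ha b hb
      obtain ⟨f', hf', he⟩ := exists_even_mul hf.1 he1 hs1
      exact ⟨f', hf', by rw [he a (Finset.disjoint_right.mp H.disj ha), hfb]⟩
    obtain ⟨s, hs, hsa, hsb⟩ := hsw
    intro x hx y hy
    rw [← H.union, Finset.mem_union] at hx hy
    rcases hx with hx | hx <;> rcases hy with hy | hy
    · exact same1 x hx y hy
    · obtain ⟨f, hf, hfy⟩ := same2 _ (hsa x hx) y hy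
      exact ⟨f * s, mul_mem hf hs, by rw [Perm.mul_apply, hfy]⟩
    · obtain ⟨f, hf, hfy⟩ := same1 _ (hsb x hx) y hy
      exact ⟨f * s, mul_mem hf hs, by rw [Perm.mul_apply, hfy]⟩
    · exact same2 x hx y hy

/-- An orbit of a Sylow 2-subgroup which is not a single point, when there are two points. -/
lemma IsSylowOn.exists_orb {s : Finset α} {P : Subgroup (Perm α)} (h : IsSylowOn 2 s P)
    (hs : 2 ≤ s.card) : ∃ x ∈ s, 2 ≤ (orb P x).card := by
  by_contra hne
  push Not at hne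
  obtain ⟨x, hx, y, hy, hxy⟩ := Finset.one_lt_card.mp hs
  have hPs : P ≤ keeps s := h.le.trans (onSet_le_keeps s)
  have one : ∀ a ∈ s, orb P a = {a} := fun a ha =>
    (Finset.eq_of_subset_of_card_le (Finset.singleton_subset_iff.mpr (self_mem_orb P a))
      (by have := hne a ha; simp only [Finset.card_singleton]; omega)).symm
  refine h.card_ne (orb_subset hPs hx) (orb_subset hPs hy) (le_keeps_orb P x) (le_keeps_orb P y)
    ?_ ⟨x, self_mem_orb P x⟩ (by rw [one x hx, one y hy]; simp)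
  rw [one x hx, one y hy]
  simpa using hxy

/-- An element of `Sym(s)` normalizing the even part of a Sylow 2-subgroup on at least six points
lies in the Sylow subgroup. -/
theorem IsSylowOn.mem_of_normalizes_even {s : Finset α} {P : Subgroup (Perm α)}
    (h : IsSylowOn 2 s P) (h6 : 6 ≤ s.card) {g : Perm α} (hg : g ∈ onSet s)
    (hn : ∀ a ∈ evenPart P, g * a * g⁻¹ ∈ evenPart P) : g ∈ P := by
  have hPs : P ≤ keeps s := h.le.trans (onSet_le_keeps s)
  obtain ⟨x, hx, hx2⟩ := h.exists_orb (by omega)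
  set t := orb P x with ht
  have hts : t ⊆ s := orb_subset hPs hx
  have hcs := Finset.card_sdiff_add_card_eq_card hts
  obtain ⟨r1, r2, s1, s2⟩ := h.split hts (le_keeps_orb P x)
  by_cases hbig : 2 ≤ (s \ t).card
  · -- both parts contain odd elements
    obtain ⟨e1, he1, hs1⟩ := s1.exists_sign_neg hx2
    obtain ⟨e2, he2, hs2⟩ := s2.exists_sign_neg hbig
    have hd : Disjoint t (s \ t) := Finset.disjoint_sdiff
    have horb : ∀ f ∈ P, ∀ a, ∃ f' ∈ evenPart P, f' a = f a := by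
      intro f hf a
      by_cases hat : a ∈ t
      · obtain ⟨f', hf', he⟩ := exists_even_mul (t := s \ t) hf he2 hs2
        exact ⟨f', hf', he a (Finset.disjoint_left.mp hd hat)⟩
      · obtain ⟨f', hf', he⟩ := exists_even_mul (t := t) hf he1 hs1
        exact ⟨f', hf', he a hat⟩
    have hgx : g x ∈ s := (onSet_le_keeps s hg x).mpr hx
    set u := orb P (g x) with hu
    have himg : t.image g = u := by
      ext z
      rw [Finset.mem_image, hu, mem_orb]
      constructor
      · rintro ⟨a, ha, rfl⟩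
        obtain ⟨f, hf, rfl⟩ := mem_orb.mp ha
        obtain ⟨f', hf', he⟩ := horb f hf x
        exact ⟨g * f' * g⁻¹, (hn f' hf').1, by simp [he]⟩
      · rintro ⟨f, hf, rfl⟩
        obtain ⟨f', hf', he⟩ := horb f hf (g x)
        exact ⟨(g⁻¹ * f' * g) x,
          mem_orb.mpr ⟨_, (inv_conj_mem hn f' hf').1, rfl⟩, by simp [he]⟩
    have hk : g ∈ keeps t := by
      refine keeps_of_mapsTo fun y hy => ?_
      have hyu : g y ∈ u := himg ▸ Finset.mem_image_of_mem _ hy
      by_contra hnot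
      have hdu : Disjoint t u := by
        rw [Finset.disjoint_left]
        intro z hz hz'
        apply hnot
        rw [ht, ← orb_eq_of_mem hz, orb_eq_of_mem hz']
        exact hyu
      refine h.card_ne hts (orb_subset hPs hgx) (le_keeps_orb P x) (le_keeps_orb P (g x)) hdu
        ⟨x, self_mem_orb P x⟩ ?_
      show t.card = u.card
      rw [← himg, Finset.card_image_of_injective _ g.injective]
    have hk' : g ∈ keeps (s \ t) := keeps_sdiff (onSet_le_keeps s hg) hk
    have m1 := s1.mem_of_normalizes (res_mem_onSet t g)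
      (res_normalizes (T := evenPart P) (fun a ha => ha.1) (fun a ha _ => r1 a ha)
        (fun a ha => by
          obtain ⟨h', p, q, -, e⟩ := exists_even_lift hd he2 hs2 ha
          exact ⟨h', p, q, e⟩) hk hn)
    have m2 := s2.mem_of_normalizes (res_mem_onSet (s \ t) g)
      (res_normalizes (T := evenPart P) (fun a ha => ha.1) (fun a ha _ => r2 a ha)
        (fun a ha => by
          obtain ⟨h', p, q, -, e⟩ := exists_even_lift hd.symm he1 hs1 ha
          exact ⟨h', p, q, e⟩) hk' hn)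
    rw [← res_mul_res_sdiff hts hg hk]
    exact P.mul_mem m1.1 m2.1
  · -- one large orbit
    obtain ⟨k, hk⟩ := card_orb_eq_pow h.isPGroup x
    rw [← ht] at hk
    have ht8 : 8 ≤ t.card := by
      have h3 : 2 < k := by
        rw [← Nat.pow_lt_pow_iff_right (show 1 < 2 by norm_num)]
        omega
      calc 8 = 2 ^ 3 := rfl
        _ ≤ 2 ^ k := Nat.pow_le_pow_right (by norm_num) h3
        _ = t.card := hk.symm
    have hone : ∀ a b, a ∈ s \ t → b ∈ s \ t → a = b :=
      fun a b ha hb => Finset.card_le_one.mp (by omega) a ha b hb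
    have hPt : P ≤ onSet t := by
      intro f hf a ha
      by_cases has : a ∈ s
      · refine hone _ _ ?_ (Finset.mem_sdiff.mpr ⟨has, ha⟩)
        exact (keeps_sdiff (hPs hf) (le_keeps_orb P x hf) a).mpr (Finset.mem_sdiff.mpr ⟨has, ha⟩)
      · exact h.le hf a has
    have hPt' : P ⊓ onSet t = P := inf_eq_left.mpr hPt
    rw [hPt'] at s1
    obtain ⟨O1, O2, H⟩ :=
      s1.exists_halves (fun a ha b hb => exists_map_of_mem_orb ha hb) hx2
    obtain ⟨p1, p2, p3, p4, p5, p6⟩ := H.evenPart_props ht8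
    have hgt : g ∈ onSet t := by
      intro a ha
      by_cases has : a ∈ s
      · refine hone _ _ ?_ (Finset.mem_sdiff.mpr ⟨has, ha⟩)
        refine Finset.mem_sdiff.mpr ⟨(onSet_le_keeps s hg a).mpr has, fun hga => ?_⟩
        obtain ⟨b, hb, hne⟩ := Finset.exists_mem_ne (by omega : 1 < t.card) (g a)
        obtain ⟨f, hf, hfb⟩ := p6 _ hga b hb
        have hfix : (g⁻¹ * f * g) a = a := hPt (inv_conj_mem hn f hf).1 a ha
        apply hne
        have h2 := congrArg g hfix
        rw [Perm.mul_apply, Perm.mul_apply, Perm.coe_inv, Equiv.apply_symm_apply] at h2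
        rw [← hfb, h2]
      · exact hg a has
    exact H.mem_of_normalizes (T := evenPart P) s1.le (fun a ha => ha.1)
      (fun s' Q _ hQ a ha hq => hQ.mem_of_normalizes ha hq) hgt hn p1 p2 p3 p4 p5

/-- A Sylow 2-subgroup of a finite symmetric group is its own normalizer. -/
theorem normalizer_sylow_perm (P : Sylow 2 (Perm α)) :
    Subgroup.normalizer ((P : Subgroup (Perm α)) : Set (Perm α)) = P := by
  refine le_antisymm (fun g hg => ?_) Subgroup.le_normalizer
  exact (isSylowOn_univ P).mem_of_normalizes (fun x hx => absurd (Finset.mem_univ x) hx)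
    (fun a ha => (Subgroup.mem_normalizer_iff.mp hg a).mp ha)

/-- A Sylow 2-subgroup of the alternating group is the even part of one of the symmetric group. -/
theorem exists_evenPart_eq (S : Sylow 2 (alternatingGroup α)) :
    ∃ P : Sylow 2 (Perm α),
      (S : Subgroup (alternatingGroup α)).map (alternatingGroup α).subtype
        = evenPart (P : Subgroup (Perm α)) := by
  obtain ⟨P, hP⟩ := (S.isPGroup'.map (alternatingGroup α).subtype).exists_le_sylow
  refine ⟨P, le_antisymm (fun g hg => ?_) (fun g hg => ?_)⟩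
  · refine ⟨hP hg, ?_⟩
    obtain ⟨a, -, rfl⟩ := hg
    exact a.2
  · have hp : IsPGroup 2 ((P : Subgroup (Perm α)).comap (alternatingGroup α).subtype) :=
      P.isPGroup'.comap_of_injective _ (alternatingGroup α).subtype_injective
    have he := S.is_maximal' hp (fun a ha => hP ⟨a, ha, rfl⟩)
    exact ⟨⟨g, hg.2⟩, he ▸ (show (g : Perm α) ∈ (P : Subgroup (Perm α)) from hg.1), rfl⟩

/-- A Sylow 2-subgroup of an alternating group of degree at least 6 is its own normalizer. -/
theorem normalizer_sylow_alternating (h6 : 6 ≤ Fintype.card α)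
    (S : Sylow 2 (alternatingGroup α)) :
    Subgroup.normalizer ((S : Subgroup (alternatingGroup α)) : Set (alternatingGroup α)) = S := by
  refine le_antisymm (fun g hg => ?_) Subgroup.le_normalizer
  obtain ⟨P, hP⟩ := exists_evenPart_eq S
  have hmem : (g : Perm α) ∈ (P : Subgroup (Perm α)) := by
    refine (isSylowOn_univ P).mem_of_normalizes_even (by rwa [Finset.card_univ])
      (fun x hx => absurd (Finset.mem_univ x) hx) ?_
    intro a ha
    rw [← hP] at ha ⊢
    obtain ⟨b, hb, rfl⟩ := ha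
    exact ⟨g * b * g⁻¹, (Subgroup.mem_normalizer_iff.mp hg b).mp hb, by simp⟩
  have : (g : Perm α) ∈ (S : Subgroup (alternatingGroup α)).map (alternatingGroup α).subtype :=
    hP ▸ ⟨hmem, g.2⟩
  obtain ⟨b, hb, hbg⟩ := this
  rwa [← Subtype.ext hbg]

end CfsgLib.SymSylow
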