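import Mathlib
import Cfsg.Agent.SymSylow.Basic

/-!
Generating the even permutations of a set from three-cycles through two fixed points, and the
ways of gluing two such sets.
-/

set_option autoImplicit false

namespace CfsgLib.SymSylow

open Equiv

variable {α : Type*} [DecidableEq α]

lemma swap_mem_onSet {U : Finset α} {a b : α} (ha : a ∈ U) (hb : b ∈ U) :
    swap a b ∈ onSet U := fun x hx =>
  swap_apply_of_ne_of_ne (fun h => hx (h ▸ ha)) (fun h => hx (h ▸ hb))

lemma commute_of_disjoint_onSet {U V : Finset α} (h : Disjoint U V) {f g : Perm α}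
    (hf : f ∈ onSet U) (hg : g ∈ onSet V) : f * g = g * f := by
  have hfk := onSet_le_keeps U hf
  have hgk := onSet_le_keeps V hg
  ext x
  rw [Perm.mul_apply, Perm.mul_apply]
  by_cases hU : x ∈ U
  · rw [hg x (Finset.disjoint_left.mp h hU),
      hg (f x) (Finset.disjoint_left.mp h ((hfk x).mpr hU))]
  · by_cases hV : x ∈ V
    · rw [hf x hU, hf (g x) (Finset.disjoint_right.mp h ((hgk x).mpr hV))]
    · rw [hg x hV, hf x hU, hg x hV]

variable [Fintype α]

/-- `J` contains every even permutation supported on `U`. -/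
def EvenLE (U : Finset α) (J : Subgroup (Perm α)) : Prop :=
  ∀ g ∈ onSet U, Perm.sign g = 1 → g ∈ J

lemma evenLE_of_star {J : Subgroup (Perm α)} {U : Finset α} {a b : α} (ha : a ∈ U) (hb : b ∈ U)
    (hab : a ≠ b) (h : ∀ c ∈ U, c ≠ a → swap a c * swap a b ∈ J) : EvenLE U J := by
  let S : Set (Perm α) := {s | ∃ c ∈ U, c ≠ a ∧ s = swap a c}
  have hsw : ∀ x ∈ U, ∀ y ∈ U, swap x y ∈ Subgroup.closure S := by
    intro x hx y hy
    by_cases hxy : x = y
    · rw [hxy, swap_self]; exact one_mem _
    by_cases hxa : x = a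
    · subst hxa
      exact Subgroup.subset_closure ⟨y, hy, Ne.symm hxy, rfl⟩
    by_cases hya : y = a
    · subst hya
      rw [swap_comm]
      exact Subgroup.subset_closure ⟨x, hx, hxy, rfl⟩
    have e : swap x y = swap a x * swap a y * (swap a x)⁻¹ := by
      rw [← swap_apply_apply, swap_apply_left,
        swap_apply_of_ne_of_ne hya (Ne.symm hxy)]
    rw [e]
    have h1 : swap a x ∈ Subgroup.closure S := Subgroup.subset_closure ⟨x, hx, hxa, rfl⟩
    exact mul_mem (mul_mem h1 (Subgroup.subset_closure ⟨y, hy, hya, rfl⟩)) (inv_mem h1)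
  have hgen : ∀ g ∈ onSet U, g ∈ Subgroup.closure S := by
    intro g
    induction hn : g.support.card using Nat.strong_induction_on generalizing g with
    | _ n IH =>
      intro hg
      by_cases h1 : g = 1
      · rw [h1]; exact one_mem _
      obtain ⟨x, hx⟩ : ∃ x, g x ≠ x := by
        by_contra hne
        push Not at hne
        exact h1 (Equiv.ext hne)
      have hxU : x ∈ U := by
        by_contra hc; exact hx (hg x hc)
      have hgxU : g x ∈ U := (onSet_le_keeps U hg x).mpr hxU
      have h2 := IH _ (hn ▸ Perm.card_support_swap_mul hx) (swap x (g x) * g) rfl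
        (mul_mem (swap_mem_onSet hxU hgxU) hg)
      have h3 := mul_mem (hsw x hxU (g x) hgxU) h2
      rwa [swap_mul_self_mul] at h3
  intro g hg hgs
  suffices (Perm.sign g = 1 → g ∈ J) ∧ (Perm.sign g = -1 → g * swap a b ∈ J) from this.1 hgs
  have step : ∀ (f s : Perm α), s ∈ S →
      ((Perm.sign f = 1 → f ∈ J) ∧ (Perm.sign f = -1 → f * swap a b ∈ J)) →
      (Perm.sign (f * s) = 1 → f * s ∈ J) ∧ (Perm.sign (f * s) = -1 → f * s * swap a b ∈ J) := by
    rintro f s ⟨c, hc, hca, rfl⟩ ⟨h1, h2⟩
    have hs : Perm.sign (f * swap a c) = -Perm.sign f := by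
      rw [map_mul, Perm.sign_swap (Ne.symm hca)]; simp
    refine ⟨fun hf => ?_, fun hf => ?_⟩
    · have e : f * swap a c = (f * swap a b) * (swap a c * swap a b)⁻¹ := by
        simp [mul_assoc, mul_inv_rev]
      rw [e]
      exact J.mul_mem (h2 (by rw [hs] at hf; exact neg_eq_iff_eq_neg.mp hf))
        (J.inv_mem (h c hc hca))
    · rw [mul_assoc]
      exact J.mul_mem (h1 (by rw [hs] at hf; exact neg_inj.mp hf)) (h c hc hca)
  have hcl := hgen g hg
  clear hg hgs
  induction hcl using Subgroup.closure_induction_right with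
  | one => exact ⟨fun _ => J.one_mem, fun hneg => by simp at hneg⟩
  | mul_right f _ s hs ih => exact step f s hs ih
  | mul_inv_cancel f _ s hs ih =>
    have : s⁻¹ = s := by obtain ⟨c, -, -, rfl⟩ := hs; exact swap_inv _ _
    rw [this]
    exact step f s hs ih

lemma EvenLE.mono {U V : Finset α} {J : Subgroup (Perm α)} (h : EvenLE V J) (hUV : U ⊆ V) :
    EvenLE U J := fun g hg hs => h g (onSet_mono hUV hg) hs

lemma EvenLE.union {U V : Finset α} {J : Subgroup (Perm α)} (hU : EvenLE U J) (hV : EvenLE V J)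
    {a b : α} (haU : a ∈ U) (haV : a ∈ V) (hbU : b ∈ U) (hbV : b ∈ V) (hab : a ≠ b) :
    EvenLE (U ∪ V) J := by
  refine evenLE_of_star (Finset.mem_union_left _ haU) (Finset.mem_union_left _ hbU) hab
    fun c hc hca => ?_
  have hs : Perm.sign (swap a c * swap a b) = 1 := by
    rw [map_mul, Perm.sign_swap (Ne.symm hca), Perm.sign_swap hab]; simp
  rcases Finset.mem_union.mp hc with hc | hc
  · exact hU _ (mul_mem (swap_mem_onSet haU hc) (swap_mem_onSet haU hbU)) hs
  · exact hV _ (mul_mem (swap_mem_onSet haV hc) (swap_mem_onSet haV hbV)) hs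

lemma EvenLE.image {U : Finset α} {J : Subgroup (Perm α)} (hU : EvenLE U J) {e : Perm α}
    (he : e ∈ J) : EvenLE (U.image e) J := by
  intro g hg hs
  have h1 : e⁻¹ * g * e ∈ J := by
    refine hU _ (fun x hx => ?_) (by simp [hs])
    rw [Perm.mul_apply, Perm.mul_apply, hg (e x)]
    · simp
    · intro h
      obtain ⟨y, hy, hye⟩ := Finset.mem_image.mp h
      exact hx (e.injective hye ▸ hy)
  have h2 := J.mul_mem (J.mul_mem he h1) (J.inv_mem he)
  simpa [mul_assoc] using h2

lemma alternatingGroup_le_of_evenLE {U : Finset α} {J : Subgroup (Perm α)}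
    (hU : ∀ x, x ∈ U) (h : EvenLE U J) : alternatingGroup α ≤ J :=
  fun g hg => h g (fun x hx => absurd (hU x) hx) hg

/-- The even permutations of `U` and of its complement `V`, together with the even permutations
commuting with a fixed-point-free involution `z` which leaves `U` invariant, generate all even
permutations. -/
theorem alternatingGroup_le_of_mix {U V : Finset α} {J : Subgroup (Perm α)} {z : Perm α}
    (hd : Disjoint U V) (huniv : ∀ x, x ∈ U ∪ V) (hU4 : 4 ≤ U.card) (hV2 : 2 ≤ V.card)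
    (hz2 : z * z = 1) (hz : ∀ x, z x ≠ x) (hzU : z ∈ keeps U)
    (hJU : EvenLE U J) (hJV : EvenLE V J)
    (hJz : ∀ e, Perm.sign e = 1 → z * e = e * z → e ∈ J) : alternatingGroup α ≤ J := by
  obtain ⟨a, ha⟩ := Finset.card_pos.mp (by omega : 0 < U.card)
  obtain ⟨c, hc⟩ := Finset.card_pos.mp (by omega : 0 < V.card)
  have hzz : ∀ x, z (z x) = x := fun x => by
    rw [← Perm.mul_apply, hz2]; rfl
  have hza : z a ∈ U := (hzU a).mpr ha
  have hzc : z c ∈ V := by
    rcases Finset.mem_union.mp (huniv (z c)) with h | h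
    · exact absurd hc (Finset.disjoint_left.mp hd ((hzU c).mp h))
    · exact h
  have ne_UV : ∀ {x y : α}, x ∈ U → y ∈ V → x ≠ y := fun hx hy h =>
    Finset.disjoint_left.mp hd hx (h ▸ hy)
  set e : Perm α := swap a c * swap (z a) (z c) with he
  have hes : Perm.sign e = 1 := by
    rw [he, map_mul, Perm.sign_swap (ne_UV ha hc), Perm.sign_swap (ne_UV hza hzc)]; simp
  have hzinv : z⁻¹ = z := inv_eq_of_mul_eq_one_right hz2
  have hze : z * e = e * z := by
    have h1 : z * swap a c * z⁻¹ = swap (z a) (z c) := (swap_apply_apply z a c).symm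
    have h2 : z * swap (z a) (z c) * z⁻¹ = swap a c := by
      rw [← swap_apply_apply, hzz, hzz]
    have hcomm : swap (z a) (z c) * swap a c = swap a c * swap (z a) (z c) := by
      refine commute_of_disjoint_onSet (U := {z a, z c}) (V := {a, c}) ?_
        (swap_mem_onSet (by simp) (by simp)) (swap_mem_onSet (by simp) (by simp))
      simp only [Finset.disjoint_insert_left, Finset.mem_insert, Finset.mem_singleton,
        Finset.disjoint_singleton_left]
      exact ⟨not_or.mpr ⟨hz a, ne_UV hza hc⟩, not_or.mpr ⟨(ne_UV ha hzc).symm, hz c⟩⟩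
    calc z * e = (z * swap a c * z⁻¹) * (z * swap (z a) (z c) * z⁻¹) * z := by
          rw [he]; group
      _ = e * z := by rw [h1, h2, hcomm]
  have heJ : e ∈ J := hJz e hes hze
  have hrest : 2 ≤ ((U.erase a).erase (z a)).card := by
    rw [Finset.card_erase_of_mem (Finset.mem_erase.mpr ⟨hz a, hza⟩), Finset.card_erase_of_mem ha]
    omega
  obtain ⟨u, hu, v, hv, huv⟩ := Finset.one_lt_card.mp hrest
  have hfix : ∀ w ∈ (U.erase a).erase (z a), w ∈ U ∧ w ∈ U.image e := by
    intro w hw
    obtain ⟨hw1, hw2, hwU⟩ : w ≠ z a ∧ w ≠ a ∧ w ∈ U := by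
      rw [Finset.mem_erase, Finset.mem_erase] at hw; exact hw
    refine ⟨hwU, Finset.mem_image.mpr ⟨w, hwU, ?_⟩⟩
    rw [he, Perm.mul_apply, swap_apply_of_ne_of_ne hw1 (ne_UV hwU hzc),
      swap_apply_of_ne_of_ne hw2 (ne_UV hwU hc)]
  have hbig : EvenLE (U ∪ U.image e) J :=
    hJU.union (hJU.image heJ) (hfix u hu).1 (hfix u hu).2 (hfix v hv).1 (hfix v hv).2 huv
  have hc' : c ∈ U.image e := by
    refine Finset.mem_image.mpr ⟨a, ha, ?_⟩
    rw [he, Perm.mul_apply, swap_apply_of_ne_of_ne (Ne.symm (hz a)) (ne_UV ha hzc),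
      swap_apply_left]
  have hzc' : z c ∈ U.image e := by
    refine Finset.mem_image.mpr ⟨z a, hza, ?_⟩
    rw [he, Perm.mul_apply, swap_apply_left,
      swap_apply_of_ne_of_ne (ne_UV ha hzc).symm (hz c)]
  refine alternatingGroup_le_of_evenLE (U := U ∪ U.image e ∪ V) (fun x => ?_)
    (hbig.union hJV (Finset.mem_union_right _ hc') hc (Finset.mem_union_right _ hzc') hzc
      (Ne.symm (hz c)))
  rcases Finset.mem_union.mp (huniv x) with h | h
  · exact Finset.mem_union_left _ (Finset.mem_union_left _ h)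
  · exact Finset.mem_union_right _ h

end CfsgLib.SymSylow
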