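import Mathlib
import Cfsg.Agent.SymSylow.Normalizer
import Cfsg.Agent.SymSylow.StarAlt

/-!
Four-point blocks of a Sylow 2-subgroup with their Klein four-groups, central involutions, and
three-cycles obtained from two Klein four-groups meeting in one or three points.
-/

set_option autoImplicit false

namespace CfsgLib.SymSylow

open Equiv

variable {α : Type*} [DecidableEq α] [Fintype α]

lemma viaEmbeddingHom_swap {β : Type*} [DecidableEq β] (f : β ↪ α) (i j : β) :
    Perm.viaEmbeddingHom f (swap i j) = swap (f i) (f j) := by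
  ext x
  show (swap i j).viaEmbedding f x = swap (f i) (f j) x
  by_cases hx : x ∈ Set.range f
  · obtain ⟨k, rfl⟩ := hx
    rw [Perm.viaEmbedding_apply]
    rcases eq_or_ne k i with rfl | hki
    · rw [swap_apply_left, swap_apply_left]
    rcases eq_or_ne k j with rfl | hkj
    · rw [swap_apply_right, swap_apply_right]
    rw [swap_apply_of_ne_of_ne hki hkj,
      swap_apply_of_ne_of_ne (f.injective.ne hki) (f.injective.ne hkj)]
  · rw [Perm.viaEmbedding_apply_of_notMem _ _ _ hx,
      swap_apply_of_ne_of_ne (fun h => hx ⟨i, h.symm⟩) (fun h => hx ⟨j, h.symm⟩)]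

/-- `H` contains the Klein four-group of double transpositions of `Q`. -/
def KleinIn (H : Subgroup (Perm α)) (Q : Finset α) : Prop :=
  ∀ a ∈ Q, ∀ b ∈ Q, ∀ c ∈ Q, ∀ d ∈ Q, [a, b, c, d].Nodup → swap a b * swap c d ∈ H

omit [Fintype α] in
lemma KleinIn.mono {H K : Subgroup (Perm α)} {Q : Finset α} (h : KleinIn H Q) (hHK : H ≤ K) :
    KleinIn K Q := fun a ha b hb c hc d hd hn => hHK (h a ha b hb c hc d hd hn)

omit [Fintype α] in
lemma KleinIn.image {H : Subgroup (Perm α)} {Q : Finset α} (h : KleinIn H Q) {g : Perm α}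
    (hg : g ∈ H) : KleinIn H (Q.image g) := by
  intro a ha b hb c hc d hd hn
  obtain ⟨a, ha', rfl⟩ := Finset.mem_image.mp ha
  obtain ⟨b, hb', rfl⟩ := Finset.mem_image.mp hb
  obtain ⟨c, hc', rfl⟩ := Finset.mem_image.mp hc
  obtain ⟨d, hd', rfl⟩ := Finset.mem_image.mp hd
  have h1 := h a ha' b hb' c hc' d hd'
    (List.Nodup.of_map g (by simpa using hn))
  have h2 := H.mul_mem (H.mul_mem hg h1) (H.inv_mem hg)
  rw [swap_apply_apply, swap_apply_apply]
  simpa [mul_assoc] using h2

/-- Evenness alone gives transitivity once the degree is four. -/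
lemma Halves.evenPart_trans {O O1 O2 : Finset α} {P : Subgroup (Perm α)}
    (H : Halves O P O1 O2) (h4 : 4 ≤ O.card) :
    ∀ x ∈ O, ∀ y ∈ O, ∃ h ∈ evenPart P, h x = y := by
  have hc : O1.card + O2.card = O.card := by
    rw [← Finset.card_union_of_disjoint H.disj, H.union]
  have hce := H.card_eq
  obtain ⟨e1, he1, hs1⟩ := H.sylow₁.exists_sign_neg (by omega)
  obtain ⟨e2, he2, hs2⟩ := H.sylow₂.exists_sign_neg (by omega)
  obtain ⟨s, hs, hsa, hsb⟩ : ∃ s ∈ evenPart P, (∀ x ∈ O1, s x ∈ O2) ∧ (∀ x ∈ O2, s x ∈ O1) := by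
    obtain ⟨s, hs, hsa, hsb⟩ := H.exists_swap
    rcases Int.units_eq_one_or (Perm.sign s) with h | h
    · exact ⟨s, ⟨hs, h⟩, hsa, hsb⟩
    · refine ⟨s * e1, ⟨P.mul_mem hs he1.1, ?_⟩, fun x hx => ?_, fun x hx => ?_⟩
      · change Perm.sign _ = 1; rw [map_mul, h, hs1]; decide
      · exact hsa _ ((onSet_le_keeps O1 he1.2 x).mpr hx)
      · exact hsb _ ((onSet_le_keeps_of_disjoint H.disj.symm he1.2 x).mpr hx)
  have same : ∀ {A B : Finset α} {e : Perm α}, Disjoint A B → e ∈ P ⊓ onSet B →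
      Perm.sign e = -1 → (∀ x ∈ A, ∀ y ∈ A, ∃ g ∈ P ⊓ onSet A, g x = y) →
      ∀ a ∈ A, ∀ b ∈ A, ∃ h ∈ evenPart P, h a = b := by
    intro A B e hd he hes htr a ha b hb
    obtain ⟨f, hf, hfb⟩ := htr a ha b hb
    rcases Int.units_eq_one_or (Perm.sign f) with h | h
    · exact ⟨f, ⟨hf.1, h⟩, hfb⟩
    · refine ⟨f * e, ⟨P.mul_mem hf.1 he.1, ?_⟩, ?_⟩
      · change Perm.sign _ = 1; rw [map_mul, h, hes]; decide
      · rw [Perm.mul_apply, he.2 a (Finset.disjoint_left.mp hd ha), hfb]
  intro x hx y hy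
  rw [← H.union, Finset.mem_union] at hx hy
  rcases hx with hx | hx <;> rcases hy with hy | hy
  · exact same H.disj he2 hs2 H.trans₁ x hx y hy
  · obtain ⟨f, hf, hfy⟩ := same H.disj.symm he1 hs1 H.trans₂ _ (hsa x hx) y hy
    exact ⟨f * s, mul_mem hf hs, by rw [Perm.mul_apply, hfy]⟩
  · obtain ⟨f, hf, hfy⟩ := same H.disj he2 hs2 H.trans₁ _ (hsb x hx) y hy
    exact ⟨f * s, mul_mem hf hs, by rw [Perm.mul_apply, hfy]⟩
  · exact same H.disj.symm he1 hs1 H.trans₂ x hx y hy

private lemma four_cases : ∀ k : Perm (Fin 4), Perm.sign k = 1 → k 0 = 1 →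
    k = swap 0 1 * swap 2 3 ∨ k ^ 3 = 1 := by
  decide

/-- On four points the even part of the Sylow 2-subgroup is the Klein four-group. -/
lemma IsSylowOn.klein {Q : Finset α} {P : Subgroup (Perm α)} (h : IsSylowOn 2 Q P)
    (htr : ∀ x ∈ Q, ∀ y ∈ Q, ∃ g ∈ P, g x = y) (hQ : Q.card = 4) : KleinIn (evenPart P) Q := by
  intro a ha b hb c hc d hd hn
  obtain ⟨O1, O2, H⟩ := h.exists_halves htr (by omega)
  obtain ⟨g, hg, hgab⟩ := H.evenPart_trans (by omega) a ha b hb
  let f : Fin 4 ↪ α := ⟨[a, b, c, d].get, List.nodup_iff_injective_get.mp hn⟩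
  have hrange : (Perm.viaEmbeddingHom f).range ≤ onSet Q := by
    rintro _ ⟨k, rfl⟩ x hx
    show k.viaEmbedding f x = x
    refine Perm.viaEmbedding_apply_of_notMem _ _ _ ?_
    rintro ⟨i, rfl⟩
    apply hx
    fin_cases i
    · exact ha
    · exact hb
    · exact hc
    · exact hd
  have heq : (Perm.viaEmbeddingHom f).range = onSet Q := by
    refine Subgroup.eq_of_le_of_card_ge hrange ?_
    rw [Nat.card_congr (MonoidHom.ofInjective (Perm.viaEmbeddingHom_injective f)).toEquiv.symm,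
      Nat.card_perm, Nat.card_fin, card_onSet, hQ]
  have hmem : g ∈ (Perm.viaEmbeddingHom f).range := heq ▸ h.le hg.1
  obtain ⟨k, rfl⟩ := hmem
  have hks : Perm.sign k = 1 := by
    have h2 : Perm.sign (Perm.viaEmbeddingHom f k) = 1 := hg.2
    simp only [Perm.viaEmbeddingHom, Perm.extendDomainHom_apply, Perm.sign_extendDomain] at h2
    exact h2
  have hk0 : k 0 = 1 := by
    apply f.injective
    have h2 : Perm.viaEmbeddingHom f k (f 0) = f (k 0) := Perm.viaEmbedding_apply k f 0
    have h3 : f 0 = a := rfl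
    have h4 : f 1 = b := rfl
    rw [← h2, h3, h4, hgab]
  rcases four_cases k hks hk0 with rfl | hk
  · rw [map_mul, viaEmbeddingHom_swap, viaEmbeddingHom_swap] at hg
    exact hg
  · exfalso
    set g := Perm.viaEmbeddingHom f k with hgdef
    have hg3 : g ^ 3 = 1 := by rw [hgdef, ← map_pow, hk, map_one]
    obtain ⟨m, hm⟩ := h.isPGroup ⟨g, hg.1⟩
    have hm' : g ^ 2 ^ m = 1 := by simpa using congrArg Subtype.val hm
    have h1 : orderOf g = 1 := by
      have hd1 := orderOf_dvd_of_pow_eq_one hg3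
      have hd2 := orderOf_dvd_of_pow_eq_one hm'
      exact Nat.eq_one_of_dvd_coprimes (Nat.Coprime.pow_right m (by decide)) hd1 hd2
    have hab : a ≠ b := by
      intro hab
      simp [hab] at hn
    rw [orderOf_eq_one_iff.mp h1] at hgab
    exact hab hgab

private theorem quads_aux (n : ℕ) : ∀ (O : Finset α) (P : Subgroup (Perm α)),
    O.card = n → IsSylowOn 2 O P → (∀ x ∈ O, ∀ y ∈ O, ∃ g ∈ P, g x = y) → 4 ≤ O.card →
    ∃ B : Finset (Finset α), (∀ p ∈ O, ∃ Q ∈ B, p ∈ Q) ∧
      (∀ Q ∈ B, Q ⊆ O ∧ Q.card = 4 ∧ KleinIn (evenPart P) Q) ∧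
      (∀ Q ∈ B, ∀ R ∈ B, Q ≠ R → Disjoint Q R) := by
  induction n using Nat.strong_induction_on with
  | _ n IH =>
    intro O P hn h htr h4
    obtain ⟨x, hx⟩ := Finset.card_pos.mp (by omega : 0 < O.card)
    have horb : orb P x = O := Finset.Subset.antisymm
      (orb_subset (h.le.trans (onSet_le_keeps O)) hx) (fun y hy => mem_orb.mpr (htr x hx y hy))
    obtain ⟨k, hk⟩ := card_orb_eq_pow h.isPGroup x
    rw [horb] at hk
    rcases eq_or_lt_of_le h4 with hc | hc
    · refine ⟨{O}, fun p hp => ⟨O, by simp, hp⟩, fun Q hQ => ?_, fun Q hQ R hR hne => ?_⟩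
      · rw [Finset.mem_singleton] at hQ
        subst hQ
        exact ⟨Finset.Subset.refl _, hc.symm, h.klein htr hc.symm⟩
      · rw [Finset.mem_singleton] at hQ hR
        exact absurd (hQ.trans hR.symm) hne
    · have h8 : 8 ≤ O.card := by
        have : 2 < k := by
          rw [← Nat.pow_lt_pow_iff_right (show 1 < 2 by norm_num)]; omega
        rw [hk]
        exact (show 8 = 2 ^ 3 from rfl) ▸ Nat.pow_le_pow_right (by norm_num) this
      obtain ⟨O1, O2, H⟩ := h.exists_halves htr (by omega)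
      have hsum : O1.card + O2.card = O.card := by
        rw [← Finset.card_union_of_disjoint H.disj, H.union]
      have hce := H.card_eq
      obtain ⟨B1, c1, q1, d1⟩ := IH _ (hn ▸ (by omega : O1.card < O.card)) O1 _ rfl H.sylow₁
        H.trans₁ (by omega)
      obtain ⟨B2, c2, q2, d2⟩ := IH _ (hn ▸ (by omega : O2.card < O.card)) O2 _ rfl H.sylow₂
        H.trans₂ (by omega)
      have hle : ∀ T, evenPart (P ⊓ onSet T) ≤ evenPart P := fun T g hg => ⟨hg.1.1, hg.2⟩
      refine ⟨B1 ∪ B2, fun p hp => ?_, fun Q hQ => ?_, fun Q hQ R hR hne => ?_⟩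
      · rw [← H.union, Finset.mem_union] at hp
        rcases hp with hp | hp
        · obtain ⟨Q, hQ, hpQ⟩ := c1 p hp
          exact ⟨Q, Finset.mem_union_left _ hQ, hpQ⟩
        · obtain ⟨Q, hQ, hpQ⟩ := c2 p hp
          exact ⟨Q, Finset.mem_union_right _ hQ, hpQ⟩
      · rcases Finset.mem_union.mp hQ with hQ | hQ
        · exact ⟨(q1 Q hQ).1.trans H.subset₁, (q1 Q hQ).2.1, (q1 Q hQ).2.2.mono (hle O1)⟩
        · exact ⟨(q2 Q hQ).1.trans H.subset₂, (q2 Q hQ).2.1, (q2 Q hQ).2.2.mono (hle O2)⟩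
      · rcases Finset.mem_union.mp hQ with hQ | hQ <;> rcases Finset.mem_union.mp hR with hR | hR
        · exact d1 Q hQ R hR hne
        · exact (H.disj.mono_left (q1 Q hQ).1).mono_right (q2 R hR).1
        · exact (H.disj.symm.mono_left (q2 Q hQ).1).mono_right (q1 R hR).1
        · exact d2 Q hQ R hR hne

/-- A transitive Sylow 2-subgroup of degree at least 4 has a partition into four-point sets with
their Klein four-groups. -/
theorem IsSylowOn.exists_quads {O : Finset α} {P : Subgroup (Perm α)} (h : IsSylowOn 2 O P)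
    (htr : ∀ x ∈ O, ∀ y ∈ O, ∃ g ∈ P, g x = y) (h4 : 4 ≤ O.card) :
    ∃ B : Finset (Finset α), (∀ p ∈ O, ∃ Q ∈ B, p ∈ Q) ∧
      (∀ Q ∈ B, Q ⊆ O ∧ Q.card = 4 ∧ KleinIn (evenPart P) Q) ∧
      (∀ Q ∈ B, ∀ R ∈ B, Q ≠ R → Disjoint Q R) :=
  quads_aux O.card O P rfl h htr h4

/-- A transitive Sylow 2-subgroup has a central involution, without fixed points. -/
theorem IsSylowOn.exists_central_involution {O : Finset α} {P : Subgroup (Perm α)}
    (h : IsSylowOn 2 O P) (htr : ∀ x ∈ O, ∀ y ∈ O, ∃ g ∈ P, g x = y) (hO : 2 ≤ O.card) :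
    ∃ z ∈ P, z * z = 1 ∧ (∀ x ∈ O, z x ≠ x) ∧ ∀ g ∈ P, z * g = g * z := by
  obtain ⟨a, ha, b, hb, hab⟩ := Finset.one_lt_card.mp hO
  obtain ⟨g0, hg0, hg0a⟩ := htr a ha b hb
  have hne : g0 ≠ 1 := by
    rintro rfl; exact hab hg0a
  have : Nontrivial P := ⟨⟨⟨g0, hg0⟩, 1, fun hh => hne (congrArg Subtype.val hh)⟩⟩
  have : Nontrivial (Subgroup.center P) := h.isPGroup.center_nontrivial
  obtain ⟨k, hk⟩ := IsPGroup.iff_card.mp (h.isPGroup.to_subgroup (Subgroup.center P))
  have hk0 : k ≠ 0 := by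
    intro h0
    rw [h0, pow_zero] at hk
    have := Finite.one_lt_card (α := Subgroup.center P)
    omega
  obtain ⟨z, hz⟩ := exists_prime_orderOf_dvd_card' (G := Subgroup.center P) 2
    (hk ▸ dvd_pow_self 2 hk0)
  refine ⟨((z : P) : Perm α), (z : P).2, ?_, ?_, ?_⟩
  · have h2 : z ^ 2 = 1 := hz ▸ pow_orderOf_eq_one z
    rw [pow_two] at h2
    simpa using congrArg (fun u : Subgroup.center P => ((u : P) : Perm α)) h2
  · intro x hx hfix
    have hall : ((z : P) : Perm α) = 1 := by
      ext y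
      by_cases hy : y ∈ O
      · obtain ⟨g, hg, rfl⟩ := htr x hx y hy
        have hc := congrArg (fun u : P => (u : Perm α) x)
          (Subgroup.mem_center_iff.mp z.2 ⟨g, hg⟩)
        simp only [Subgroup.coe_mul, Perm.mul_apply, hfix] at hc
        exact hc.symm
      · exact h.le (z : P).2 y hy
    have h1 : z = 1 := Subtype.ext (Subtype.ext hall)
    rw [h1, orderOf_one] at hz
    omega
  · intro g hg
    exact (congrArg Subtype.val (Subgroup.mem_center_iff.mp z.2 ⟨g, hg⟩)).symm

private lemma seven_identity :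
    (swap (0 : Fin 7) 1 * swap 2 3 * (swap 0 4 * swap 5 6)) *
      (swap (0 : Fin 7) 1 * swap 2 3 * (swap 0 4 * swap 5 6)) = swap 0 4 * swap 0 1 := by
  decide

private lemma five_identity :
    swap (0 : Fin 5) 1 * swap 2 3 * (swap 0 1 * swap 2 4) = swap 2 3 * swap 2 4 := by
  decide

omit [Fintype α] in
private lemma injective_of_card {m : ℕ} (f : Fin m → α) (h : (Finset.univ.image f).card = m) :
    Function.Injective f :=
  fun _ _ hab => Finset.card_image_iff.mp (h.trans (Fintype.card_fin m).symm)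
    (Finset.mem_coe.mpr (Finset.mem_univ _)) (Finset.mem_coe.mpr (Finset.mem_univ _)) hab

/-- Klein four-groups on two four-point sets meeting in one or three points give a three-cycle. -/
theorem exists_isThreeCycle_of_klein {H : Subgroup (Perm α)} {Q R : Finset α}
    (hQ : Q.card = 4) (hR : R.card = 4) (hkQ : KleinIn H Q) (hkR : KleinIn H R)
    (hm : (Q ∩ R).card = 1 ∨ (Q ∩ R).card = 3) : ∃ g ∈ H, Perm.IsThreeCycle g := by
  have hu := Finset.card_union_add_card_inter Q R
  have h1 := Finset.card_sdiff_add_card_inter Q R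
  have h2 := Finset.card_sdiff_add_card_inter R Q
  rw [Finset.inter_comm R Q] at h2
  rcases hm with hm | hm
  · obtain ⟨p, hp⟩ := Finset.card_eq_one.mp hm
    obtain ⟨b, c, d, hbc, hbd, hcd, hQd⟩ :=
      Finset.card_eq_three.mp (by omega : (Q \ R).card = 3)
    obtain ⟨y, z, w, hyz, hyw, hzw, hRd⟩ :=
      Finset.card_eq_three.mp (by omega : (R \ Q).card = 3)
    have hpQR : p ∈ Q ∩ R := hp ▸ Finset.mem_singleton_self p
    have mQ : ∀ u, u ∈ ({b, c, d} : Finset α) → u ∈ Q ∧ u ∉ R := fun u hu =>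
      Finset.mem_sdiff.mp (hQd ▸ hu)
    have mR : ∀ u, u ∈ ({y, z, w} : Finset α) → u ∈ R ∧ u ∉ Q := fun u hu =>
      Finset.mem_sdiff.mp (hRd ▸ hu)
    let f : Fin 7 → α := ![p, b, c, d, y, z, w]
    have hfi : Function.Injective f := by
      apply injective_of_card
      have : Finset.univ.image f = Q ∪ R := by
        have e1 : Q ∪ R = (Q ∩ R) ∪ ((Q \ R) ∪ (R \ Q)) := by
          ext u
          simp only [Finset.mem_union, Finset.mem_inter, Finset.mem_sdiff]
          tauto
        rw [e1, hp, hQd, hRd]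
        ext u
        simp only [Finset.mem_image, Finset.mem_univ, true_and, Finset.mem_union,
          Finset.mem_insert, Finset.mem_singleton, f, Fin.exists_fin_succ, Matrix.cons_val_zero,
          Matrix.cons_val_succ, IsEmpty.exists_iff, or_false]
        simp only [@eq_comm _ u]
        tauto
      rw [this]; omega
    let F : Fin 7 ↪ α := ⟨f, hfi⟩
    have hα : swap p b * swap c d ∈ H := by
      refine hkQ p (Finset.mem_inter.mp hpQR).1 b (mQ b (by simp)).1 c (mQ c (by simp)).1 d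
        (mQ d (by simp)).1 ?_
      have := List.Nodup.map hfi (by decide : ([0, 1, 2, 3] : List (Fin 7)).Nodup)
      simpa [f] using this
    have hβ : swap p y * swap z w ∈ H := by
      refine hkR p (Finset.mem_inter.mp hpQR).2 y (mR y (by simp)).1 z (mR z (by simp)).1 w
        (mR w (by simp)).1 ?_
      have := List.Nodup.map hfi (by decide : ([0, 4, 5, 6] : List (Fin 7)).Nodup)
      simpa [f] using this
    have key := congrArg (Perm.viaEmbeddingHom F) seven_identity
    simp only [map_mul, viaEmbeddingHom_swap] at key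
    refine ⟨swap p y * swap p b, ?_, Perm.isThreeCycle_swap_mul_swap_same ?_ ?_ ?_⟩
    · change (_ : Perm α) = swap p y * swap p b at key
      rw [← key]
      exact H.mul_mem (H.mul_mem hα hβ) (H.mul_mem hα hβ)
    · exact hfi.ne (by decide : (0 : Fin 7) ≠ 4)
    · exact hfi.ne (by decide : (0 : Fin 7) ≠ 1)
    · exact hfi.ne (by decide : (4 : Fin 7) ≠ 1)
  · obtain ⟨p, q, r, hpq, hpr, hqr, hI⟩ := Finset.card_eq_three.mp hm
    obtain ⟨b, hb⟩ := Finset.card_eq_one.mp (by omega : (Q \ R).card = 1)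
    obtain ⟨x, hx⟩ := Finset.card_eq_one.mp (by omega : (R \ Q).card = 1)
    have mI : ∀ u, u ∈ ({p, q, r} : Finset α) → u ∈ Q ∧ u ∈ R := fun u hu =>
      Finset.mem_inter.mp (hI ▸ hu)
    have hbQ : b ∈ Q ∧ b ∉ R := Finset.mem_sdiff.mp (hb ▸ Finset.mem_singleton_self b)
    have hxR : x ∈ R ∧ x ∉ Q := Finset.mem_sdiff.mp (hx ▸ Finset.mem_singleton_self x)
    let f : Fin 5 → α := ![p, q, r, b, x]
    have hfi : Function.Injective f := by
      apply injective_of_card
      have : Finset.univ.image f = Q ∪ R := by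
        have e1 : Q ∪ R = (Q ∩ R) ∪ ((Q \ R) ∪ (R \ Q)) := by
          ext u
          simp only [Finset.mem_union, Finset.mem_inter, Finset.mem_sdiff]
          tauto
        rw [e1, hI, hb, hx]
        ext u
        simp only [Finset.mem_image, Finset.mem_univ, true_and, Finset.mem_union,
          Finset.mem_insert, Finset.mem_singleton, f, Fin.exists_fin_succ, Matrix.cons_val_zero,
          Matrix.cons_val_succ, IsEmpty.exists_iff, or_false]
        simp only [@eq_comm _ u]
        tauto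
      rw [this]; omega
    let F : Fin 5 ↪ α := ⟨f, hfi⟩
    have hα : swap p q * swap r b ∈ H := by
      refine hkQ p (mI p (by simp)).1 q (mI q (by simp)).1 r (mI r (by simp)).1 b hbQ.1 ?_
      have := List.Nodup.map hfi (by decide : ([0, 1, 2, 3] : List (Fin 5)).Nodup)
      simpa [f] using this
    have hβ : swap p q * swap r x ∈ H := by
      refine hkR p (mI p (by simp)).2 q (mI q (by simp)).2 r (mI r (by simp)).2 x hxR.1 ?_
      have := List.Nodup.map hfi (by decide : ([0, 1, 2, 4] : List (Fin 5)).Nodup)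
      simpa [f] using this
    have key := congrArg (Perm.viaEmbeddingHom F) five_identity
    simp only [map_mul, viaEmbeddingHom_swap] at key
    refine ⟨swap r b * swap r x, ?_, Perm.isThreeCycle_swap_mul_swap_same ?_ ?_ ?_⟩
    · change (_ : Perm α) = swap r b * swap r x at key
      rw [← key]
      exact H.mul_mem hα hβ
    · exact hfi.ne (by decide : (2 : Fin 5) ≠ 3)
    · exact hfi.ne (by decide : (2 : Fin 5) ≠ 4)
    · exact hfi.ne (by decide : (3 : Fin 5) ≠ 4)

end CfsgLib.SymSylow
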