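import Mathlib
import Cfsg.Agent.SymSylow.Quads

/-!
Overgroups of a Sylow 2-subgroup in a symmetric or alternating group: when the degree is
`2^k + 1` only the point stabilizer, otherwise at least two maximal ones.
-/

set_option autoImplicit false

namespace CfsgLib.SymSylow

open Equiv

variable {α : Type*} [DecidableEq α] [Fintype α]

/-- Two overgroups of `P`, neither containing all even permutations, whose even parts generate
all even permutations. -/
def Splits (P : Subgroup (Perm α)) : Prop :=
  ∃ A B : Subgroup (Perm α), P ≤ A ∧ P ≤ B ∧ ¬ alternatingGroup α ≤ A ∧ ¬ alternatingGroup α ≤ B ∧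
    ∀ J : Subgroup (Perm α), (∀ g, Perm.sign g = 1 → g ∈ A → g ∈ J) →
      (∀ g, Perm.sign g = 1 → g ∈ B → g ∈ J) → alternatingGroup α ≤ J

lemma not_alternatingGroup_le_keeps {t : Finset α} {x y : α} (hx : x ∈ t) (hy : y ∉ t)
    (h3 : 3 ≤ Fintype.card α) : ¬ alternatingGroup α ≤ keeps t := by
  intro h
  have hxy : x ≠ y := fun e => hy (e ▸ hx)
  obtain ⟨w, hwx, hwy⟩ : ∃ w, w ≠ x ∧ w ≠ y := by
    by_contra hne
    push Not at hne
    have hsub : (Finset.univ : Finset α) ⊆ {x, y} := by
      intro u _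
      rw [Finset.mem_insert, Finset.mem_singleton]
      by_cases hu : u = x
      · exact Or.inl hu
      · exact Or.inr (hne u hu)
    have := (Finset.card_le_card hsub).trans Finset.card_le_two
    rw [Finset.card_univ] at this
    omega
  have he : swap x y * swap y w ∈ alternatingGroup α := by
    rw [Perm.mem_alternatingGroup, map_mul, Perm.sign_swap hxy, Perm.sign_swap (Ne.symm hwy)]
    simp
  have h1 := (h he x).mpr hx
  rw [Perm.mul_apply, swap_apply_of_ne_of_ne hxy (Ne.symm hwx), swap_apply_left] at h1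
  exact hy h1

lemma not_alternatingGroup_le_centralizer {z : Perm α} (hz : ∀ x, z x ≠ x) (a : α)
    (h4 : 4 ≤ Fintype.card α) :
    ¬ alternatingGroup α ≤ Subgroup.centralizer ({z} : Set (Perm α)) := by
  intro h
  obtain ⟨b, hb, d, hd, hbd⟩ := Finset.one_lt_card.mp
    (show 1 < (Finset.univ \ ({a, z a} : Finset α)).card by
      rw [Finset.card_univ_diff]
      have := Finset.card_le_two (a := a) (b := z a)
      omega)
  simp only [Finset.mem_sdiff, Finset.mem_univ, true_and, Finset.mem_insert,
    Finset.mem_singleton, not_or] at hb hd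
  set e := swap (z a) b * swap (z a) d
  have he : e ∈ alternatingGroup α := by
    rw [Perm.mem_alternatingGroup, map_mul, Perm.sign_swap (Ne.symm hb.2),
      Perm.sign_swap (Ne.symm hd.2)]
    simp
  have hc : z * e = e * z := Subgroup.mem_centralizer_iff.mp (h he) z rfl
  have h1 := congrArg (fun p : Perm α => p a) hc
  simp only [e, Perm.mul_apply] at h1
  rw [swap_apply_of_ne_of_ne (Ne.symm (hz a)) (Ne.symm hd.1),
    swap_apply_of_ne_of_ne (Ne.symm (hz a)) (Ne.symm hb.1), swap_apply_left,
    swap_apply_of_ne_of_ne hd.2 (Ne.symm hbd)] at h1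
  exact hd.2 h1.symm

lemma evenLE_of_keeps {A J : Subgroup (Perm α)} {U : Finset α} (hU : onSet U ≤ A)
    (hA : ∀ g, Perm.sign g = 1 → g ∈ A → g ∈ J) : EvenLE U J :=
  fun g hg hs => hA g hs (hU hg)

private lemma splits_of_transitive {P : Subgroup (Perm α)} (h : IsSylowOn 2 Finset.univ P)
    (htr : ∀ x y : α, ∃ g ∈ P, g x = y) (h8 : 8 ≤ Fintype.card α) : Splits P := by
  have htr' : ∀ x ∈ (Finset.univ : Finset α), ∀ y ∈ (Finset.univ : Finset α),
      ∃ g ∈ P, g x = y := fun x _ y _ => htr x y
  have h2 : 2 ≤ (Finset.univ : Finset α).card := by rw [Finset.card_univ]; omega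
  obtain ⟨O1, O2, H⟩ := h.exists_halves htr' h2
  obtain ⟨z, hzP, hz2, hzfix, hzc⟩ := h.exists_central_involution htr' h2
  have hsum : O1.card + O2.card = Fintype.card α := by
    rw [← Finset.card_union_of_disjoint H.disj, H.union, Finset.card_univ]
  have hce := H.card_eq
  have huniv : ∀ x, x ∈ O1 ∪ O2 := fun x => by rw [H.union]; exact Finset.mem_univ x
  have hzU : z ∈ keeps O1 := by
    rcases H.keep_or_swap z hzP with hk | hk
    · exact hk.1
    · exfalso
      obtain ⟨a, ha, b, hb, hab⟩ := Finset.one_lt_card.mp (by omega : 1 < O1.card)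
      obtain ⟨g, hg, hgab⟩ := H.trans₁ a ha b hb
      have h3 := congrArg (fun p : Perm α => p a) (hzc g hg.1)
      simp only [Perm.mul_apply] at h3
      rw [hgab, hg.2 (z a) (Finset.disjoint_right.mp H.disj (hk.1 a ha))] at h3
      exact hab (z.injective h3.symm)
  let A : Subgroup (Perm α) :=
    { carrier := {g | (∀ x, g x ∈ O1 ↔ x ∈ O1) ∨ (∀ x, g x ∈ O1 ↔ x ∉ O1)}
      one_mem' := Or.inl fun _ => Iff.rfl
      mul_mem' := by
        rintro a b (ha | ha) (hb | hb)
        · exact Or.inl fun x => by rw [Perm.mul_apply, ha, hb]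
        · exact Or.inr fun x => by rw [Perm.mul_apply, ha, hb]
        · exact Or.inr fun x => by rw [Perm.mul_apply, ha, hb]
        · exact Or.inl fun x => by rw [Perm.mul_apply, ha, hb, not_not]
      inv_mem' := by
        rintro a (ha | ha)
        · refine Or.inl fun x => ?_
          have := ha (a⁻¹ x)
          simp only [Perm.coe_inv, Equiv.apply_symm_apply] at this
          simpa using this.symm
        · refine Or.inr fun x => ?_
          have := ha (a⁻¹ x)
          simp only [Perm.coe_inv, Equiv.apply_symm_apply] at this ⊢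
          tauto }
  refine ⟨A, Subgroup.centralizer ({z} : Set (Perm α)), ?_, ?_, ?_, ?_, fun J hJA hJB => ?_⟩
  · intro g hg
    rcases H.keep_or_swap g hg with hk | hk
    · exact Or.inl hk.1
    · refine Or.inr fun x => ?_
      rcases Finset.mem_union.mp (huniv x) with hx | hx
      · exact iff_of_false (Finset.disjoint_right.mp H.disj (hk.1 x hx)) (not_not.mpr hx)
      · exact iff_of_true (hk.2 x hx) (Finset.disjoint_right.mp H.disj hx)
  · intro g hg
    rw [Subgroup.mem_centralizer_iff]
    rintro _ rfl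
    exact hzc g hg
  · intro hle
    obtain ⟨a, ha, b, hb, hab⟩ := Finset.one_lt_card.mp (by omega : 1 < O1.card)
    obtain ⟨c, hc, d, hd, hcd⟩ := Finset.one_lt_card.mp (by omega : 1 < O2.card)
    have hbc : b ≠ c := fun e => Finset.disjoint_left.mp H.disj hb (e ▸ hc)
    have hac : a ≠ c := fun e => Finset.disjoint_left.mp H.disj ha (e ▸ hc)
    have had : a ≠ d := fun e => Finset.disjoint_left.mp H.disj ha (e ▸ hd)
    have hbd : b ≠ d := fun e => Finset.disjoint_left.mp H.disj hb (e ▸ hd)
    have he : swap a c * swap c d ∈ alternatingGroup α := by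
      rw [Perm.mem_alternatingGroup, map_mul, Perm.sign_swap hac, Perm.sign_swap hcd]; simp
    rcases hle he with hk | hk
    · have := (hk a).mpr ha
      rw [Perm.mul_apply, swap_apply_of_ne_of_ne hac had, swap_apply_left] at this
      exact Finset.disjoint_left.mp H.disj this hc
    · refine (hk b).mp ?_ hb
      rwa [Perm.mul_apply, swap_apply_of_ne_of_ne hbc hbd,
        swap_apply_of_ne_of_ne (Ne.symm hab) hbc]
  · exact not_alternatingGroup_le_centralizer (fun x => hzfix x (Finset.mem_univ x))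
      H.nonempty.choose (by omega)
  · refine alternatingGroup_le_of_mix H.disj huniv (by omega) (by omega) hz2
      (fun x => hzfix x (Finset.mem_univ x)) hzU ?_ ?_ fun e he hc => hJB e he ?_
    · exact evenLE_of_keeps (fun g hg => Or.inl (onSet_le_keeps O1 hg)) hJA
    · exact evenLE_of_keeps (fun g hg => Or.inl (onSet_le_keeps_of_disjoint H.disj hg)) hJA
    · rw [Subgroup.mem_centralizer_iff]; rintro _ rfl; exact hc

/-- The dichotomy: either two incompatible overgroups, or the degree is `2^j + 1` and the Sylow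
2-subgroup fixes a point and is transitive on the others. -/
theorem IsSylowOn.splits_or {P : Subgroup (Perm α)} (h : IsSylowOn 2 Finset.univ P)
    (h5 : 5 ≤ Fintype.card α) :
    Splits P ∨ ∃ j, 2 ≤ j ∧ Fintype.card α = 2 ^ j + 1 := by
  have hne : (Finset.univ : Finset α).Nonempty :=
    Finset.card_pos.mp (by rw [Finset.card_univ]; omega)
  obtain ⟨x, -, hmin⟩ := Finset.exists_min_image Finset.univ (fun x => (orb P x).card) hne
  set t := orb P x with ht
  have hPt := le_keeps_orb P x
  obtain ⟨k, hk⟩ := card_orb_eq_pow h.isPGroup x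
  rw [← ht] at hk
  have htne : t.Nonempty := ⟨x, self_mem_orb P x⟩
  by_cases htu : t = Finset.univ
  · left
    refine splits_of_transitive h (fun a b => exists_map_of_mem_orb (x := x) ?_ ?_) ?_
    · rw [← ht, htu]; exact Finset.mem_univ a
    · rw [← ht, htu]; exact Finset.mem_univ b
    · rw [htu, Finset.card_univ] at hk
      have h2 : 2 < k := by
        rw [← Nat.pow_lt_pow_iff_right (show 1 < 2 by norm_num)]; omega
      rw [hk]
      exact (show 8 = 2 ^ 3 from rfl) ▸ Nat.pow_le_pow_right (by norm_num) h2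
  obtain ⟨y, hy⟩ : ∃ y, y ∉ t := by
    by_contra hc
    push Not at hc
    exact htu (Finset.eq_univ_of_forall hc)
  set u := orb P y with hu
  have hPu := le_keeps_orb P y
  have hune : u.Nonempty := ⟨y, self_mem_orb P y⟩
  have hdtu : Disjoint t u := by
    rw [Finset.disjoint_left]
    intro z hz hz'
    apply hy
    rw [ht, ← orb_eq_of_mem hz, orb_eq_of_mem hz']
    exact self_mem_orb P y
  have htpos : 0 < t.card := Finset.card_pos.mpr htne
  have big : ∀ z, z ∉ t → 2 ≤ (orb P z).card := by
    intro z hz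
    have hd : Disjoint t (orb P z) := by
      rw [Finset.disjoint_left]
      intro w hw hw'
      apply hz
      rw [ht, ← orb_eq_of_mem hw, orb_eq_of_mem hw']
      exact self_mem_orb P z
    have h1 := h.card_ne (Finset.subset_univ t) (Finset.subset_univ _) hPt (le_keeps_orb P z) hd
      htne
    have h2 := hmin z (Finset.mem_univ z)
    omega
  obtain ⟨l, hl⟩ := card_orb_eq_pow h.isPGroup y
  rw [← hu] at hl
  have htlt : t.card < u.card :=
    lt_of_le_of_ne (hmin y (Finset.mem_univ y))
      (h.card_ne (Finset.subset_univ t) (Finset.subset_univ u) hPt hPu hdtu htne)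
  have hu2 := big y hy
  by_cases hrest : ∀ z, z ∈ t ∪ u
  · -- exactly two orbits
    have hsum : t.card + u.card = Fintype.card α := by
      rw [← Finset.card_union_of_disjoint hdtu, Finset.eq_univ_of_forall hrest, Finset.card_univ]
    by_cases ht1 : t.card = 1
    · right
      refine ⟨l, ?_, by omega⟩
      by_contra hl2
      have : 2 ^ l ≤ 2 ^ 1 := Nat.pow_le_pow_right (by norm_num) (by omega)
      omega
    left
    have hu4 : 4 ≤ u.card := by
      have : 1 < l := by
        rw [← Nat.pow_lt_pow_iff_right (show 1 < 2 by norm_num)]; omega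
      rw [hl]
      exact (show 4 = 2 ^ 2 from rfl) ▸ Nat.pow_le_pow_right (by norm_num) this
    have hcompl : Finset.univ \ u = t := by
      rw [← Finset.eq_univ_of_forall hrest, Finset.union_sdiff_right,
        Finset.sdiff_eq_self_of_disjoint hdtu]
    obtain ⟨r1, r2, s1, s2⟩ := h.split (Finset.subset_univ u) hPu
    rw [hcompl] at r2 s2
    have tr : ∀ (w : α), ∀ a ∈ orb P w, ∀ b ∈ orb P w,
        (∀ g ∈ P, res (orb P w) g ∈ P) → ∃ g ∈ P ⊓ onSet (orb P w), g a = b := by
      intro w a ha b hb hr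
      obtain ⟨g, hg, hgab⟩ := exists_map_of_mem_orb ha hb
      exact ⟨res (orb P w) g, ⟨hr g hg, res_mem_onSet _ _⟩,
        by rw [res_apply_of_mem (le_keeps_orb P w hg) ha, hgab]⟩
    obtain ⟨zu, hzu, hzu2, hzuf, hzuc⟩ := s1.exists_central_involution
      (fun a ha b hb => tr y a ha b hb r1) hu2
    obtain ⟨zt, hzt, hzt2, hztf, hztc⟩ := s2.exists_central_involution
      (fun a ha b hb => tr x a ha b hb r2) (show 2 ≤ t.card by omega)
    set z := zu * zt with hz
    have hcm : ∀ a ∈ onSet u, ∀ b ∈ onSet t, a * b = b * a := fun a ha b hb =>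
      commute_of_disjoint_onSet hdtu.symm ha hb
    have hz2 : z * z = 1 := by
      calc z * z = zu * (zt * zu) * zt := by rw [hz]; group
        _ = (zu * zu) * (zt * zt) := by rw [← hcm zu hzu.2 zt hzt.2]; group
        _ = 1 := by rw [hzu2, hzt2, one_mul]
    have hzfix : ∀ a, z a ≠ a := by
      intro a
      rw [hz, Perm.mul_apply]
      rcases Finset.mem_union.mp (hrest a) with ha | ha
      · rw [hzu.2 (zt a) (Finset.disjoint_left.mp hdtu ((onSet_le_keeps t hzt.2 a).mpr ha))]
        exact hztf a ha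
      · rw [hzt.2 a (Finset.disjoint_right.mp hdtu ha)]
        exact hzuf a ha
    have hzU : z ∈ keeps u :=
      mul_mem (onSet_le_keeps u hzu.2) (onSet_le_keeps_of_disjoint hdtu.symm hzt.2)
    have hzc : ∀ g ∈ P, z * g = g * z := by
      intro g hg
      have e := res_mul_res_sdiff (Finset.subset_univ u) (h.le hg) (hPu hg)
      rw [hcompl] at e
      set gu := res u g
      set gt := res t g
      have c1 : zu * gu = gu * zu := hzuc gu ⟨r1 g hg, res_mem_onSet _ _⟩
      have c2 : zt * gt = gt * zt := hztc gt ⟨r2 g hg, res_mem_onSet _ _⟩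
      have d1 : gu * zt = zt * gu := hcm gu (res_mem_onSet _ _) zt hzt.2
      have d2 : zu * gt = gt * zu := hcm zu hzu.2 gt (res_mem_onSet _ _)
      rw [← e, hz]
      calc zu * zt * (gu * gt) = zu * (zt * gu) * gt := by group
        _ = (zu * gu) * (zt * gt) := by rw [← d1]; group
        _ = gu * (zu * gt) * zt := by rw [c1, c2]; group
        _ = gu * gt * (zu * zt) := by rw [d2]; group
    refine ⟨keeps t, Subgroup.centralizer ({z} : Set (Perm α)), hPt, ?_,
      not_alternatingGroup_le_keeps (self_mem_orb P x) hy (by omega),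
      not_alternatingGroup_le_centralizer hzfix x (by omega), fun J hJA hJB => ?_⟩
    · intro g hg
      rw [Subgroup.mem_centralizer_iff]
      rintro _ rfl
      exact hzc g hg
    · refine alternatingGroup_le_of_mix hdtu.symm (fun a => by
        rw [Finset.union_comm]; exact hrest a) hu4 (by omega) hz2 hzfix hzU ?_ ?_
        fun e he hc => hJB e he ?_
      · exact evenLE_of_keeps (onSet_le_keeps_of_disjoint hdtu) hJA
      · exact evenLE_of_keeps (onSet_le_keeps t) hJA
      · rw [Subgroup.mem_centralizer_iff]; rintro _ rfl; exact hc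
  · -- at least three orbits
    left
    push Not at hrest
    obtain ⟨z, hz⟩ := hrest
    rw [Finset.mem_union, not_or] at hz
    obtain ⟨a, ha, b, hb, hab⟩ := Finset.one_lt_card.mp (big z hz.1)
    have hout : ∀ w ∈ orb P z, w ∉ t ∧ w ∉ u := by
      intro w hw
      refine ⟨fun hwt => hz.1 ?_, fun hwu => hz.2 ?_⟩
      · rw [ht, ← orb_eq_of_mem hwt, orb_eq_of_mem hw]; exact self_mem_orb P z
      · rw [hu, ← orb_eq_of_mem hwu, orb_eq_of_mem hw]; exact self_mem_orb P z
    refine ⟨keeps t, keeps u, hPt, hPu,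
      not_alternatingGroup_le_keeps (self_mem_orb P x) hy (by omega),
      not_alternatingGroup_le_keeps (self_mem_orb P y) hz.2 (by omega), fun J hJA hJB => ?_⟩
    have e1 : EvenLE (Finset.univ \ t) J :=
      evenLE_of_keeps (onSet_le_keeps_of_disjoint Finset.disjoint_sdiff) hJA
    have e2 : EvenLE (Finset.univ \ u) J :=
      evenLE_of_keeps (onSet_le_keeps_of_disjoint Finset.disjoint_sdiff) hJB
    refine alternatingGroup_le_of_evenLE (fun w => ?_)
      (e1.union e2 (a := a) (b := b) ?_ ?_ ?_ ?_ hab)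
    · simp only [Finset.mem_union, Finset.mem_sdiff, Finset.mem_univ, true_and]
      by_cases hw : w ∈ t
      · exact Or.inr (Finset.disjoint_left.mp hdtu hw)
      · exact Or.inl hw
    all_goals simp [hout a ha, hout b hb]

/-- In degree `2^j + 1` the Sylow 2-subgroup fixes one point and is transitive on the others. -/
theorem IsSylowOn.exists_fixed_point {P : Subgroup (Perm α)} (h : IsSylowOn 2 Finset.univ P)
    {j : ℕ} (hj : 1 ≤ j) (hn : Fintype.card α = 2 ^ j + 1) :
    ∃ x : α, (∀ g ∈ P, g x = x) ∧ IsSylowOn 2 (Finset.univ.erase x) P ∧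
      ∀ a ∈ (Finset.univ : Finset α).erase x, ∀ b ∈ (Finset.univ : Finset α).erase x,
        ∃ g ∈ P, g a = b := by
  have hodd : ¬ 2 ∣ Fintype.card α := by
    rw [hn, ← even_iff_two_dvd, Nat.even_add_one, not_not]
    exact (Nat.even_pow.mpr ⟨even_two, by omega⟩)
  have : ∃ x, (orb P x).card = 1 := by
    by_contra hne
    push Not at hne
    have hfix : ∀ a, a ∉ MulAction.fixedPoints P α := by
      intro a ha
      apply hne a
      rw [Finset.card_eq_one]
      refine ⟨a, Finset.eq_singleton_iff_unique_mem.mpr ⟨self_mem_orb P a, fun b hb => ?_⟩⟩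
      obtain ⟨g, hg, rfl⟩ := mem_orb.mp hb
      exact ha ⟨g, hg⟩
    have hmod := h.isPGroup.card_modEq_card_fixedPoints α
    have : IsEmpty (MulAction.fixedPoints P α) := ⟨fun a => hfix a.1 a.2⟩
    rw [Nat.card_eq_fintype_card, Nat.card_of_isEmpty] at hmod
    exact hodd (Nat.modEq_zero_iff_dvd.mp hmod)
  obtain ⟨x, hx⟩ := this
  have hfix : ∀ g ∈ P, g x = x := fun g hg =>
    Finset.card_le_one.mp hx.le _ (mem_orb.mpr ⟨g, hg, rfl⟩) _ (self_mem_orb P x)
  set O := (Finset.univ : Finset α).erase x with hO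
  have hOc : O.card = 2 ^ j := by
    rw [hO, Finset.card_erase_of_mem (Finset.mem_univ x), Finset.card_univ]; omega
  have hkO : P ≤ keeps O := by
    intro g hg
    refine keeps_of_mapsTo fun a ha => ?_
    rw [hO, Finset.mem_erase] at ha ⊢
    exact ⟨fun he => ha.1 (g.injective (he.trans (hfix g hg).symm)), Finset.mem_univ _⟩
  obtain ⟨-, -, s1, -⟩ := h.split (Finset.subset_univ O) hkO
  have hPO : P ⊓ onSet O = P := by
    refine inf_eq_left.mpr fun g hg a ha => ?_
    rw [hO, Finset.mem_erase] at ha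
    obtain rfl : a = x := by simpa using ha
    exact hfix g hg
  rw [hPO] at s1
  refine ⟨x, hfix, s1, fun a ha b hb => ?_⟩
  by_contra hne
  obtain ⟨k, hk⟩ := card_orb_eq_pow s1.isPGroup a
  have hsub : orb P a ⊆ O := orb_subset hkO ha
  have hlt : (orb P a).card < O.card := by
    refine Finset.card_lt_card (hsub.ssubset_of_ne fun he => hne ?_)
    exact mem_orb.mp (he.symm ▸ hb)
  obtain ⟨-, -, t1, t2⟩ := s1.split hsub (le_keeps_orb P a)
  have hsum := s1.padic_split hsub (le_keeps_orb P a)
  have hO1 : padicValNat 2 O.card.factorial + 1 = O.card := by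
    rw [hOc]
    clear hsum hk hlt hn hodd hO hOc
    induction j with
    | zero => simp
    | succ i IH =>
      rcases Nat.eq_zero_or_pos i with rfl | hi
      · norm_num
      · have := IH hi
        rw [pow_succ, mul_comm, padic_two_mul]
        omega
  have b1 := padic_lt (Finset.card_pos.mpr ⟨a, self_mem_orb P a⟩).ne'
  have hc := Finset.card_sdiff_add_card_eq_card hsub
  have b2 := padic_lt (c := (O \ orb P a).card) (by omega)
  omega

/-- In degree `2^j + 1`, an overgroup of the even part of a Sylow 2-subgroup which moves its fixed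
point contains all even permutations. -/
theorem IsSylowOn.alternatingGroup_le {P H : Subgroup (Perm α)} {x : α}
    (h : IsSylowOn 2 ((Finset.univ : Finset α).erase x) P)
    (htr : ∀ a ∈ (Finset.univ : Finset α).erase x, ∀ b ∈ (Finset.univ : Finset α).erase x,
        ∃ g ∈ P, g a = b)
    (h4 : 5 ≤ Fintype.card α) (hH : evenPart P ≤ H) (hmove : ∃ g ∈ H, g x ≠ x) :
    alternatingGroup α ≤ H := by
  set O := (Finset.univ : Finset α).erase x with hO
  have hmemO : ∀ a, a ∈ O ↔ a ≠ x := fun a => by simp [hO]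
  have hOc : 4 ≤ O.card := by
    rw [hO, Finset.card_erase_of_mem (Finset.mem_univ x), Finset.card_univ]; omega
  obtain ⟨O1, O2, HO⟩ := h.exists_halves htr (by omega)
  have hT := HO.evenPart_trans hOc
  obtain ⟨g0, hg0, hg0x⟩ := hmove
  have htoX : ∀ a, ∃ g ∈ H, g a = x := by
    intro a
    by_cases ha : a = x
    · exact ⟨1, H.one_mem, ha⟩
    obtain ⟨t, ht, hta⟩ := hT a ((hmemO a).mpr ha) (g0 x) ((hmemO _).mpr hg0x)
    exact ⟨g0⁻¹ * t, H.mul_mem (H.inv_mem hg0) (hH ht), by
      rw [Perm.mul_apply, hta, Perm.coe_inv, Equiv.symm_apply_apply]⟩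
  have h2 : MulAction.IsMultiplyPretransitive H α 2 := by
    rw [MulAction.is_two_pretransitive_iff]
    intro a b c d hab hcd
    obtain ⟨g1, hg1, e1⟩ := htoX a
    obtain ⟨g2, hg2, e2⟩ := htoX c
    have hb : g1 b ∈ O := (hmemO _).mpr fun e => hab (g1.injective (e1.trans e.symm))
    have hd : g2 d ∈ O := (hmemO _).mpr fun e => hcd (g2.injective (e2.trans e.symm))
    obtain ⟨t, ht, htb⟩ := hT _ hb _ hd
    have htx : t x = x := h.le ht.1 x (fun hx => (hmemO x).mp hx rfl)
    refine ⟨⟨g2⁻¹ * t * g1, H.mul_mem (H.mul_mem (H.inv_mem hg2) (hH ht)) hg1⟩, ?_, ?_⟩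
    · show (g2⁻¹ * t * g1) a = c
      rw [Perm.mul_apply, Perm.mul_apply, e1, htx, ← e2, Perm.coe_inv, Equiv.symm_apply_apply]
    · show (g2⁻¹ * t * g1) b = d
      rw [Perm.mul_apply, Perm.mul_apply, htb, Perm.coe_inv, Equiv.symm_apply_apply]
  obtain ⟨B, hcov, hprop, hdisj⟩ := h.exists_quads htr hOc
  obtain ⟨a, ha⟩ := Finset.card_pos.mp (by omega : 0 < O.card)
  obtain ⟨Q, hQB, haQ⟩ := hcov a ha
  obtain ⟨g, hg, hga⟩ := htoX a
  set Q' := Q.image g with hQ'
  have hQ'c : Q'.card = 4 :=
    (Finset.card_image_of_injective _ g.injective).trans (hprop Q hQB).2.1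
  have hxQ' : x ∈ Q' := Finset.mem_image.mpr ⟨a, haQ, hga⟩
  have hkQ' : KleinIn H Q' := ((hprop Q hQB).2.2.mono hH).image hg
  have hE : (Q'.erase x).card = 3 := by
    rw [Finset.card_erase_of_mem hxQ', hQ'c]
  obtain ⟨p, hp⟩ := Finset.card_pos.mp (by omega : 0 < (Q'.erase x).card)
  obtain ⟨R, hRB, hpR⟩ := hcov p ((hmemO p).mpr (Finset.ne_of_mem_erase hp))
  have key : ∀ S ∈ B, S ∩ Q' ⊆ Q'.erase x := by
    intro S hS w hw
    rw [Finset.mem_inter] at hw
    exact Finset.mem_erase.mpr ⟨(hmemO w).mp ((hprop S hS).1 hw.1), hw.2⟩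
  obtain ⟨g3, hg3, h3c⟩ : ∃ g ∈ H, Perm.IsThreeCycle g := by
    have hle := Finset.card_le_card (key R hRB)
    rw [hE] at hle
    have hpos : 0 < (R ∩ Q').card :=
      Finset.card_pos.mpr ⟨p, Finset.mem_inter.mpr ⟨hpR, Finset.mem_of_mem_erase hp⟩⟩
    by_cases h13 : (R ∩ Q').card = 1 ∨ (R ∩ Q').card = 3
    · exact exists_isThreeCycle_of_klein (hprop R hRB).2.1 hQ'c ((hprop R hRB).2.2.mono hH)
        hkQ' h13
    · have h2c : (R ∩ Q').card = 2 := by omega
      obtain ⟨r, hr⟩ : ((Q'.erase x) \ (R ∩ Q')).Nonempty := by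
        rw [← Finset.card_pos]
        have := Finset.card_sdiff_add_card_eq_card (key R hRB)
        omega
      obtain ⟨hrE, hrR⟩ := Finset.mem_sdiff.mp hr
      obtain ⟨S, hSB, hrS⟩ := hcov r ((hmemO r).mpr (Finset.ne_of_mem_erase hrE))
      have hrR' : r ∉ R := fun e => hrR (Finset.mem_inter.mpr ⟨e, Finset.mem_of_mem_erase hrE⟩)
      have hSR : Disjoint S R := hdisj S hSB R hRB fun e => hrR' (e ▸ hrS)
      have hsub : S ∩ Q' ⊆ (Q'.erase x) \ (R ∩ Q') := fun w hw =>
        Finset.mem_sdiff.mpr ⟨key S hSB hw, fun hw' =>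
          Finset.disjoint_left.mp hSR (Finset.mem_inter.mp hw).1 (Finset.mem_inter.mp hw').1⟩
      have hle' := Finset.card_le_card hsub
      have := Finset.card_sdiff_add_card_eq_card (key R hRB)
      have hposS : 0 < (S ∩ Q').card :=
        Finset.card_pos.mpr ⟨r, Finset.mem_inter.mpr ⟨hrS, Finset.mem_of_mem_erase hrE⟩⟩
      exact exists_isThreeCycle_of_klein (hprop S hSB).2.1 hQ'c ((hprop S hSB).2.2.mono hH)
        hkQ' (Or.inl (by omega))
  exact Perm.alternatingGroup_le_of_isPreprimitive_of_isThreeCycle_mem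
    (MulAction.isPreprimitive_of_is_two_pretransitive h2) h3c hg3

end CfsgLib.SymSylow
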