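import Mathlib
import Cfsg.Prelude.Def_HallClasses
import Cfsg.Agent.Eq.Def_HallClasses

/-!
Pronormality of subgroups of odd index from the normalizer of a Sylow 2-subgroup.
-/

set_option autoImplicit false

namespace CfsgLib.SymSylow

/-- A subgroup of odd index contains a Sylow 2-subgroup. -/
lemma exists_sylow_le_of_odd_index {G : Type*} [Group G] [Finite G] (H : Subgroup G)
    (hH : Odd H.index) : ∃ S : Sylow 2 G, (S : Subgroup G) ≤ H := by
  obtain ⟨Q⟩ : Nonempty (Sylow 2 H) := inferInstance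
  have hp : IsPGroup 2 ((Q : Subgroup H).map H.subtype) := Q.isPGroup'.map _
  have hidx : ¬ 2 ∣ ((Q : Subgroup H).map H.subtype).index := by
    rw [Subgroup.index_map_subtype]
    intro h
    rcases Nat.prime_two.dvd_mul.mp h with h | h
    · exact Q.not_dvd_index h
    · exact Nat.not_even_iff_odd.mpr hH (even_iff_two_dvd.mpr h)
  exact ⟨hp.toSylow hidx, fun x hx => Subgroup.map_subtype_le _ hx⟩

/-- If the normalizer of a Sylow 2-subgroup of `H` normalizes `H`, and `H` has odd index, then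
`H` is pronormal. -/
theorem isPronormal_of_odd_index {G : Type*} [Group G] [Finite G] (H : Subgroup G)
    (hH : Odd H.index)
    (h : ∀ S : Sylow 2 G, (S : Subgroup G) ≤ H →
      Subgroup.normalizer ((S : Subgroup G) : Set G) ≤ Subgroup.normalizer (H : Set G)) :
    Cfsg.IsPronormal H := by
  obtain ⟨S, hS⟩ := exists_sylow_le_of_odd_index H hH
  intro g
  set J := H ⊔ H.map (MulAut.conj g).toMonoidHom with hJ
  have hSJ : (S : Subgroup G) ≤ J := hS.trans le_sup_left
  have hgSJ : ((g • S : Sylow 2 G) : Subgroup G) ≤ J := by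
    refine le_trans ?_ (le_sup_right : H.map (MulAut.conj g).toMonoidHom ≤ J)
    intro x hx
    obtain ⟨y, hy, rfl⟩ := hx
    exact ⟨y, hS hy, rfl⟩
  obtain ⟨j, hj⟩ := MulAction.exists_smul_eq J ((g • S : Sylow 2 G).subtype hgSJ)
    (S.subtype hSJ)
  have hm : (j : G) * g ∈ Subgroup.normalizer ((S : Subgroup G) : Set G) := by
    simp_rw [Sylow.smul_subtype, Subgroup.smul_def, smul_smul] at hj
    exact Sylow.smul_eq_iff_mem_normalizer.mp (Sylow.subtype_injective hj)
  have hmH := h S hS hm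
  refine ⟨((j⁻¹ : J) : G), (j⁻¹).2, ?_⟩
  have e : ∀ x : G, x ∈ H.map (MulAut.conj g).toMonoidHom ↔ g⁻¹ * x * g ∈ H := by
    intro x
    constructor
    · rintro ⟨y, hy, rfl⟩; simpa [mul_assoc] using hy
    · intro hx; exact ⟨_, hx, by simp [mul_assoc]⟩
  ext x
  rw [e x]
  constructor
  · intro hx
    refine ⟨(j : G) * g * (g⁻¹ * x * g) * ((j : G) * g)⁻¹,
      (Subgroup.mem_normalizer_iff.mp hmH _).mp hx, ?_⟩
    simp [mul_assoc]
  · rintro ⟨y, hy, rfl⟩
    rw [Subgroup.mem_normalizer_iff] at hmH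
    rw [hmH]
    have : (j : G) * g * (g⁻¹ * ((MulAut.conj ((j⁻¹ : J) : G)).toMonoidHom y) * g) *
        ((j : G) * g)⁻¹ = y := by simp [mul_assoc]
    rwa [this]

end CfsgLib.SymSylow
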