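import Mathlib
import Cfsg.Agent.SymSylow.GLTwo

/-!
Iterated wreath products `W ≀ C₂` of linear groups: the scalar centralizer and the normalizer property
are inherited, which gives self-normalization of Sylow 2-subgroups in dimension `2^w`.
-/

set_option autoImplicit false
set_option linter.unusedSectionVars false

namespace CfsgLib.SymSylow.WreathNorm

open Matrix CfsgLib.SymSylow.GLTwo

variable {F : Type*} [Field F] [Finite F] {ι κ : Type*} [Fintype ι] [DecidableEq ι] [Fintype κ] [DecidableEq κ]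

/-- Scalar centralizer and normalizer. -/
structure Good (W : Subgroup (GL ι F)) : Prop where
  negOne : (-1 : GL ι F) ∈ W
  cent : ∀ g : Matrix ι ι F,
    (∀ x ∈ W, (x : Matrix ι ι F).det = 1 → g * (x : Matrix ι ι F) = (x : Matrix ι ι F) * g) →
      ∃ c : F, g = Matrix.scalar ι c
  norm : ∀ g : GL ι F, (∀ x ∈ W, g * x * g⁻¹ ∈ W) →
    ∃ c : Fˣ, ∃ a ∈ W, g = Matrix.GeneralLinearGroup.scalar ι c * a

theorem scalar_comm (c : Fˣ) (g : GL ι F) :
    Matrix.GeneralLinearGroup.scalar ι c * g = g * Matrix.GeneralLinearGroup.scalar ι c :=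
  Units.ext (Matrix.scalar_commute (c : F) (fun r' => Commute.all _ r') _).eq

theorem scalar_eq_units {g : GL ι F} {c : F} [Nonempty ι] (h : (g : Matrix ι ι F) = Matrix.scalar ι c) :
    ∃ u : Fˣ, g = Matrix.GeneralLinearGroup.scalar ι u ∧ (u : F) = c := by
  have hc : c ≠ 0 := by
    rintro rfl
    rw [map_zero] at h
    exact g.ne_zero h
  exact ⟨Units.mk0 c hc, Units.ext h, rfl⟩

/-- A good group has an element of determinant one other than `±1`. -/
theorem Good.exists_ne {W : Subgroup (GL ι F)} (hW : Good W) (h2 : 1 < Fintype.card ι) :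
    ∃ u ∈ W, (u : Matrix ι ι F).det = 1 ∧ u ≠ 1 ∧ u ≠ -1 := by
  by_contra hcon
  push Not at hcon
  obtain ⟨i, j, hij⟩ := Fintype.one_lt_card_iff.1 h2
  obtain ⟨c, hc⟩ := hW.cent (Matrix.single i j 1) fun x hx hd => by
    by_cases h1 : x = 1
    · simp [h1]
    · simp [hcon x hx hd h1]
  have := congrFun (congrFun hc i) j
  simp [Matrix.scalar_apply, hij] at this

theorem det_neg_one_of_even (he : Even (Fintype.card ι)) :
    ((-1 : GL ι F) : Matrix ι ι F).det = 1 := by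
  rw [Units.val_neg, Units.val_one, Matrix.det_neg, Matrix.det_one, he.neg_one_pow, mul_one]

theorem neg_one_ne_one [Nonempty ι] (h2 : (2 : F) ≠ 0) : (-1 : GL ι F) ≠ 1 := by
  intro e
  obtain ⟨i⟩ := (inferInstance : Nonempty ι)
  have := congrArg (fun m : GL ι F => (m : Matrix ι ι F) i i) e
  simp only [Units.val_neg, Units.val_one, Matrix.neg_apply, one_apply_eq] at this
  exact h2 (by linear_combination -this)

/-- Block diagonal elements. -/
abbrev J (a b : GL ι F) : GL (ι ⊕ ι) F := joinGL (a, b)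

theorem J_val (a b : GL ι F) : (J a b : Matrix (ι ⊕ ι) (ι ⊕ ι) F) = fromBlocks (a : Matrix ι ι F) 0 0 b := rfl

theorem J_mul (a b c d : GL ι F) : J a b * J c d = J (a * c) (b * d) := (map_mul joinGL (a, b) (c, d)).symm

theorem J_inv (a b : GL ι F) : (J a b)⁻¹ = J a⁻¹ b⁻¹ := (map_inv joinGL (a, b)).symm

theorem J_one : J (1 : GL ι F) 1 = 1 := map_one joinGL

theorem J_inj {a b c d : GL ι F} (h : J a b = J c d) : a = c ∧ b = d :=
  Prod.ext_iff.1 (joinGL_injective (F := F) h)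

theorem J_neg_one : J (-1 : GL ι F) (-1 : GL ι F) = -1 := by
  refine Units.ext ?_
  rw [J_val, Units.val_neg, Units.val_neg, Units.val_one, Units.val_one]
  ext (i | i) (j | j) <;> simp [Matrix.one_apply]

theorem det_J (a b : GL ι F) : (J a b : Matrix (ι ⊕ ι) (ι ⊕ ι) F).det =
    (a : Matrix ι ι F).det * (b : Matrix ι ι F).det := by
  rw [J_val, det_fromBlocks_zero₂₁]

/-- The signed swap of the two blocks. -/
def sw : GL (ι ⊕ ι) F where
  val := fromBlocks 0 1 (-1) 0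
  inv := fromBlocks 0 (-1) 1 0
  val_inv := by simp [fromBlocks_multiply]
  inv_val := by simp [fromBlocks_multiply]

theorem sw_val : ((sw : GL (ι ⊕ ι) F) : Matrix (ι ⊕ ι) (ι ⊕ ι) F) = fromBlocks 0 1 (-1) 0 := rfl

theorem sw_J (a b : GL ι F) : sw * J a b = J b a * sw := by
  refine Units.ext ?_
  simp [sw_val, fromBlocks_multiply, J_val]

theorem sw_sw : (sw : GL (ι ⊕ ι) F) * sw = J (-1 : GL ι F) (-1 : GL ι F) := by
  refine Units.ext ?_
  simp [sw_val, fromBlocks_multiply, J_val]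

theorem det_sw : ((sw : GL (ι ⊕ ι) F) : Matrix (ι ⊕ ι) (ι ⊕ ι) F).det = 1 := by
  have e : fromBlocks (0 : Matrix ι ι F) (1 : Matrix ι ι F) (-1 : Matrix ι ι F) (0 : Matrix ι ι F) =
      fromBlocks (1 : Matrix ι ι F) 1 0 1 * fromBlocks (1 : Matrix ι ι F) 0 (-1) 1 * fromBlocks (1 : Matrix ι ι F) 1 0 1 := by
    simp [fromBlocks_multiply]
  rw [sw_val, e, det_mul, det_mul, det_fromBlocks_zero₂₁, det_fromBlocks_zero₁₂]
  simp

theorem J_ne_J_sw [Nonempty ι] (a b c d : GL ι F) : J a b ≠ J c d * sw := by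
  intro h
  have h' := congrArg Units.val h
  simp only [Units.val_mul, J_val, sw_val, fromBlocks_multiply] at h'
  simp only [Matrix.zero_mul, Matrix.mul_zero, Matrix.mul_one, zero_add, add_zero] at h'
  exact a.ne_zero (fromBlocks_inj.1 h').1

/-- `W ≀ C₂`. -/
def double (W : Subgroup (GL ι F)) (hneg : (-1 : GL ι F) ∈ W) : Subgroup (GL (ι ⊕ ι) F) where
  carrier := {g | ∃ a ∈ W, ∃ b ∈ W, g = J a b ∨ g = J a b * sw}
  one_mem' := ⟨1, W.one_mem, 1, W.one_mem, Or.inl J_one.symm⟩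
  mul_mem' := by
    rintro x y ⟨a, ha, b, hb, hx⟩ ⟨c, hc, d, hd, hy⟩
    rcases hx with rfl | rfl <;> rcases hy with rfl | rfl
    · exact ⟨_, W.mul_mem ha hc, _, W.mul_mem hb hd, Or.inl (J_mul a b c d)⟩
    · exact ⟨_, W.mul_mem ha hc, _, W.mul_mem hb hd, Or.inr (by rw [← mul_assoc, J_mul])⟩
    · exact ⟨_, W.mul_mem ha hd, _, W.mul_mem hb hc, Or.inr (by
        rw [mul_assoc, sw_J, ← mul_assoc, J_mul])⟩
    · refine ⟨_, W.mul_mem (W.mul_mem ha hd) hneg, _, W.mul_mem (W.mul_mem hb hc) hneg, Or.inl ?_⟩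
      rw [mul_assoc, ← mul_assoc sw, sw_J, mul_assoc, sw_sw, J_mul, J_mul]
      simp only [mul_assoc]
  inv_mem' := by
    rintro x ⟨a, ha, b, hb, hx⟩
    rcases hx with rfl | rfl
    · exact ⟨_, W.inv_mem ha, _, W.inv_mem hb, Or.inl (J_inv a b)⟩
    · refine ⟨_, W.mul_mem hneg (W.inv_mem hb), _, W.mul_mem hneg (W.inv_mem ha), Or.inr ?_⟩
      refine inv_eq_of_mul_eq_one_right ?_
      rw [mul_assoc, ← mul_assoc sw, sw_J, mul_assoc, sw_sw, J_mul, J_mul]
      simp [J_one]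

variable {W : Subgroup (GL ι F)} {hneg : (-1 : GL ι F) ∈ W}

theorem J_mem {a b : GL ι F} (ha : a ∈ W) (hb : b ∈ W) : J a b ∈ double W hneg :=
  ⟨a, ha, b, hb, Or.inl rfl⟩

theorem sw_mem : (sw : GL (ι ⊕ ι) F) ∈ double W hneg :=
  ⟨1, W.one_mem, 1, W.one_mem, Or.inr (by rw [J_one, one_mul])⟩

theorem card_double [Nonempty ι] : Nat.card ↥(double W hneg) = 2 * Nat.card W ^ 2 := by
  let f : (↥W × ↥W) ⊕ (↥W × ↥W) → ↥(double W hneg) :=
    Sum.elim (fun p => ⟨J p.1 p.2, J_mem p.1.2 p.2.2⟩)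
      (fun p => ⟨J p.1 p.2 * sw, (double W hneg).mul_mem (J_mem p.1.2 p.2.2) sw_mem⟩)
  have hf : Function.Bijective f := by
    constructor
    · rintro (⟨a, b⟩ | ⟨a, b⟩) (⟨c, d⟩ | ⟨c, d⟩) h <;> have h' := congrArg Subtype.val h <;>
        simp only [f, Sum.elim_inl, Sum.elim_inr] at h'
      · obtain ⟨e1, e2⟩ := J_inj h'
        rw [Subtype.ext e1, Subtype.ext e2]
      · exact (J_ne_J_sw _ _ _ _ h').elim
      · exact (J_ne_J_sw _ _ _ _ h'.symm).elim
      · obtain ⟨e1, e2⟩ := J_inj (mul_right_cancel h')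
        rw [Subtype.ext e1, Subtype.ext e2]
    · rintro ⟨g, a, ha, b, hb, hg⟩
      rcases hg with rfl | rfl
      · exact ⟨Sum.inl (⟨a, ha⟩, ⟨b, hb⟩), rfl⟩
      · exact ⟨Sum.inr (⟨a, ha⟩, ⟨b, hb⟩), rfl⟩
  by_cases hfin : Finite W
  · haveI := hfin
    rw [← Nat.card_eq_of_bijective f hf, Nat.card_sum, Nat.card_prod, pow_two, two_mul]
  · haveI : Infinite W := not_finite_iff_infinite.1 hfin
    have : Infinite ↥(double W hneg) := Infinite.of_injective f hf.1
    simp [Nat.card_eq_zero_of_infinite]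

theorem comm_J_neg_one (h2 : (2 : F) ≠ 0) {M : Matrix (ι ⊕ ι) (ι ⊕ ι) F}
    (h : M * (J (-1 : GL ι F) 1 : Matrix (ι ⊕ ι) (ι ⊕ ι) F) =
      (J (-1 : GL ι F) 1 : Matrix (ι ⊕ ι) (ι ⊕ ι) F) * M) :
    M = fromBlocks M.toBlocks₁₁ 0 0 M.toBlocks₂₂ := by
  rw [← fromBlocks_toBlocks M, J_val, fromBlocks_multiply, fromBlocks_multiply] at h
  obtain ⟨-, e12, e21, -⟩ := fromBlocks_inj.1 h
  simp only [Units.val_neg, Units.val_one, Matrix.mul_zero, Matrix.zero_mul, Matrix.mul_one,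
    Matrix.one_mul, Matrix.neg_mul, Matrix.mul_neg, zero_add, add_zero] at e12 e21
  have hz : ∀ A : Matrix ι ι F, A = -A → A = 0 := fun A hA => by
    ext i j
    have := congrFun (congrFun hA i) j
    simp only [Matrix.neg_apply, eq_neg_iff_add_eq_zero, ← two_mul, mul_eq_zero, h2, false_or] at this
    exact this
  conv_lhs => rw [← fromBlocks_toBlocks M, hz _ e12, hz _ e21.symm]

theorem cent_double (h2 : (2 : F) ≠ 0) (he : Even (Fintype.card ι)) (hW : Good W)
    (g : Matrix (ι ⊕ ι) (ι ⊕ ι) F)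
    (h : ∀ x ∈ double W hneg, (x : Matrix (ι ⊕ ι) (ι ⊕ ι) F).det = 1 →
      g * (x : Matrix (ι ⊕ ι) (ι ⊕ ι) F) = (x : Matrix (ι ⊕ ι) (ι ⊕ ι) F) * g) :
    ∃ c : F, g = Matrix.scalar (ι ⊕ ι) c := by
  have hb := comm_J_neg_one h2 (h _ (J_mem hW.negOne W.one_mem)
    (by rw [det_J, det_neg_one_of_even he]; simp))
  generalize g.toBlocks₁₁ = A, g.toBlocks₂₂ = D at hb
  subst hb
  obtain ⟨c, rfl⟩ := hW.cent A fun x hx hd => by
    have := h (J x 1) (J_mem hx W.one_mem) (by rw [det_J, hd]; simp)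
    rw [J_val, fromBlocks_multiply, fromBlocks_multiply] at this
    simpa using (fromBlocks_inj.1 this).1
  have hs := h sw sw_mem det_sw
  rw [sw_val, fromBlocks_multiply, fromBlocks_multiply] at hs
  have e := (fromBlocks_inj.1 hs).2.1
  simp only [Matrix.mul_zero, Matrix.zero_mul, Matrix.mul_one, Matrix.one_mul, zero_add, add_zero] at e
  refine ⟨c, ?_⟩
  subst e
  ext (i | i) (j | j) <;> simp [Matrix.scalar_apply, diagonal_apply]

/-- An involution of `(W ≀ C₂) ∩ SL` with at most two conjugates is `± diag(-1, 1)`. -/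
theorem eq_tau (h2 : (2 : F) ≠ 0) (he : Even (Fintype.card ι)) (hι : 1 < Fintype.card ι) (hW : Good W)
    {y : GL (ι ⊕ ι) F} (hy : y ∈ double W hneg) (hy2 : y * y = 1) (h1 : y ≠ 1) (hm1 : y ≠ -1)
    (hcl : ∀ x ∈ double W hneg, ∀ z ∈ double W hneg,
      (x : Matrix (ι ⊕ ι) (ι ⊕ ι) F).det = 1 → (z : Matrix (ι ⊕ ι) (ι ⊕ ι) F).det = 1 →
        x * y * x⁻¹ = y ∨ z * y * z⁻¹ = y ∨ x * y * x⁻¹ = z * y * z⁻¹) :
    y = J (-1 : GL ι F) 1 ∨ y = J 1 (-1 : GL ι F) := by
  have : Nonempty ι := Fintype.card_pos_iff.1 (by omega)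
  have hne : (-1 : GL ι F) ≠ 1 := neg_one_ne_one h2
  obtain ⟨a, ha, b, hb, hy'⟩ := hy
  rcases hy' with rfl | rfl
  · rw [J_mul, ← J_one] at hy2
    obtain ⟨ha2, hb2⟩ := J_inj hy2
    have hab : ∀ c : GL ι F, c * c = 1 →
        (∀ u ∈ W, (u : Matrix ι ι F).det = 1 → u * c * u⁻¹ = c) → c = 1 ∨ c = -1 := by
      intro c hc hu
      obtain ⟨r, hr⟩ := hW.cent (c : Matrix ι ι F) fun u huW hd => by
        have := mul_inv_eq_iff_eq_mul.1 (hu u huW hd)
        exact (congrArg Units.val this).symm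
      obtain ⟨i⟩ := (inferInstance : Nonempty ι)
      have hrr := congrArg (fun m : GL ι F => (m : Matrix ι ι F) i i) hc
      simp only [Units.val_mul, hr, ← map_mul, Units.val_one] at hrr
      simp only [Matrix.scalar_apply, diagonal_apply_eq, one_apply_eq, mul_self_eq_one_iff] at hrr
      rcases hrr with rfl | rfl
      · left; exact Units.ext (by rw [hr, map_one]; rfl)
      · right; exact Units.ext (by rw [hr, map_neg, map_one]; rfl)
    have hsw := (det_sw (F := F) (ι := ι))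
    have swc : sw * J a b * sw⁻¹ = J b a := by rw [sw_J, mul_inv_cancel_right]
    have key : (∀ u ∈ W, (u : Matrix ι ι F).det = 1 → u * a * u⁻¹ = a) ∧
        (∀ u ∈ W, (u : Matrix ι ι F).det = 1 → u * b * u⁻¹ = b) := by
      have hA : (∀ u ∈ W, (u : Matrix ι ι F).det = 1 → u * a * u⁻¹ = a) ∨
          (∀ u ∈ W, (u : Matrix ι ι F).det = 1 → u * b * u⁻¹ = b) := by
        by_contra hcon
        push Not at hcon
        obtain ⟨⟨u, hu, hud, hua⟩, ⟨v, hv, hvd, hvb⟩⟩ := hcon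
        have := hcl (J u 1) (J_mem hu W.one_mem) (J 1 v) (J_mem W.one_mem hv)
          (by rw [det_J, hud]; simp) (by rw [det_J, hvd]; simp)
        simp only [J_inv, J_mul, inv_one, one_mul, mul_one] at this
        rcases this with e | e | e
        · exact hua (J_inj e).1
        · exact hvb (J_inj e).2
        · exact hua (J_inj e).1
      refine ⟨fun u hu hud => ?_, fun u hu hud => ?_⟩
      · by_contra hua
        rcases hA with hA | hA
        · exact hua (hA u hu hud)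
        have := hcl (J u 1) (J_mem hu W.one_mem) sw sw_mem (by rw [det_J, hud]; simp) hsw
        rw [swc] at this
        simp only [J_inv, J_mul, inv_one, one_mul, mul_one] at this
        rcases hab b hb2 hA with rfl | rfl <;> rcases this with e | e | e
        · exact hua (J_inj e).1
        · exact hua (by rw [← (J_inj e).1]; simp)
        · exact hua (by rw [← (J_inj e).2]; simp)
        · exact hua (J_inj e).1
        · exact hua (by rw [← (J_inj e).1]; simp)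
        · exact hua (by rw [← (J_inj e).2]; simp)
      · by_contra hub
        rcases hA with hA | hA
        swap
        · exact hub (hA u hu hud)
        have := hcl (J 1 u) (J_mem W.one_mem hu) sw sw_mem (by rw [det_J, hud]; simp) hsw
        rw [swc] at this
        simp only [J_inv, J_mul, inv_one, one_mul, mul_one] at this
        rcases hab a ha2 hA with rfl | rfl <;> rcases this with e | e | e
        · exact hub (J_inj e).2
        · exact hub (by rw [← (J_inj e).2]; simp)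
        · exact hub (by rw [← (J_inj e).1]; simp)
        · exact hub (J_inj e).2
        · exact hub (by rw [← (J_inj e).2]; simp)
        · exact hub (by rw [← (J_inj e).1]; simp)
    rcases hab a ha2 key.1 with rfl | rfl <;> rcases hab b hb2 key.2 with rfl | rfl
    · exact absurd J_one h1
    · exact Or.inr rfl
    · exact Or.inl rfl
    · exact absurd J_neg_one hm1
  · exfalso
    obtain ⟨u, hu, hud, hu1, hum⟩ := hW.exists_ne hι
    have conj : ∀ c : GL ι F,
        J c 1 * (J a b * sw) * (J c 1)⁻¹ = J (c * a) (b * c⁻¹) * sw := fun c => by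
      rw [J_inv, ← mul_assoc, mul_assoc (J c 1 * J a b), sw_J, ← mul_assoc, J_mul, J_mul]
      simp
    have := hcl (J u 1) (J_mem hu W.one_mem) (J (-1 : GL ι F) 1) (J_mem hW.negOne W.one_mem)
      (by rw [det_J, hud]; simp) (by rw [det_J, det_neg_one_of_even he]; simp)
    rw [conj, conj] at this
    rcases this with e | e | e <;> have e' := (J_inj (mul_right_cancel e)).1
    · exact hu1 (mul_eq_right.1 e')
    · exact hne (mul_eq_right.1 e')
    · exact hum (mul_right_cancel e')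

/-- An element normalizing `(W ≀ C₂) ∩ SL` is a scalar multiple of an element of `W ≀ C₂`. -/
theorem norm_double (h2 : (2 : F) ≠ 0) (he : Even (Fintype.card ι)) (hι : 1 < Fintype.card ι)
    (hW : Good W) (g : GL (ι ⊕ ι) F)
    (hg : ∀ x ∈ double W hneg, (x : Matrix (ι ⊕ ι) (ι ⊕ ι) F).det = 1 → g * x * g⁻¹ ∈ double W hneg)
    (hg' : ∀ x ∈ double W hneg, (x : Matrix (ι ⊕ ι) (ι ⊕ ι) F).det = 1 → g⁻¹ * x * g ∈ double W hneg) :
    ∃ c : Fˣ, ∃ a ∈ double W hneg, g = Matrix.GeneralLinearGroup.scalar (ι ⊕ ι) c * a := by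
  have : Nonempty ι := Fintype.card_pos_iff.1 (by omega)
  have detc : ∀ x : GL (ι ⊕ ι) F, ∀ k : GL (ι ⊕ ι) F,
      ((k * x * k⁻¹ : GL (ι ⊕ ι) F) : Matrix (ι ⊕ ι) (ι ⊕ ι) F).det =
        (x : Matrix (ι ⊕ ι) (ι ⊕ ι) F).det := fun x k => by
    rw [Units.val_mul, Units.val_mul, det_mul, det_mul, mul_right_comm, ← det_mul, ← Units.val_mul,
      mul_inv_cancel, Units.val_one, det_one, one_mul]
  set τ : GL (ι ⊕ ι) F := J (-1 : GL ι F) 1 with hτ
  have hτd : (τ : Matrix (ι ⊕ ι) (ι ⊕ ι) F).det = 1 := by rw [hτ, det_J, det_neg_one_of_even he]; simp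
  have hτm : τ ∈ double W hneg := J_mem hW.negOne W.one_mem
  have hττ : τ * τ = 1 := by rw [hτ, J_mul]; simp [J_one]
  have swτ : sw * τ * sw⁻¹ = J 1 (-1 : GL ι F) := by rw [hτ, sw_J, mul_inv_cancel_right]
  have hne : (-1 : GL ι F) ≠ 1 := neg_one_ne_one h2
  have hpair : ∀ x ∈ double W hneg, x * τ * x⁻¹ = τ ∨ x * τ * x⁻¹ = J 1 (-1 : GL ι F) := by
    rintro x ⟨a, _, b, _, rfl | rfl⟩
    · left; rw [hτ, J_inv, J_mul, J_mul]; simp
    · right
      rw [_root_.mul_inv_rev, show J a b * sw * τ * (sw⁻¹ * (J a b)⁻¹) = J a b * (sw * τ * sw⁻¹) * (J a b)⁻¹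
        by simp only [mul_assoc], swτ, J_inv, J_mul, J_mul]
      simp
  have hgτ : g * τ * g⁻¹ = τ ∨ g * τ * g⁻¹ = J 1 (-1 : GL ι F) := by
    refine eq_tau h2 he hι hW (hg τ hτm hτd) (by
      rw [show g * τ * g⁻¹ * (g * τ * g⁻¹) = g * (τ * τ) * g⁻¹ by group, hττ]; simp) ?_ ?_ ?_
    · intro e
      rw [mul_inv_eq_one] at e
      have : τ = 1 := mul_left_cancel (e.trans (mul_one g).symm)
      exact hne (J_inj (this.trans J_one.symm)).1
    · intro e
      rw [mul_inv_eq_iff_eq_mul, neg_one_mul, ← mul_neg_one] at e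
      exact hne.symm (J_inj ((mul_left_cancel e).trans J_neg_one.symm)).2
    · intro x hx z hz hxd hzd
      have tr : ∀ k : GL (ι ⊕ ι) F,
          k * (g * τ * g⁻¹) * k⁻¹ = g * ((g⁻¹ * k * g) * τ * (g⁻¹ * k * g)⁻¹) * g⁻¹ := fun k => by group
      rw [tr x, tr z]
      rcases hpair _ (hg' x hx hxd) with e | e <;> rcases hpair _ (hg' z hz hzd) with e' | e' <;>
        rw [e, e'] <;> simp
  obtain ⟨g₀, ε, hεm, hεd, hcom, rfl⟩ : ∃ g₀ ε : GL (ι ⊕ ι) F, ε ∈ double W hneg ∧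
      (ε : Matrix (ι ⊕ ι) (ι ⊕ ι) F).det = 1 ∧ g₀ * τ = τ * g₀ ∧ g = ε * g₀ := by
    rcases hgτ with e | e
    · exact ⟨g, 1, Subgroup.one_mem _, by simp, mul_inv_eq_iff_eq_mul.1 e, (one_mul g).symm⟩
    · refine ⟨sw⁻¹ * g, sw, sw_mem, det_sw, ?_, (mul_inv_cancel_left sw g).symm⟩
      rw [mul_assoc, mul_inv_eq_iff_eq_mul.1 e, ← swτ]
      group
  have hblk := comm_J_neg_one h2 (congrArg Units.val hcom)
  have hblk' := comm_J_neg_one h2 (congrArg Units.val (show g₀⁻¹ * τ = τ * g₀⁻¹ by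
    rw [inv_mul_eq_iff_eq_mul, ← mul_assoc, hcom, mul_inv_cancel_right]))
  generalize (g₀ : Matrix (ι ⊕ ι) (ι ⊕ ι) F).toBlocks₁₁ = A,
    (g₀ : Matrix (ι ⊕ ι) (ι ⊕ ι) F).toBlocks₂₂ = D at hblk
  generalize ((g₀⁻¹ : GL (ι ⊕ ι) F) : Matrix (ι ⊕ ι) (ι ⊕ ι) F).toBlocks₁₁ = A',
    ((g₀⁻¹ : GL (ι ⊕ ι) F) : Matrix (ι ⊕ ι) (ι ⊕ ι) F).toBlocks₂₂ = D' at hblk'
  have hAA := g₀.mul_inv
  rw [hblk, hblk', fromBlocks_multiply, ← fromBlocks_one, fromBlocks_inj] at hAA
  have hA'A := g₀.inv_mul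
  rw [hblk, hblk', fromBlocks_multiply, ← fromBlocks_one, fromBlocks_inj] at hA'A
  simp only [Matrix.mul_zero, Matrix.zero_mul, add_zero, zero_add] at hAA hA'A
  let a : GL ι F := ⟨A, A', hAA.1, hA'A.1⟩
  let b : GL ι F := ⟨D, D', hAA.2.2.2, hA'A.2.2.2⟩
  obtain rfl : g₀ = J a b := Units.ext hblk
  have hnorm : ∀ x ∈ double W hneg, (x : Matrix (ι ⊕ ι) (ι ⊕ ι) F).det = 1 →
      J a b * x * (J a b)⁻¹ ∈ double W hneg := fun x hx hd => by
    have := (double W hneg).mul_mem ((double W hneg).mul_mem ((double W hneg).inv_mem hεm) (hg x hx hd)) hεm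
    rwa [show ε⁻¹ * (ε * J a b * x * (ε * J a b)⁻¹) * ε = J a b * x * (J a b)⁻¹ by group] at this
  have hblocks : ∀ x ∈ W, a * x * a⁻¹ ∈ W ∧ b * x * b⁻¹ ∈ W := by
    intro x hx
    have hdx : (J x x⁻¹ : Matrix (ι ⊕ ι) (ι ⊕ ι) F).det = 1 ∧ (J x⁻¹ x : Matrix (ι ⊕ ι) (ι ⊕ ι) F).det = 1 := by
      constructor <;> rw [det_J, ← det_mul, ← Units.val_mul] <;> simp
    have g1 := hnorm _ (J_mem hx (W.inv_mem hx)) hdx.1
    have g2 := hnorm _ (J_mem (W.inv_mem hx) hx) hdx.2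
    rw [J_inv, J_mul, J_mul] at g1 g2
    obtain ⟨c, hc, d, hd, e | e⟩ := g1
    swap
    · exact absurd e (J_ne_J_sw _ _ _ _)
    obtain ⟨c', hc', d', hd', e' | e'⟩ := g2
    swap
    · exact absurd e' (J_ne_J_sw _ _ _ _)
    exact ⟨(J_inj e).1 ▸ hc, (J_inj e').2 ▸ hd'⟩
  obtain ⟨c1, w1, hw1, ha⟩ := hW.norm a fun x hx => (hblocks x hx).1
  obtain ⟨c2, w2, hw2, hb⟩ := hW.norm b fun x hx => (hblocks x hx).2
  have gs := hnorm sw sw_mem det_sw
  rw [mul_assoc, J_inv, sw_J, ← mul_assoc, J_mul] at gs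
  obtain ⟨c, hc, d, hd, e | e⟩ := gs
  · exact absurd e.symm (J_ne_J_sw _ _ _ _)
  have eab := (J_inj (mul_right_cancel e)).1
  let lam : Fˣ := c1 / c2
  have hscal : Matrix.GeneralLinearGroup.scalar ι lam ∈ W := by
    have e3 : w1⁻¹ * (a * b⁻¹) * w2 = Matrix.GeneralLinearGroup.scalar ι lam := by
      rw [ha, hb, _root_.mul_inv_rev, ← map_inv, scalar_comm c1 w1, ← scalar_comm c2⁻¹,
        show w1⁻¹ * (w1 * Matrix.GeneralLinearGroup.scalar ι c1 *
          (Matrix.GeneralLinearGroup.scalar ι c2⁻¹ * w2⁻¹)) * w2 =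
          Matrix.GeneralLinearGroup.scalar ι c1 * Matrix.GeneralLinearGroup.scalar ι c2⁻¹ by group,
        ← map_mul]
      rfl
    rw [← e3, eab]
    exact W.mul_mem (W.mul_mem (W.inv_mem hw1) hc) hw2
  refine ⟨c2, ε * J (Matrix.GeneralLinearGroup.scalar ι lam * w1) w2,
    (double W hneg).mul_mem hεm (J_mem (W.mul_mem hscal hw1) hw2), ?_⟩
  rw [← mul_assoc, scalar_comm c2 ε, mul_assoc]
  congr 1
  have es : Matrix.GeneralLinearGroup.scalar (ι ⊕ ι) c2 =
      J (Matrix.GeneralLinearGroup.scalar ι c2) (Matrix.GeneralLinearGroup.scalar ι c2) := by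
    refine Units.ext ?_
    rw [J_val]
    ext (i | i) (j | j) <;> simp [Matrix.GeneralLinearGroup.scalar, diagonal_apply]
  rw [es, J_mul, ha, hb, ← mul_assoc, ← map_mul]
  congr 3
  simp [lam]

theorem good_double (h2 : (2 : F) ≠ 0) (he : Even (Fintype.card ι)) (hι : 1 < Fintype.card ι)
    (hW : Good W) : Good (double W hW.negOne) where
  negOne := J_neg_one (F := F) (ι := ι) ▸ J_mem hW.negOne hW.negOne
  cent := cent_double h2 he hW
  norm := fun g hg => by
    refine norm_double h2 he hι hW g (fun x hx _ => hg x hx) fun x hx _ => ?_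
    have hinj : Function.Injective
        (fun y : ↥(double W hW.negOne) => (⟨g * y * g⁻¹, hg y y.2⟩ : ↥(double W hW.negOne))) :=
      fun y z e => Subtype.ext (mul_left_cancel (mul_right_cancel (congrArg Subtype.val e)))
    obtain ⟨y, hye⟩ := Finite.surjective_of_injective hinj ⟨x, hx⟩
    have e : g * y * g⁻¹ = x := congrArg Subtype.val hye
    rw [← e, show g⁻¹ * (g * y * g⁻¹) * g = y by group]
    exact y.2

end CfsgLib.SymSylow.WreathNorm
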