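import Mathlib
import Cfsg.Agent.SymSylow.WreathNorm

/-!
Two-dimensional starting groups for `WreathNorm`: monomial and semidihedral.
-/

set_option autoImplicit false
set_option linter.unusedSectionVars false

namespace CfsgLib.SymSylow.WreathNorm

open Matrix

variable {F : Type*} [Field F] [Finite F]

local notation "GL₂" => GL (Fin 2) F
local notation "M₂" => Matrix (Fin 2) (Fin 2) F

section Mono

/-- Diagonal or antidiagonal with roots of unity. -/
def IsMono (e : ℕ) (g : M₂) : Prop :=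
  (g 0 1 = 0 ∧ g 1 0 = 0 ∧ g 0 0 ^ e = 1 ∧ g 1 1 ^ e = 1) ∨
    (g 0 0 = 0 ∧ g 1 1 = 0 ∧ g 0 1 ^ e = 1 ∧ g 1 0 ^ e = 1)

theorem isMono_one (e : ℕ) : IsMono e (1 : M₂) := Or.inl ⟨rfl, rfl, one_pow e, one_pow e⟩

theorem isMono_mul {e : ℕ} {g h : M₂} (hg : IsMono e g) (hh : IsMono e h) : IsMono e (g * h) := by
  rcases hg with ⟨a, b, c, d⟩ | ⟨a, b, c, d⟩ <;> rcases hh with ⟨a', b', c', d'⟩ | ⟨a', b', c', d'⟩
  · exact Or.inl (by simp [Matrix.mul_apply, Fin.sum_univ_two, mul_pow, a, b, c, d, a', b', c', d'])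
  · exact Or.inr (by simp [Matrix.mul_apply, Fin.sum_univ_two, mul_pow, a, b, c, d, a', b', c', d'])
  · exact Or.inr (by simp [Matrix.mul_apply, Fin.sum_univ_two, mul_pow, a, b, c, d, a', b', c', d'])
  · exact Or.inl (by simp [Matrix.mul_apply, Fin.sum_univ_two, mul_pow, a, b, c, d, a', b', c', d'])

/-- The monomial group with entries in the `e`-th roots of unity. -/
def monoW (e : ℕ) : Subgroup GL₂ where
  carrier := {g | IsMono e (g : M₂)}
  one_mem' := isMono_one e
  mul_mem' := fun hg hh => isMono_mul hg hh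
  inv_mem' := by
    intro g hg
    obtain ⟨m, hm⟩ := (Submonoid.mem_powers_iff (g⁻¹) g).1
      (mem_powers_iff_mem_zpowers.2 (Subgroup.inv_mem _ (Subgroup.mem_zpowers g)))
    rw [← hm]
    clear hm
    induction m with
    | zero => exact isMono_one e
    | succ m ih => rw [pow_succ]; exact isMono_mul ih hg

theorem mem_monoW {e : ℕ} {g : GL₂} : g ∈ monoW e ↔ IsMono e (g : M₂) := Iff.rfl

/-- The antidiagonal element with entries `a`, `b`. -/
def antiD (a b : Fˣ) : GL₂ :=
  GeneralLinearGroup.mkOfDetNeZero !![0, (a : F); (b : F), 0]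
    (by simp [Matrix.det_fin_two_of, a.ne_zero, b.ne_zero])

/-- The diagonal element with entries `a`, `b`. -/
def diagD (a b : Fˣ) : GL₂ :=
  GeneralLinearGroup.mkOfDetNeZero !![(a : F), 0; 0, (b : F)]
    (by simp [Matrix.det_fin_two_of, a.ne_zero, b.ne_zero])

@[simp] theorem antiD_val (a b : Fˣ) : (antiD a b : M₂) = !![0, (a : F); (b : F), 0] := rfl

@[simp] theorem diagD_val (a b : Fˣ) : (diagD a b : M₂) = !![(a : F), 0; 0, (b : F)] := rfl

theorem diagD_mem {e : ℕ} {a b : Fˣ} (ha : a ^ e = 1) (hb : b ^ e = 1) : diagD a b ∈ monoW e :=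
  Or.inl (by simp [← Units.val_pow_eq_pow_val, ha, hb])

theorem antiD_mem {e : ℕ} {a b : Fˣ} (ha : a ^ e = 1) (hb : b ^ e = 1) : antiD a b ∈ monoW e :=
  Or.inr (by simp [← Units.val_pow_eq_pow_val, ha, hb])

theorem mono_cases {e : ℕ} {g : GL₂} (hg : g ∈ monoW e) :
    ∃ a b : Fˣ, a ^ e = 1 ∧ b ^ e = 1 ∧ (g = diagD a b ∨ g = antiD a b) := by
  have hd : (g : M₂).det ≠ 0 := (GeneralLinearGroup.det g).ne_zero
  rw [Matrix.det_fin_two] at hd
  rcases hg with ⟨a, b, c, d⟩ | ⟨a, b, c, d⟩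
  · have ha : (g : M₂) 0 0 ≠ 0 := fun h => hd (by rw [h, a]; ring)
    have hb : (g : M₂) 1 1 ≠ 0 := fun h => hd (by rw [h, a]; ring)
    refine ⟨Units.mk0 _ ha, Units.mk0 _ hb, Units.ext (by simpa using c), Units.ext (by simpa using d),
      Or.inl (Units.ext ?_)⟩
    ext i j; fin_cases i <;> fin_cases j <;> simp [a, b]
  · have ha : (g : M₂) 0 1 ≠ 0 := fun h => hd (by rw [h, a]; ring)
    have hb : (g : M₂) 1 0 ≠ 0 := fun h => hd (by rw [h, a]; ring)
    refine ⟨Units.mk0 _ ha, Units.mk0 _ hb, Units.ext (by simpa using c), Units.ext (by simpa using d),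
      Or.inr (Units.ext ?_)⟩
    ext i j; fin_cases i <;> fin_cases j <;> simp [a, b]

/-- An element moving a diagonal element of `W` with distinct eigenvalues of nonzero sum, and the
antidiagonal element, into `W`, is a scalar multiple of an element of `W`. -/
theorem mono_core {e : ℕ} (he : Even e) {p r : Fˣ} (hne : p ≠ r) (hsum : (p : F) + r ≠ 0) (g : GL₂)
    (h1 : g * diagD p r * g⁻¹ ∈ monoW e) (h2 : g * antiD 1 (-1) * g⁻¹ ∈ monoW e) :
    ∃ c : Fˣ, ∃ a ∈ monoW e, g = GeneralLinearGroup.scalar (Fin 2) c * a := by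
  classical
  obtain ⟨a, b, -, -, hab⟩ := mono_cases h1
  have htr : ((g * diagD p r * g⁻¹ : GL₂) : M₂).trace = (p : F) + r := by
    rw [Units.val_mul, Units.val_mul, Matrix.trace_units_conj]
    simp [Matrix.trace_fin_two]
  rcases hab with hab | hab
  swap
  · rw [hab] at htr
    simp [Matrix.trace_fin_two] at htr
    exact absurd htr.symm hsum
  have hd : (g : M₂).det ≠ 0 := (GeneralLinearGroup.det g).ne_zero
  rw [Matrix.det_fin_two] at hd
  have hE : (g : M₂) * !![(p : F), 0; 0, (r : F)] = !![(a : F), 0; 0, (b : F)] * (g : M₂) := by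
    have := congrArg Units.val (mul_inv_eq_iff_eq_mul.1 hab)
    simpa using this
  have e00 := congrFun (congrFun hE 0) 0
  have e01 := congrFun (congrFun hE 0) 1
  have e10 := congrFun (congrFun hE 1) 0
  have e11 := congrFun (congrFun hE 1) 1
  simp [Matrix.mul_apply, Fin.sum_univ_two] at e00 e01 e10 e11
  have hrow : (g : M₂) 0 0 = 0 ∨ (g : M₂) 0 1 = 0 := by
    by_contra h
    push Not at h
    refine hne (Units.ext ?_)
    have u : (p : F) = a := mul_left_cancel₀ h.1 (by linear_combination e00)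
    have v : (r : F) = a := mul_left_cancel₀ h.2 (by linear_combination e01)
    rw [u, v]
  have hrow' : (g : M₂) 1 0 = 0 ∨ (g : M₂) 1 1 = 0 := by
    by_contra h
    push Not at h
    refine hne (Units.ext ?_)
    have u : (p : F) = b := mul_left_cancel₀ h.1 (by linear_combination e10)
    have v : (r : F) = b := mul_left_cancel₀ h.2 (by linear_combination e11)
    rw [u, v]
  obtain ⟨s, u, hg⟩ : ∃ s u : Fˣ, g = diagD s u ∨ g = antiD s u := by
    rcases hrow with h | h
    · have x01 : (g : M₂) 0 1 ≠ 0 := fun z => hd (by rw [h, z]; ring)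
      have x10 : (g : M₂) 1 0 ≠ 0 := fun z => hd (by rw [h, z]; ring)
      refine ⟨Units.mk0 _ x01, Units.mk0 _ x10, Or.inr (Units.ext ?_)⟩
      have h11 := hrow'.resolve_left x10
      ext i j; fin_cases i <;> fin_cases j <;> simp [h, h11]
    · have x00 : (g : M₂) 0 0 ≠ 0 := fun z => hd (by rw [h, z]; ring)
      have x11 : (g : M₂) 1 1 ≠ 0 := fun z => hd (by rw [h, z]; ring)
      refine ⟨Units.mk0 _ x00, Units.mk0 _ x11, Or.inl (Units.ext ?_)⟩
      have h10 := hrow'.resolve_right x11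
      ext i j; fin_cases i <;> fin_cases j <;> simp [h, h10]
  refine ⟨u, if g = diagD s u then diagD (s / u) 1 else antiD (s / u) 1, ?_, ?_⟩
  · have key : (s / u) ^ e = 1 := by
      have hm : g * antiD 1 (-1) * g⁻¹ = antiD (s / u) (-(u / s)) ∨
          g * antiD 1 (-1) * g⁻¹ = antiD (-(s / u)) (u / s) := by
        rcases hg with rfl | rfl
        · left
          rw [mul_inv_eq_iff_eq_mul]
          refine Units.ext ?_
          ext i j; fin_cases i <;> fin_cases j <;> simp [Matrix.mul_apply, Fin.sum_univ_two]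
        · right
          rw [mul_inv_eq_iff_eq_mul]
          refine Units.ext ?_
          ext i j; fin_cases i <;> fin_cases j <;> simp [Matrix.mul_apply, Fin.sum_univ_two]
      rcases hm with hm | hm <;> rw [hm] at h2 <;> obtain ⟨a', b', ha', -, hh | hh⟩ := mono_cases h2
      · have := congrArg (fun m : GL₂ => (m : M₂) 0 0) hh
        simp at this
        exact absurd this a'.ne_zero.symm
      · have := congrArg (fun m : GL₂ => (m : M₂) 0 1) hh
        simp at this
        rw [show s / u = a' from Units.ext (by simpa using this), ha']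
      · have := congrArg (fun m : GL₂ => (m : M₂) 0 0) hh
        simp at this
        exact absurd this a'.ne_zero.symm
      · have := congrArg (fun m : GL₂ => (m : M₂) 0 1) hh
        simp at this
        rw [← he.neg_pow, show -(s / u) = a' from Units.ext (by simpa using this), ha']
    split_ifs
    · exact diagD_mem key (one_pow e)
    · exact antiD_mem key (one_pow e)
  · split_ifs with hif
    · rw [hif]
      refine Units.ext ?_
      ext i j; fin_cases i <;> fin_cases j <;> simp [GeneralLinearGroup.scalar, Matrix.mul_apply, mul_div_cancel₀]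
    · rw [hg.resolve_left hif]
      refine Units.ext ?_
      ext i j; fin_cases i <;> fin_cases j <;> simp [GeneralLinearGroup.scalar, Matrix.mul_apply, mul_div_cancel₀]

theorem mono_neg_one {e : ℕ} (he : Even e) : (-1 : GL₂) ∈ monoW e :=
  Or.inl (by simp [he.neg_one_pow])

theorem good_mono {e : ℕ} {ζ : Fˣ} (hζ : orderOf ζ = e) (he : 4 ∣ e) : Good (monoW e : Subgroup GL₂) := by
  have heven : Even e := even_iff_two_dvd.2 ((show 2 ∣ 4 by norm_num).trans he)
  have hζe : ζ ^ e = 1 := hζ ▸ pow_orderOf_eq_one ζ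
  have hζ1 : ζ ≠ 1 := fun h => by rw [h, orderOf_one] at hζ; omega
  have hζm : (ζ : F) + 1 ≠ 0 := fun h => by
    have : ζ ^ 2 = 1 := Units.ext (by
      rw [Units.val_pow_eq_pow_val, eq_neg_of_add_eq_zero_left h]; simp)
    have := Nat.le_of_dvd two_pos (orderOf_dvd_of_pow_eq_one this)
    have : 4 ≤ e := Nat.le_of_dvd (hζ ▸ orderOf_pos ζ) he
    omega
  refine ⟨mono_neg_one heven, fun g hg => ?_, fun g hg => ?_⟩
  · have h1 := hg (diagD ζ ζ⁻¹) (diagD_mem hζe (by rw [inv_pow, hζe, inv_one])) (by simp [Matrix.det_fin_two_of])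
    have h2 := hg (antiD 1 (-1)) (antiD_mem (one_pow e) (heven.neg_one_pow)) (by simp [Matrix.det_fin_two_of])
    have hne : (ζ : F) ≠ (ζ : F)⁻¹ := fun h => by
      have : ζ ^ 2 = 1 := Units.ext (by
        rw [Units.val_pow_eq_pow_val, pow_two]; nth_rewrite 1 [h]; simp)
      have := Nat.le_of_dvd two_pos (orderOf_dvd_of_pow_eq_one this)
      have : 4 ≤ e := Nat.le_of_dvd (hζ ▸ orderOf_pos ζ) he
      omega
    have e01 := congrFun (congrFun h1 0) 1
    have e10 := congrFun (congrFun h1 1) 0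
    have f01 := congrFun (congrFun h2 0) 1
    simp [Matrix.mul_apply, Fin.sum_univ_two] at e01 e10 f01
    have g01 : g 0 1 = 0 := by
      by_contra hne0
      exact hne (mul_left_cancel₀ hne0 (by linear_combination -e01))
    have g10 : g 1 0 = 0 := by
      by_contra hne0
      exact hne (mul_left_cancel₀ hne0 (by linear_combination e10))
    refine ⟨g 0 0, ?_⟩
    ext i j; fin_cases i <;> fin_cases j <;> simp [g01, g10]
    linear_combination -f01
  · exact mono_core heven hζ1 (by simpa using hζm) g (hg _ (diagD_mem hζe (one_pow e)))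
      (hg _ (antiD_mem (one_pow e) heven.neg_one_pow))

theorem card_monoW {e : ℕ} {ζ : Fˣ} (hζ : orderOf ζ = e) : Nat.card (monoW e : Subgroup GL₂) = 2 * e ^ 2 := by
  classical
  let Z := {a : Fˣ // a ^ e = 1}
  have hZ : Nat.card Z = e := by
    have hz : ∀ a : Fˣ, a ^ e = 1 ↔ a ∈ Subgroup.zpowers ζ := fun a => by
      subst hζ
      constructor
      · intro ha
        haveI : NeZero (orderOf ζ) := ⟨(orderOf_pos ζ).ne'⟩
        have hsub := IsPrimitiveRoot.zpowers_eq (IsPrimitiveRoot.orderOf ζ)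
        rw [hsub, mem_rootsOfUnity]; exact ha
      · rintro ⟨i, rfl⟩
        rw [← zpow_natCast, ← _root_.zpow_mul, mul_comm, _root_.zpow_mul, zpow_natCast, pow_orderOf_eq_one, _root_.one_zpow]
    rw [← hζ, ← Nat.card_zpowers ζ]
    exact Nat.card_congr (Equiv.subtypeEquivRight hz)
  let f : (Z × Z) ⊕ (Z × Z) → (monoW e : Subgroup GL₂) :=
    Sum.elim (fun p => ⟨diagD p.1 p.2, diagD_mem p.1.2 p.2.2⟩) (fun p => ⟨antiD p.1 p.2, antiD_mem p.1.2 p.2.2⟩)
  have hf : Function.Bijective f := by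
    constructor
    · rintro (⟨a, b⟩ | ⟨a, b⟩) (⟨c, d⟩ | ⟨c, d⟩) h <;>
        have h' := fun i j => congrArg (fun m : (monoW e : Subgroup GL₂) => ((m : GL₂) : M₂) i j) h
      · have := h' 0 0; have := h' 1 1; simp [f] at *
        exact ⟨Subtype.ext (Units.ext (by assumption)), Subtype.ext (Units.ext (by assumption))⟩
      · have := h' 0 0; simp [f] at this
      · have := h' 0 1; simp [f] at this
      · have := h' 0 1; have := h' 1 0; simp [f] at *
        exact ⟨Subtype.ext (Units.ext (by assumption)), Subtype.ext (Units.ext (by assumption))⟩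
    · rintro ⟨g, hg⟩
      obtain ⟨a, b, ha, hb, rfl | rfl⟩ := mono_cases hg
      · exact ⟨Sum.inl (⟨a, ha⟩, ⟨b, hb⟩), rfl⟩
      · exact ⟨Sum.inr (⟨a, ha⟩, ⟨b, hb⟩), rfl⟩
  rw [← Nat.card_eq_of_bijective f hf, Nat.card_sum, Nat.card_prod, hZ, pow_two, two_mul]

end Mono

section SD

theorem cayley (x : M₂) : x * x = x.trace • x - x.det • 1 := by
  ext i j
  fin_cases i <;> fin_cases j <;>
    simp [Matrix.mul_apply, Fin.sum_univ_two, Matrix.trace_fin_two, Matrix.det_fin_two] <;> ring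

theorem exists_poly {x g : M₂} (hx : ∀ c : F, x ≠ c • 1) (h : g * x = x * g) :
    ∃ a b : F, g = a • 1 + b • x := by
  have e00 := congrFun (congrFun h 0) 0
  have e01 := congrFun (congrFun h 0) 1
  have e10 := congrFun (congrFun h 1) 0
  simp [Matrix.mul_apply, Fin.sum_univ_two] at e00 e01 e10
  by_cases h01 : x 0 1 = 0
  · by_cases h10 : x 1 0 = 0
    · have hd : x 0 0 - x 1 1 ≠ 0 := fun hz => hx (x 0 0) (by
        ext i j; fin_cases i <;> fin_cases j <;> simp [h01, h10, sub_eq_zero.1 hz])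
      obtain ⟨b, hb⟩ : ∃ b, b * (x 0 0 - x 1 1) = g 0 0 - g 1 1 := ⟨_, div_mul_cancel₀ _ hd⟩
      refine ⟨g 0 0 - b * x 0 0, b, ?_⟩
      have g01 : g 0 1 = 0 := by
        refine (mul_eq_zero.1 ?_).resolve_right hd
        rw [h01] at e01; linear_combination -e01
      have g10 : g 1 0 = 0 := by
        refine (mul_eq_zero.1 ?_).resolve_right hd
        rw [h10] at e10; linear_combination e10
      ext i j; fin_cases i <;> fin_cases j <;> simp [h01, h10, g01, g10]
      linear_combination hb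
    · obtain ⟨b, hb⟩ : ∃ b, b * x 1 0 = g 1 0 := ⟨_, div_mul_cancel₀ _ h10⟩
      refine ⟨g 0 0 - b * x 0 0, b, ?_⟩
      ext i j; fin_cases i <;> fin_cases j <;> simp [← hb, h01]
      · refine mul_right_cancel₀ h10 ?_
        rw [h01] at e00; linear_combination e00
      · refine mul_right_cancel₀ h10 ?_
        linear_combination e10 + (x 0 0 - x 1 1) * hb
  · obtain ⟨b, hb⟩ : ∃ b, b * x 0 1 = g 0 1 := ⟨_, div_mul_cancel₀ _ h01⟩
    refine ⟨g 0 0 - b * x 0 0, b, ?_⟩
    ext i j; fin_cases i <;> fin_cases j <;> simp [← hb]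
    · refine mul_right_cancel₀ h01 ?_
      linear_combination -e00 - x 1 0 * hb
    · refine mul_right_cancel₀ h01 ?_
      linear_combination -e01 + (x 0 0 - x 1 1) * hb

/-- Semidihedral generators. -/
structure SDPair {K : Type*} [Field K] (x y : GL (Fin 2) K) (M : ℕ) : Prop where
  two : (2 : K) ≠ 0
  eight : 8 ∣ M
  order : orderOf x = M
  invol : y * y = 1
  rel : y * x * y = -x⁻¹
  detx : (x : Matrix (Fin 2) (Fin 2) K).det = -1
  dety : (y : Matrix (Fin 2) (Fin 2) K).det = -1
  half : x ^ (M / 2) = -1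

variable {x y : GL (Fin 2) F} {M : ℕ}

namespace SDPair

variable (h : SDPair (K := F) x y M)
include h

theorem inv_y : y⁻¹ = y := inv_eq_of_mul_eq_one_right h.invol

theorem conj_pow (i : ℕ) : y * x ^ i * y = (-x⁻¹) ^ i := by
  have := (_root_.conj_pow (a := y) (b := x) (i := i)).symm
  rw [h.inv_y, h.rel] at this
  exact this

theorem two_le : 8 ≤ M := Nat.le_of_dvd (h.order ▸ orderOf_pos x) h.eight

theorem neg_inv_pow : (-x⁻¹ : GL₂) = x ^ (M / 2 + (M - 1)) := by
  have h1 : x ^ (M - 1) = x⁻¹ := by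
    refine eq_inv_of_mul_eq_one_left ?_
    rw [← pow_succ, Nat.sub_add_cancel (by have := h.two_le; omega), ← h.order, pow_orderOf_eq_one]
  rw [pow_add, h.half, h1, neg_one_mul]

/-- The group generated by the pair. -/
def grp : Subgroup GL₂ where
  carrier := {g | ∃ i : ℕ, g = x ^ i ∨ g = x ^ i * y}
  one_mem' := ⟨0, Or.inl (pow_zero x).symm⟩
  mul_mem' := by
    have key : ∀ j : ℕ, y * x ^ j = x ^ ((M / 2 + (M - 1)) * j) * y := fun j => by
      rw [pow_mul, ← h.neg_inv_pow, ← h.conj_pow j, mul_assoc, h.invol, mul_one]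
    rintro a b ⟨i, ha⟩ ⟨j, hb⟩
    rcases ha with rfl | rfl <;> rcases hb with rfl | rfl
    · exact ⟨i + j, Or.inl (pow_add x i j).symm⟩
    · exact ⟨i + j, Or.inr (by rw [← mul_assoc, ← pow_add])⟩
    · exact ⟨i + (M / 2 + (M - 1)) * j, Or.inr (by rw [mul_assoc, key, ← mul_assoc, ← pow_add])⟩
    · exact ⟨i + (M / 2 + (M - 1)) * j, Or.inl (by
        rw [mul_assoc, ← mul_assoc y, key, mul_assoc, h.invol, mul_one, ← pow_add])⟩
  inv_mem' := by
    rintro a ⟨i, rfl | rfl⟩
    · exact ⟨(M - 1) * i, Or.inl (by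
        rw [← inv_pow, pow_mul]
        congr 1
        refine inv_eq_of_mul_eq_one_left ?_
        rw [← pow_succ, Nat.sub_add_cancel (by have := h.two_le; omega), ← h.order, pow_orderOf_eq_one])⟩
    · refine ⟨(M / 2 + (M - 1)) * ((M - 1) * i), Or.inr ?_⟩
      have h1 : x⁻¹ = x ^ (M - 1) := inv_eq_of_mul_eq_one_left (by
        rw [← pow_succ, Nat.sub_add_cancel (by have := h.two_le; omega), ← h.order, pow_orderOf_eq_one])
      rw [_root_.mul_inv_rev, ← inv_pow, h1, ← pow_mul, h.inv_y, pow_mul x _ ((M - 1) * i),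
        ← h.neg_inv_pow, ← h.conj_pow, mul_assoc, h.invol, mul_one]

theorem x_mem : x ∈ h.grp := ⟨1, Or.inl (pow_one x).symm⟩

theorem y_mem : y ∈ h.grp := ⟨0, Or.inr (by rw [pow_zero, one_mul])⟩

theorem sq_ne_neg_one : x * x ≠ -1 := fun hx => by
  have h4 : x ^ 4 = 1 := by rw [show 4 = 2 * 2 from rfl, pow_mul, pow_two x, hx]; simp
  have := Nat.le_of_dvd (by norm_num) (h.order ▸ orderOf_dvd_of_pow_eq_one h4)
  have := h.two_le
  omega

theorem sq_ne_one : x * x ≠ 1 := fun hx => by
  have := Nat.le_of_dvd two_pos (h.order ▸ orderOf_dvd_of_pow_eq_one ((pow_two x).trans hx))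
  have := h.two_le
  omega

theorem cayley_x : (x : M₂) * (x : M₂) = (x : M₂).trace • (x : M₂) + 1 := by
  rw [cayley, h.detx]; simp

theorem not_scalar : ∀ c : F, (x : M₂) ≠ c • 1 := fun c hc => by
  have hd := h.detx
  rw [hc, Matrix.det_smul] at hd
  simp at hd
  refine h.sq_ne_neg_one (Units.ext ?_)
  rw [Units.val_mul, hc, Units.val_neg, Units.val_one, smul_mul_smul_comm, mul_one, ← pow_two, hd]
  simp

theorem trace_ne : (x : M₂).trace ≠ 0 := fun ht => h.sq_ne_one (Units.ext (by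
  rw [Units.val_mul, h.cayley_x, ht]; simp))

theorem y_conj : (y : M₂) * (x : M₂) * (y : M₂) = (x : M₂).trace • 1 - (x : M₂) := by
  rw [← Units.val_mul, ← Units.val_mul, h.rel, Units.val_neg, neg_eq_iff_eq_neg, neg_sub]
  refine (Units.inv_eq_of_mul_eq_one_right ?_)
  rw [mul_sub, h.cayley_x, mul_smul_comm, mul_one]
  abel

theorem disc_ne : (x : M₂).trace ^ 2 + 4 ≠ 0 := fun hd => by
  have hN : ((x : M₂) - ((x : M₂).trace / 2) • 1) * ((x : M₂) - ((x : M₂).trace / 2) • 1) = 0 := by
    rw [sub_mul, mul_sub, mul_sub, h.cayley_x, smul_mul_assoc, one_mul, mul_smul_comm, mul_one,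
      smul_mul_assoc, one_mul, smul_smul]
    ext i j
    simp only [Matrix.sub_apply, Matrix.add_apply, Matrix.smul_apply, Matrix.one_apply, Matrix.zero_apply,
      smul_eq_mul]
    have := h.two
    field_simp
    split_ifs <;> first | linear_combination hd | linear_combination -hd | linear_combination (0 : F) * hd
  set t := (x : M₂).trace / 2 with ht
  set N := (x : M₂) - t • 1 with hN'
  have ht2 : t ^ 2 = -1 := by
    have := h.two
    rw [ht, div_pow, div_eq_iff (pow_ne_zero 2 h.two)]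
    linear_combination hd
  have hx : (x : M₂) = t • 1 + N := by rw [hN']; abel
  have hx2 : ((x * x : GL₂) : M₂) = -1 + (2 * t) • N := by
    rw [Units.val_mul, hx, add_mul, mul_add, mul_add, hN, smul_mul_assoc, one_mul, mul_smul_comm, mul_one,
      smul_smul, ← pow_two, ht2, smul_mul_assoc, one_mul]
    simp [two_mul, add_smul, add_assoc]
  have hk : ∀ k : ℕ, ∃ c : F, ((x * x : GL₂) : M₂) ^ k = (-1 : F) ^ k • (1 : M₂) + c • N := by
    intro k
    induction k with
    | zero => exact ⟨0, by simp⟩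
    | succ k ih =>
      obtain ⟨c, hc⟩ := ih
      refine ⟨(-1) ^ k * (2 * t) - c, ?_⟩
      rw [pow_succ, hc, hx2]
      simp only [add_mul, mul_add, smul_mul_assoc, mul_smul_comm, one_mul, mul_one, mul_neg, hN, smul_zero,
        add_zero, smul_smul, sub_smul, pow_succ, mul_neg_one, neg_smul, smul_neg]
      module
  obtain ⟨m, hm⟩ := h.eight
  obtain ⟨c, hc⟩ := hk (2 * m)
  have h1 := congrArg Units.val h.half
  rw [show M / 2 = 2 * (2 * m) by omega, pow_mul, pow_two, Units.val_pow_eq_pow_val, hc,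
    (even_two_mul m).neg_one_pow, one_smul, Units.val_neg, Units.val_one] at h1
  have hsub : (-c) • N = (2 : F) • (1 : M₂) := by
    rw [two_smul, neg_smul, ← sub_eq_zero]
    rw [← sub_eq_zero] at h1
    rw [← neg_eq_zero, ← h1]
    abel
  have h4 : ((2 : F) • (1 : M₂)) * ((2 : F) • 1) = 0 := by
    rw [← hsub, smul_mul_smul_comm, hN, smul_zero]
  have := congrFun (congrFun h4 0) 0
  simp [h.two] at this

theorem commuting_mem {g : GL₂} (hg : g ∈ h.grp) (hc : g * x = x * g) : ∃ j : ℕ, g = x ^ j := by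
  obtain ⟨i, rfl | rfl⟩ := hg
  · exact ⟨i, rfl⟩
  exfalso
  rw [mul_assoc, ← mul_assoc x, ← pow_succ', pow_succ, mul_assoc] at hc
  have e : y * x = x * y := mul_left_cancel hc
  have hr := h.rel
  rw [e, mul_assoc, h.invol, mul_one] at hr
  refine h.sq_ne_neg_one ?_
  nth_rewrite 2 [hr]
  simp

theorem scalar_of_comm {g : M₂} (h1 : g * (x : M₂) = (x : M₂) * g) (h2 : g * (y : M₂) = (y : M₂) * g) :
    ∃ c : F, g = Matrix.scalar (Fin 2) c := by
  obtain ⟨a, b, rfl⟩ := exists_poly h.not_scalar h1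
  have hyy : (y : M₂) * (y : M₂) = 1 := congrArg Units.val h.invol
  by_cases hb : b = 0
  · exact ⟨a, by subst hb; ext i j; simp [Matrix.one_apply, diagonal_apply]⟩
  exfalso
  have e : (y : M₂) * (x : M₂) * (y : M₂) = (x : M₂) := by
    rw [add_mul, mul_add, smul_mul_assoc, one_mul, mul_smul_comm, mul_one, add_right_inj,
      smul_mul_assoc, mul_smul_comm] at h2
    have h3 : (x : M₂) * (y : M₂) = (y : M₂) * (x : M₂) := smul_right_injective _ hb h2
    rw [← h3, mul_assoc, hyy, mul_one]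
  rw [h.y_conj, sub_eq_iff_eq_add, ← two_smul F] at e
  refine h.not_scalar ((x : M₂).trace / 2) ?_
  have e2 := congrArg (fun m : M₂ => (2 : F)⁻¹ • m) e
  simp only [smul_smul, inv_mul_cancel₀ h.two, one_smul] at e2
  rw [div_eq_inv_mul]
  exact e2.symm

/-- An element moving `x²` into the cyclic part and `x y` into the group is a scalar multiple of an element
of the group. -/
theorem core (g : GL₂) {j : ℕ} (h1 : g * (x * x) * g⁻¹ = x ^ j) (h2 : g * (x * y) * g⁻¹ ∈ h.grp) :
    ∃ c : Fˣ, ∃ a ∈ h.grp, g = GeneralLinearGroup.scalar (Fin 2) c * a := by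
  set X := g * x * g⁻¹ with hX
  have hcomm : (X : M₂) * (x : M₂) = (x : M₂) * (X : M₂) := by
    have e : (X : M₂) = (x : M₂).trace⁻¹ • ((x ^ j : GL₂) : M₂) - (x : M₂).trace⁻¹ • 1 := by
      have e2 : ((g * (x * x) * g⁻¹ : GL₂) : M₂) = (x : M₂).trace • (X : M₂) + 1 := by
        rw [hX]
        simp only [Units.val_mul]
        rw [h.cayley_x, mul_add, add_mul, mul_smul_comm, smul_mul_assoc, mul_one, Units.mul_inv]
      rw [← h1, e2, smul_add, smul_smul, inv_mul_cancel₀ h.trace_ne, one_smul, add_sub_cancel_right]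
    rw [e, sub_mul, mul_sub, smul_mul_assoc, mul_smul_comm, ← Units.val_mul, ← Units.val_mul,
      (Commute.refl x).pow_left j |>.eq, smul_mul_assoc, one_mul, mul_smul_comm, mul_one]
  obtain ⟨a, b, hab⟩ := exists_poly h.not_scalar hcomm
  have htr : (X : M₂).trace = (x : M₂).trace := by
    rw [hX, Units.val_mul, Units.val_mul, Matrix.trace_units_conj]
  have hdet : (X : M₂).det = -1 := by
    rw [hX, Units.val_mul, Units.val_mul, Matrix.det_units_conj, h.detx]
  rw [hab, Matrix.trace_add, Matrix.trace_smul, Matrix.trace_smul, Matrix.trace_one] at htr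
  have hd : a ^ 2 + a * b * (x : M₂).trace + b ^ 2 * (x : M₂).det = -1 := by
    rw [← hdet, hab, Matrix.det_fin_two, Matrix.trace_fin_two, Matrix.det_fin_two]
    simp; ring
  rw [h.detx] at hd
  simp at htr
  have hb : b = 1 ∨ b = -1 := by
    have : (b - 1) * (b + 1) * ((x : M₂).trace ^ 2 + 4) = 0 := by
      linear_combination (2 * a + b * (x : M₂).trace + (x : M₂).trace) * htr - 4 * hd
    rcases mul_eq_zero.1 ((mul_eq_zero.1 this).resolve_right h.disc_ne) with hb | hb
    · left; linear_combination hb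
    · right; linear_combination hb
  obtain ⟨k, ε, hεm, hk, hkg⟩ : ∃ k ε : GL₂, ε ∈ h.grp ∧ k * x = x * k ∧ g = ε * k := by
    rcases hb with rfl | rfl
    · refine ⟨g, 1, Subgroup.one_mem _, mul_inv_eq_iff_eq_mul.1 (Units.ext ?_), (one_mul g).symm⟩
      have ha : a = 0 := (mul_eq_zero.1 (show (2 : F) * a = 0 by linear_combination htr)).resolve_left h.two
      rw [hab, ha]; simp
    · refine ⟨y * g, y, h.y_mem, ?_, by rw [← mul_assoc, h.invol, one_mul]⟩
      have ha : a = (x : M₂).trace := mul_left_cancel₀ h.two (by linear_combination htr)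
      have e : X = y * x * y := Units.ext (by
        rw [hab, Units.val_mul, Units.val_mul, h.y_conj, ha, neg_one_smul, sub_eq_add_neg])
      rw [hX, mul_inv_eq_iff_eq_mul] at e
      rw [mul_assoc, e, show y * (y * x * y * g) = (y * y) * x * y * g by simp [mul_assoc],
        h.invol, one_mul, mul_assoc]
  subst hkg
  have hky : k * y * k⁻¹ ∈ h.grp := by
    have e : k * y * k⁻¹ = x⁻¹ * (ε⁻¹ * (ε * k * (x * y) * (ε * k)⁻¹) * ε) := by
      rw [show x⁻¹ * (ε⁻¹ * (ε * k * (x * y) * (ε * k)⁻¹) * ε) = x⁻¹ * (k * x) * y * k⁻¹ by group, hk]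
      group
    rw [e]
    exact h.grp.mul_mem (h.grp.inv_mem h.x_mem)
      (h.grp.mul_mem (h.grp.mul_mem (h.grp.inv_mem hεm) h2) hεm)
  have hkk : k * y * k⁻¹ * y ∈ h.grp := h.grp.mul_mem hky h.y_mem
  have hyk : (y * k⁻¹ * y) * x = x * (y * k⁻¹ * y) := by
    have e1 : Commute k⁻¹ (-x⁻¹) := ((Commute.inv_inv (show Commute k x from hk)).neg_right)
    have e2 : y * (-x⁻¹) * y = x := by
      rw [← h.rel, show y * (y * x * y) * y = (y * y) * x * (y * y) by simp [mul_assoc], h.invol,
        one_mul, mul_one]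
    calc y * k⁻¹ * y * x = y * k⁻¹ * (y * (y * (-x⁻¹) * y)) := by rw [e2, mul_assoc]
      _ = y * (k⁻¹ * -x⁻¹) * y := by simp only [← mul_assoc, h.invol]; simp [mul_assoc, h.invol]
      _ = y * (-x⁻¹ * k⁻¹) * y := by rw [e1.eq]
      _ = (y * -x⁻¹ * y) * (y * k⁻¹ * y) := by
        simp only [mul_assoc]; rw [← mul_assoc y y, h.invol, one_mul]
      _ = x * (y * k⁻¹ * y) := by rw [e2]
  obtain ⟨l, hl⟩ := h.commuting_mem hkk (by
    rw [show k * y * k⁻¹ * y = k * (y * k⁻¹ * y) by simp [mul_assoc], mul_assoc, hyk, ← mul_assoc, hk,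
      mul_assoc])
  have hdl : (-1 : F) ^ l = 1 := by
    have := congrArg (fun m : GL₂ => (m : M₂).det) hl
    simp only [Units.val_pow_eq_pow_val, Matrix.det_pow, h.detx] at this
    rw [← this, show k * y * k⁻¹ * y = (k * y * k⁻¹) * y from rfl, Units.val_mul, Matrix.det_mul,
      Units.val_mul, Units.val_mul, Matrix.det_units_conj, h.dety]
    simp
  obtain ⟨l', rfl⟩ : Even l := by
    rcases Nat.even_or_odd l with he | ho
    · exact he
    · rw [ho.neg_one_pow] at hdl
      exact absurd hdl (fun e => h.two (by linear_combination -e))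
  obtain ⟨i, hi⟩ : ∃ i : ℕ, x ^ i * y * (x ^ i)⁻¹ * y = x ^ (l' + l') := by
    have hxy : ∀ i : ℕ, x ^ i * y * (x ^ i)⁻¹ * y = (-1) ^ i * x ^ (i + i) := fun i => by
      have e : y * (x ^ i)⁻¹ * y = (y * x ^ i * y)⁻¹ := by simp [h.inv_y, mul_assoc]
      rw [mul_assoc (x ^ i) y, mul_assoc (x ^ i), e, h.conj_pow, ← inv_pow,
        show ((-x⁻¹ : GL₂))⁻¹ = (-1) * x from inv_eq_of_mul_eq_one_right (by simp),
        (Commute.neg_one_left x).mul_pow, ← mul_assoc, ((Commute.neg_one_right (x ^ i)).pow_right i).eq,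
        mul_assoc, ← pow_add]
    rcases Nat.even_or_odd l' with he | ho
    · exact ⟨l', by rw [hxy, he.neg_one_pow, one_mul]⟩
    · obtain ⟨m, hm⟩ := h.eight
      refine ⟨l' + 2 * m, ?_⟩
      rw [hxy, (ho.add_even (even_two_mul m)).neg_one_pow,
        show l' + 2 * m + (l' + 2 * m) = (M / 2) + (l' + l') by omega, pow_add, h.half, neg_one_mul,
        neg_one_mul, neg_neg]
  have hc : (x ^ i)⁻¹ * k * y = y * ((x ^ i)⁻¹ * k) := by
    have e := hl.trans hi.symm
    have e' : k * y * k⁻¹ = x ^ i * y * (x ^ i)⁻¹ := mul_right_cancel e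
    rw [mul_assoc, mul_inv_eq_iff_eq_mul.1 e']
    group
  have hcx : (x ^ i)⁻¹ * k * x = x * ((x ^ i)⁻¹ * k) := by
    rw [mul_assoc, hk, ← mul_assoc, ((Commute.refl x).pow_left i).inv_left.eq, mul_assoc]
  obtain ⟨c, hcs⟩ := h.scalar_of_comm (g := (((x ^ i)⁻¹ * k : GL₂) : M₂))
    (by rw [← Units.val_mul, hcx, Units.val_mul]) (by rw [← Units.val_mul, hc, Units.val_mul])
  obtain ⟨u, hu, -⟩ := scalar_eq_units hcs
  refine ⟨u, ε * x ^ i, h.grp.mul_mem hεm ⟨i, Or.inl rfl⟩, ?_⟩
  rw [← mul_assoc, scalar_comm u ε, mul_assoc]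
  congr 1
  rw [scalar_comm, ← hu, mul_inv_cancel_left]

theorem neg_one_mem : (-1 : GL₂) ∈ h.grp := ⟨M / 2, Or.inl h.half.symm⟩

theorem good : Good h.grp := by
  refine ⟨h.neg_one_mem, fun g hg => ?_, fun g hg => ?_⟩
  · have hx2 := hg (x * x) (h.grp.mul_mem h.x_mem h.x_mem) (by simp [h.detx])
    have hxy := hg (x * y) (h.grp.mul_mem h.x_mem h.y_mem) (by simp [h.detx, h.dety])
    simp only [Units.val_mul] at hx2 hxy
    have hgx : g * (x : M₂) = (x : M₂) * g := by
      rw [h.cayley_x, mul_add, add_mul, mul_one, one_mul, mul_smul_comm, smul_mul_assoc,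
        add_left_inj] at hx2
      exact smul_right_injective _ h.trace_ne hx2
    refine h.scalar_of_comm hgx ((x : GL₂).isUnit.mul_right_injective ?_)
    dsimp only
    rw [← mul_assoc, ← hgx, mul_assoc, hxy, mul_assoc]
  · obtain ⟨i, hi⟩ := hg x h.x_mem
    rcases hi with hi | hi
    · exact h.core g (j := i + i) (by
        rw [show g * (x * x) * g⁻¹ = (g * x * g⁻¹) * (g * x * g⁻¹) by group, hi, ← pow_add])
        (hg _ (h.grp.mul_mem h.x_mem h.y_mem))
    · exfalso
      have hord : orderOf (g * x * g⁻¹) = M := by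
        rw [← h.order]
        exact orderOf_injective (MulAut.conj g).toMonoidHom (MulAut.conj g).injective x
      have h4 : (g * x * g⁻¹) ^ 4 = 1 := by
        rw [hi, show 4 = 2 * 2 from rfl, pow_mul, pow_two (x ^ i * y), mul_assoc (x ^ i) y, ← mul_assoc y,
          h.conj_pow, ← (Commute.refl x).inv_right.neg_right.mul_pow, mul_neg, mul_inv_cancel,
          ← pow_mul, pow_mul', neg_one_sq, one_pow]
      have := Nat.le_of_dvd (by norm_num) (hord ▸ orderOf_dvd_of_pow_eq_one h4)
      have := h.two_le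
      omega

theorem card_grp : Nat.card h.grp = 2 * M := by
  have hM : 0 < M := h.order ▸ orderOf_pos x
  have hynm : ∀ i : ℕ, y ≠ x ^ i := fun i e => by
    obtain ⟨j, hj⟩ := h.commuting_mem (g := x ^ 0 * y) ⟨0, Or.inr rfl⟩ (by
      rw [pow_zero, one_mul, e, ← pow_succ, ← pow_succ'])
    have hr := h.rel
    rw [e, ← pow_succ, ← pow_add, show i + 1 + i = (i + i) + 1 by omega, pow_succ, pow_add,
      ← e, h.invol, one_mul] at hr
    refine h.sq_ne_neg_one ?_
    nth_rewrite 2 [hr]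
    simp
  let f : Fin M ⊕ Fin M → h.grp :=
    Sum.elim (fun i => ⟨x ^ (i : ℕ), i, Or.inl rfl⟩) (fun i => ⟨x ^ (i : ℕ) * y, i, Or.inr rfl⟩)
  have hinj : ∀ i j : Fin M, x ^ (i : ℕ) = x ^ (j : ℕ) → i = j := fun i j e =>
    Fin.ext (pow_injOn_Iio_orderOf (by simpa [h.order] using i.2) (by simpa [h.order] using j.2) e)
  have hf : Function.Bijective f := by
    constructor
    · rintro (i | i) (j | j) e <;> have e' := congrArg Subtype.val e <;>
        simp only [f, Sum.elim_inl, Sum.elim_inr] at e'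
      · rw [hinj i j e']
      · exfalso
        refine hynm ((M - (j : ℕ)) + (i : ℕ)) ?_
        rw [pow_add, e', ← mul_assoc, ← pow_add, Nat.sub_add_cancel j.2.le, ← h.order,
          pow_orderOf_eq_one, one_mul]
      · exfalso
        refine hynm ((M - (i : ℕ)) + (j : ℕ)) ?_
        rw [pow_add, ← e', ← mul_assoc, ← pow_add, Nat.sub_add_cancel i.2.le, ← h.order,
          pow_orderOf_eq_one, one_mul]
      · rw [hinj i j (mul_right_cancel e')]
    · rintro ⟨g, i, rfl | rfl⟩
      · exact ⟨Sum.inl ⟨i % M, Nat.mod_lt _ hM⟩, Subtype.ext (h.order ▸ pow_mod_orderOf x i)⟩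
      · exact ⟨Sum.inr ⟨i % M, Nat.mod_lt _ hM⟩, Subtype.ext
          (congrArg (· * y) (h.order ▸ pow_mod_orderOf x i))⟩
  rw [← Nat.card_eq_of_bijective f hf, Nat.card_sum, Nat.card_fin, two_mul]

theorem normSL (h16 : 16 ∣ M) (g : GL₂)
    (hg : ∀ z ∈ h.grp, (z : M₂).det = 1 → g * z * g⁻¹ ∈ h.grp) :
    ∃ c : Fˣ, ∃ a ∈ h.grp, g = GeneralLinearGroup.scalar (Fin 2) c * a := by
  have g2 := hg (x * x) (h.grp.mul_mem h.x_mem h.x_mem) (by simp [h.detx])
  have gy := hg (x * y) (h.grp.mul_mem h.x_mem h.y_mem) (by simp [h.detx, h.dety])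
  obtain ⟨i, hi | hi⟩ := g2
  · exact h.core g hi gy
  exfalso
  obtain ⟨m, hm⟩ := h16
  have hord : orderOf (g * (x * x) * g⁻¹) = M / 2 := by
    rw [show orderOf (g * (x * x) * g⁻¹) = orderOf (x * x) from
      orderOf_injective (MulAut.conj g).toMonoidHom (MulAut.conj g).injective (x * x), ← pow_two,
      orderOf_pow' x two_ne_zero, h.order, Nat.gcd_eq_right (by omega)]
  have h4 : (g * (x * x) * g⁻¹) ^ 4 = 1 := by
    rw [hi, show 4 = 2 * 2 from rfl, pow_mul, pow_two (x ^ i * y), mul_assoc (x ^ i) y, ← mul_assoc y,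
      h.conj_pow, ← (Commute.refl x).inv_right.neg_right.mul_pow, mul_neg, mul_inv_cancel,
      ← pow_mul, pow_mul', neg_one_sq, one_pow]
  have := Nat.le_of_dvd (by norm_num) (hord ▸ orderOf_dvd_of_pow_eq_one h4)
  have := h.two_le
  omega

end SDPair

end SD

end CfsgLib.SymSylow.WreathNorm
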