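import Mathlib
import Cfsg.Agent.SL2.PSL
import Cfsg.Agent.SymSylow.Pronormal
import Cfsg.Agent.SymSylow.WreathBase
import Cfsg.Agent.PronormalExt.Criterion

/-!
Subgroups of odd index in `PSL_2(q)`, `q ≡ ±3 (mod 8)`, are pronormal.
-/

set_option autoImplicit false
set_option linter.unusedSectionVars false

namespace CfsgLib.SymSylow.PSLTwoFour

open CfsgLib.SL2 CfsgLib.PronormalExt
open scoped commutatorElement

variable {F : Type*} [Field F] [Fintype F]

local notation "SLF" => Matrix.SpecialLinearGroup (Fin 2) F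
local notation "G₂" => Matrix.ProjectiveSpecialLinearGroup (Fin 2) F

/-- Lift of an element of odd order. -/
theorem exists_lift (a : G₂) (ha : Odd (orderOf a)) : ∃ g : SLF, pmk g = a ∧ g ^ orderOf a = 1 := by
  obtain ⟨g, rfl⟩ := pmk_surjective a
  have h : pmk (g ^ orderOf (pmk g)) = 1 := by rw [map_pow, pow_orderOf_eq_one]
  rcases pmk_eq_one_iff.1 h with e | e
  · exact ⟨g, rfl, e⟩
  · exact ⟨-g, pmk_neg g, by rw [ha.neg_pow, e, neg_neg]⟩

theorem commute_lift (h2 : (2 : F) ≠ 0) {g x : SLF} {m : ℕ} (hm : Odd m) (hg : g ^ m = 1)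
    (h : Commute (pmk x) (pmk g)) : x * g = g * x := by
  have h' : pmk (x * g * x⁻¹) = pmk g := by rw [map_mul, map_mul, map_inv, h.eq, mul_inv_cancel_right]
  rcases pmk_eq_iff.1 h' with e | e
  · exact mul_inv_eq_iff_eq_mul.1 e
  exfalso
  have h1 : (x * g * x⁻¹) ^ m = 1 := by rw [conj_pow, hg]; simp
  rw [e, hm.neg_pow, hg] at h1
  have h3 := congrArg (fun z : SLF => (z : Matrix (Fin 2) (Fin 2) F) 0 0) h1
  simp at h3
  exact h2 (by linear_combination -h3)

theorem not_scalar {g : SLF} (h1 : g ≠ 1) (h2' : g ≠ -1) :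
    ∀ c : F, (g : Matrix (Fin 2) (Fin 2) F) ≠ c • 1 := by
  intro c hc
  have hd := g.2
  rw [hc, Matrix.det_smul] at hd
  simp only [Fintype.card_fin, Matrix.det_one, mul_one] at hd
  rcases sq_eq_one_iff.1 hd with rfl | rfl
  · exact h1 (Subtype.ext (by rw [hc, one_smul]; rfl))
  · exact h2' (Subtype.ext (by rw [hc, neg_one_smul]; rfl))

theorem commutant {g : SLF} (hne : pmk g ≠ 1) {x : SLF} (hx : x * g = g * x) :
    ∃ a b : F, (x : Matrix (Fin 2) (Fin 2) F) = a • 1 + b • (g : Matrix (Fin 2) (Fin 2) F) :=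
  WreathNorm.exists_poly
    (not_scalar (fun e => hne (pmk_eq_one_iff.2 (Or.inl e))) (fun e => hne (pmk_eq_one_iff.2 (Or.inr e))))
    (congrArg (fun z : SLF => (z : Matrix (Fin 2) (Fin 2) F)) hx)

/-- Centralisers of nontrivial elements of odd order are commutative. -/
theorem commute_of_commute (h2 : (2 : F) ≠ 0) {a x y : G₂} (ha : a ≠ 1) (hodd : Odd (orderOf a))
    (hx : Commute x a) (hy : Commute y a) : Commute x y := by
  obtain ⟨g, rfl, hg⟩ := exists_lift a hodd
  obtain ⟨x, rfl⟩ := pmk_surjective x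
  obtain ⟨y, rfl⟩ := pmk_surjective y
  obtain ⟨a1, b1, e1⟩ := commutant ha (commute_lift h2 hodd hg hx)
  obtain ⟨a2, b2, e2⟩ := commutant ha (commute_lift h2 hodd hg hy)
  have e : x * y = y * x := by
    refine Subtype.ext ?_
    rw [Matrix.SpecialLinearGroup.coe_mul, Matrix.SpecialLinearGroup.coe_mul, e1, e2]
    simp only [add_mul, mul_add, smul_mul_assoc, mul_smul_comm, one_mul, mul_one]
    module
  show pmk x * pmk y = pmk y * pmk x
  rw [← map_mul, e, map_mul]

/-- No nontrivial element of odd order centralises two involutions. -/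
theorem eq_one_of_commute (h2 : (2 : F) ≠ 0) {a v w : G₂} (hodd : Odd (orderOf a)) (hv : orderOf v = 2)
    (hw : orderOf w = 2) (hvw : v ≠ w) (h1 : Commute v a) (h2' : Commute w a) : a = 1 := by
  by_contra ha
  obtain ⟨g, rfl, hg⟩ := exists_lift a hodd
  obtain ⟨x, rfl⟩ := pmk_surjective v
  obtain ⟨y, rfl⟩ := pmk_surjective w
  have tx := (orderOf_pmk_eq_two_iff h2).1 hv
  have ty := (orderOf_pmk_eq_two_iff h2).1 hw
  obtain ⟨a1, b1, e1⟩ := commutant ha (commute_lift h2 hodd hg h1)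
  obtain ⟨a2, b2, e2⟩ := commutant ha (commute_lift h2 hodd hg h2')
  rw [tr_eq_trace, e1, Matrix.trace_add, Matrix.trace_smul, Matrix.trace_smul, Matrix.trace_one] at tx
  rw [tr_eq_trace, e2, Matrix.trace_add, Matrix.trace_smul, Matrix.trace_smul, Matrix.trace_one] at ty
  simp only [Fintype.card_fin, Nat.cast_ofNat, smul_eq_mul] at tx ty
  have hb1 : b1 ≠ 0 := fun h => by
    subst h
    have : a1 = 0 := (mul_eq_zero.1 (show (2 : F) * a1 = 0 by linear_combination tx)).resolve_left h2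
    subst this
    exact x.det_ne_zero (by rw [e1]; simp)
  obtain ⟨c, hc⟩ : ∃ c, c * b1 = b2 := ⟨_, div_mul_cancel₀ _ hb1⟩
  have hca : c * a1 = a2 := mul_left_cancel₀ h2 (by
    linear_combination c * tx - ty - (g : Matrix (Fin 2) (Fin 2) F).trace * hc)
  have hyx : (y : Matrix (Fin 2) (Fin 2) F) = c • (x : Matrix (Fin 2) (Fin 2) F) := by
    rw [e1, e2, smul_add, smul_smul, smul_smul, hc, hca]
  have hd := y.2
  rw [hyx, Matrix.det_smul, x.2] at hd
  simp only [Fintype.card_fin, mul_one] at hd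
  refine hvw (pmk_eq_iff.2 ?_)
  rcases sq_eq_one_iff.1 hd with rfl | rfl
  · exact Or.inl (Subtype.ext (by rw [hyx, one_smul]))
  · exact Or.inr (Subtype.ext (by simp [hyx]))

/-- Elements of order `p` commute with no involution. -/
theorem not_commute_of_orderOf_char (h2 : (2 : F) ≠ 0) {p : ℕ} [Fact p.Prime] [CharP F p] {a v : G₂}
    (ha : orderOf a = p) (hv : orderOf v = 2) : ¬ Commute v a := by
  intro h
  have hp2 : p ≠ 2 := by
    rintro rfl
    exact h2 CharTwo.two_eq_zero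
  have hodd : Odd (orderOf a) := ha ▸ ((Fact.out : p.Prime).odd_of_ne_two hp2)
  have ha1 : a ≠ 1 := fun e => (Fact.out : p.Prime).ne_one (by rw [← ha, e, orderOf_one])
  obtain ⟨g, rfl, hg⟩ := exists_lift a hodd
  obtain ⟨x, rfl⟩ := pmk_surjective v
  rw [ha] at hg
  have tx := (orderOf_pmk_eq_two_iff h2).1 hv
  obtain ⟨a1, b1, e1⟩ := commutant ha1 (commute_lift h2 (ha ▸ hodd) hg h)
  haveI : CharP (Matrix (Fin 2) (Fin 2) F) p := Matrix.charP p
  have hN : ((g : Matrix (Fin 2) (Fin 2) F) - 1) ^ p = 0 := by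
    rw [sub_pow_char_of_commute (p := p) (h := Commute.one_right _), one_pow, ← Matrix.SpecialLinearGroup.coe_pow, hg,
      Matrix.SpecialLinearGroup.coe_one, sub_self]
  set N := (g : Matrix (Fin 2) (Fin 2) F) - 1 with hNdef
  have hnil : IsNilpotent N := ⟨p, hN⟩
  have htr : N.trace = 0 := (Matrix.isNilpotent_trace_of_isNilpotent hnil).eq_zero
  have hdet : N.det = 0 := by
    have := congrArg Matrix.det hN
    rw [Matrix.det_pow, Matrix.det_zero] at this
    exact eq_zero_of_pow_eq_zero this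
  rw [hNdef, Matrix.trace_sub, Matrix.trace_one] at htr
  rw [tr_eq_trace, e1, Matrix.trace_add, Matrix.trace_smul, Matrix.trace_smul, Matrix.trace_one] at tx
  simp only [Fintype.card_fin, Nat.cast_ofNat, smul_eq_mul] at tx htr
  have hab : a1 = -b1 := mul_left_cancel₀ h2 (by linear_combination tx - b1 * htr)
  refine x.det_ne_zero ?_
  rw [e1, hab, show (-b1) • (1 : Matrix (Fin 2) (Fin 2) F) + b1 • (g : Matrix (Fin 2) (Fin 2) F) = b1 • N by
    rw [hNdef, smul_sub, neg_smul]; abel, Matrix.det_smul, hdet, mul_zero]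

variable (hq : Fintype.card F % 8 = 3 ∨ Fintype.card F % 8 = 5)
include hq

theorem two_ne : (2 : F) ≠ 0 := two_ne_zero_iff_odd.2 (Nat.odd_iff.2 (by omega))

theorem card_eq_eight_mul : ∃ m, Odd m ∧ Nat.card SLF = 8 * m := by
  obtain ⟨j, hj⟩ : ∃ j, Fintype.card F = 2 * j + 1 := ⟨Fintype.card F / 2, by omega⟩
  obtain ⟨i, hi⟩ := Nat.even_mul_succ_self j
  refine ⟨(2 * j + 1) * i, ?_, ?_⟩
  · refine Nat.odd_mul.2 ⟨odd_two_mul_add_one j, ?_⟩
    by_contra hcon
    obtain ⟨l, hl⟩ := Nat.not_odd_iff_even.1 hcon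
    have h4 : 4 ∣ j * (j + 1) := ⟨l, by omega⟩
    rcases Nat.even_or_odd j with he | ho
    · have : 2 ^ 2 ∣ j := (Nat.Coprime.pow_left 2 ((Nat.prime_two.coprime_iff_not_dvd).2
        (fun h => by obtain ⟨a, ha⟩ := he; omega))).dvd_of_dvd_mul_right h4
      omega
    · have : 2 ^ 2 ∣ j + 1 := (Nat.Coprime.pow_left 2 ((Nat.prime_two.coprime_iff_not_dvd).2
        (fun h => by obtain ⟨a, ha⟩ := ho; omega))).dvd_of_dvd_mul_left h4
      omega
  · have e : (2 * j + 1) ^ 2 = 4 * (j * (j + 1)) + 1 := by ring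
    rw [card_SL, hj, e, Nat.add_sub_cancel, hi]
    ring

/-- A Sylow 2-subgroup is a four group. -/
theorem sylow_four (S : Sylow 2 G₂) :
    Nat.card S = 4 ∧ ∀ v ∈ (S : Subgroup G₂), v * v = 1 := by
  haveI : Fact (Nat.Prime 2) := ⟨Nat.prime_two⟩
  have h2 := two_ne hq
  obtain ⟨P⟩ : Nonempty (Sylow 2 SLF) := inferInstance
  obtain ⟨m, hm, hcard⟩ := card_eq_eight_mul hq
  have hP : Nat.card (P : Subgroup SLF) = 8 := by
    rw [P.card_eq_multiplicity, hcard, Nat.factorization_mul (by norm_num) (by intro h; simp [h] at hm),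
      Finsupp.add_apply, Nat.factorization_eq_zero_of_not_dvd (n := m)
        (fun h => Nat.not_even_iff_odd.2 hm (even_iff_two_dvd.2 h)), add_zero,
      show (8 : ℕ) = 2 ^ 3 by norm_num, Nat.prime_two.factorization_pow]
    simp
  have hneg : (-1 : SLF) ∈ (P : Subgroup SLF) := by
    obtain ⟨z, hz⟩ := exists_prime_orderOf_dvd_card' 2 (show 2 ∣ Nat.card (P : Subgroup SLF) by rw [hP]; norm_num)
    have hz2 : (z : SLF) * z = 1 := by
      have := pow_orderOf_eq_one z
      rw [hz, pow_two] at this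
      exact congrArg Subtype.val this
    have hz1 : (z : SLF) ≠ 1 := fun e => by
      rw [← Subgroup.orderOf_coe, e, orderOf_one] at hz; omega
    rw [← eq_neg_one_of_mul_self h2 hz1 hz2]
    exact z.2
  have key : ∀ v ∈ ((P : Subgroup SLF).map pmk), v * v = 1 := by
    rintro _ ⟨x, hx, rfl⟩
    have h8 : x ^ 8 = 1 := by
      have := pow_card_eq_one' (x := (⟨x, hx⟩ : (P : Subgroup SLF)))
      rw [hP] at this
      exact congrArg Subtype.val this
    have h4 : x ^ 4 = 1 := by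
      by_contra h4
      have ho : orderOf x = 8 := orderOf_eq_prime_pow (p := 2) (n := 2) h4 h8
      refine sylow_two_not_isCyclic h2 P (isCyclic_of_orderOf_eq_card ⟨x, hx⟩ ?_)
      rw [← Subgroup.orderOf_coe, hP]; exact ho
    rw [← map_mul]
    refine pmk_eq_one_iff.2 ?_
    by_cases h1 : x * x = 1
    · exact Or.inl h1
    · exact Or.inr (eq_neg_one_of_mul_self h2 h1 (by rw [← h4]; simp [pow_succ, mul_assoc]))
  obtain ⟨c, hc⟩ := MulAction.exists_smul_eq G₂ (P.mapSurjective pmk_surjective) S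
  subst hc
  constructor
  · show Nat.card ↥(((P : Subgroup SLF).map pmk).map (MulAut.conj c).toMonoidHom) = 4
    rw [Subgroup.card_map_of_injective (MulAut.conj c).injective]
    have := card_map_pmk h2 _ hneg
    omega
  · rintro _ ⟨v, hv, rfl⟩
    show MulAut.conj c v * MulAut.conj c v = 1
    rw [← map_mul, key v hv, map_one]

omit hq in
/-- The four group in detail. -/
theorem four_elems {G : Type*} [Group G] (S : Subgroup G) (hc : Nat.card S = 4) {v w : G} (hv : v ∈ S) (hw : w ∈ S)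
    (hv1 : v ≠ 1) (hw1 : w ≠ 1) (hvw : v ≠ w) (hinv : v * v = 1) :
    ∀ s ∈ S, s = 1 ∨ s = v ∨ s = w ∨ s = v * w := by
  classical
  haveI : Finite S := Nat.finite_of_card_ne_zero (by omega)
  haveI := Fintype.ofFinite S
  intro s hs
  have hsub : ({1, ⟨v, hv⟩, ⟨w, hw⟩, ⟨v * w, S.mul_mem hv hw⟩} : Finset S) = Finset.univ := by
    refine Finset.eq_univ_of_card _ ?_
    rw [← Nat.card_eq_fintype_card, hc]
    have n1 : v * w ≠ 1 := fun e => hvw (mul_left_cancel (a := v) (by rw [hinv, e])).symm.symm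
    rw [Finset.card_insert_of_notMem, Finset.card_insert_of_notMem, Finset.card_insert_of_notMem,
      Finset.card_singleton]
    · simp [Subtype.ext_iff, hv1]
    · simp [Subtype.ext_iff, hvw, hw1]
    · simp [Subtype.ext_iff, hv1.symm, hw1.symm, n1.symm]
  have := Finset.mem_univ (⟨s, hs⟩ : S)
  rw [← hsub] at this
  simpa [Subtype.ext_iff] using this

omit hq in
/-- Two generators of a four group. -/
theorem exists_two {G : Type*} [Group G] (S : Subgroup G) (hc : Nat.card S = 4)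
    (hexp : ∀ v ∈ S, v * v = 1) : ∃ v w, v ∈ S ∧ w ∈ S ∧ v ≠ 1 ∧ w ≠ 1 ∧ v ≠ w := by
  haveI : Finite S := Nat.finite_of_card_ne_zero (by omega)
  obtain ⟨⟨v, hv⟩, hv1'⟩ := (Subgroup.ne_bot_iff_exists_ne_one (H := S)).1
    (fun h => by rw [h] at hc; simp at hc)
  have hv1 : v ≠ 1 := fun e => hv1' (Subtype.ext e)
  by_contra hcon
  push Not at hcon
  have hsub : S ≤ Subgroup.zpowers v := fun s hs => by
    by_cases h1 : s = 1
    · exact h1 ▸ one_mem _
    · exact hcon v s hv hs hv1 h1 ▸ Subgroup.mem_zpowers v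
  have h2 : orderOf v ∣ 2 := orderOf_dvd_of_pow_eq_one ((pow_two v).trans (hexp v hv))
  have hle : Nat.card S ≤ Nat.card (Subgroup.zpowers v) := by
    haveI : Finite (Subgroup.zpowers v) := Nat.finite_of_card_ne_zero (by
      rw [Nat.card_zpowers]; exact Nat.pos_iff_ne_zero.1 (Nat.pos_of_dvd_of_pos h2 two_pos))
    exact Subgroup.card_le_of_le hsub
  rw [hc, Nat.card_zpowers] at hle
  have := Nat.le_of_dvd two_pos h2
  omega

theorem mem_of_centralizes (S : Sylow 2 G₂) {c : G₂} (hc : ∀ s ∈ (S : Subgroup G₂), Commute s c) :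
    c ∈ (S : Subgroup G₂) := by
  haveI : Fact (Nat.Prime 2) := ⟨Nat.prime_two⟩
  obtain ⟨hS, hexp⟩ := sylow_four hq S
  obtain ⟨v, w, hv, hw, hv1, hw1, hvw⟩ := exists_two (S : Subgroup G₂) hS hexp
  have ord : ∀ u ∈ (S : Subgroup G₂), u ≠ 1 → orderOf u = 2 := fun u hu hu1 =>
    orderOf_eq_prime ((pow_two u).trans (hexp u hu)) hu1
  have h4 : c ^ 4 = 1 := by
    refine eq_one_of_commute (two_ne hq) ?_ (ord v hv hv1) (ord w hw hw1) hvw ((hc v hv).pow_right 4)
      ((hc w hw).pow_right 4)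
    rw [← Nat.not_even_iff_odd, even_iff_two_dvd]
    intro h
    have h4 : 2 ^ 3 ∣ orderOf c := by
      rw [orderOf_pow' c (by norm_num : (4 : ℕ) ≠ 0)] at h
      have hg := Nat.gcd_dvd_right (orderOf c) 4
      obtain ⟨i, hi, hgi⟩ := (Nat.dvd_prime_pow Nat.prime_two (m := 2)).1 hg
      obtain ⟨k, hk⟩ := h
      have hdiv := Nat.div_mul_cancel (Nat.gcd_dvd_left (orderOf c) 4)
      rw [hk, hgi] at hdiv
      have hi2 : i = 2 := by
        by_contra hne
        have : 2 ^ (i + 1) ∣ Nat.gcd (orderOf c) 4 := Nat.dvd_gcd ⟨k, by rw [← hdiv]; ring⟩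
          (pow_dvd_pow 2 (show i + 1 ≤ 2 by omega))
        rw [hgi] at this
        have := Nat.pow_dvd_pow_iff_le_right (x := 2) (by norm_num) |>.1 this
        omega
      subst hi2
      exact ⟨k, by rw [← hdiv]; ring⟩
    have h8 := h4.trans (orderOf_dvd_natCard c)
    have := S.card_eq_multiplicity
    have h3 := (Nat.prime_two.pow_dvd_iff_le_factorization Nat.card_pos.ne').1 h8
    rw [show Nat.card (S : Subgroup G₂) = Nat.card S from rfl] at this
    rw [hS, show (4 : ℕ) = 2 ^ 2 by norm_num] at this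
    have := Nat.pow_right_injective (le_refl 2) this
    omega
  have hz : IsPGroup 2 (Subgroup.zpowers c) := by
    obtain ⟨m, -, hm⟩ := (Nat.dvd_prime_pow Nat.prime_two (m := 2)).1 (orderOf_dvd_of_pow_eq_one h4)
    exact IsPGroup.of_card (by rw [Nat.card_zpowers, hm])
  have hn : c ∈ Subgroup.normalizer ((S : Subgroup G₂) : Set G₂) :=
    Subgroup.centralizer_le_normalizer _ (Subgroup.mem_centralizer_iff.2 fun s hs => (hc s hs).eq)
  exact ((IsPGroup.inf_normalizer_sylow hz S).le ⟨Subgroup.mem_zpowers c, hn⟩).2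

theorem mem_of_fix (S : Sylow 2 G₂) {n v : G₂}
    (hn : n ∈ Subgroup.normalizer ((S : Subgroup G₂) : Set G₂)) (hv : v ∈ (S : Subgroup G₂)) (hv1 : v ≠ 1)
    (hfix : n * v * n⁻¹ = v) : n ∈ (S : Subgroup G₂) := by
  haveI : Fact (Nat.Prime 2) := ⟨Nat.prime_two⟩
  obtain ⟨hS, hexp⟩ := sylow_four hq S
  have hn2 : n * n ∈ (S : Subgroup G₂) := by
    refine mem_of_centralizes hq S fun s hs => ?_
    show s * (n * n) = n * n * s
    suffices h : n * (n * s * n⁻¹) * n⁻¹ = s by
      refine (mul_inv_eq_iff_eq_mul.1 (?_ : n * n * s * (n * n)⁻¹ = s)).symm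
      rwa [show n * n * s * (n * n)⁻¹ = n * (n * s * n⁻¹) * n⁻¹ by group]
    by_cases hs1 : s = 1
    · simp [hs1]
    by_cases hsv : s = v
    · subst hsv; rw [hfix, hfix]
    have hs' := (Subgroup.mem_normalizer_iff.1 hn s).1 hs
    have h4 := four_elems (S : Subgroup G₂) hS hv hs hv1 hs1 (Ne.symm hsv) (hexp v hv)
    rcases h4 _ hs' with e | e | e | e
    · rw [mul_inv_eq_one] at e
      exact absurd (mul_left_cancel (e.trans (mul_one n).symm)) hs1
    · exact absurd (mul_left_cancel (mul_right_cancel (e.trans hfix.symm))) hsv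
    · rw [e, e]
    · rw [e, show n * (v * s) * n⁻¹ = (n * v * n⁻¹) * (n * s * n⁻¹) by group, hfix, e, ← mul_assoc,
        hexp v hv, one_mul]
  have h4 : n ^ 4 = 1 := by
    rw [show 4 = 2 * 2 from rfl, pow_mul, pow_two n, pow_two, hexp _ hn2]
  have hz : IsPGroup 2 (Subgroup.zpowers n) := by
    obtain ⟨m, -, hm⟩ := (Nat.dvd_prime_pow Nat.prime_two (m := 2)).1 (orderOf_dvd_of_pow_eq_one h4)
    exact IsPGroup.of_card (by rw [Nat.card_zpowers, hm])
  exact ((IsPGroup.inf_normalizer_sylow hz S).le ⟨Subgroup.mem_zpowers n, hn⟩).2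

omit hq in
/-- Some involution of a four group normalizing a nontrivial subgroup of odd order has a fixed point. -/
theorem exists_fixed {G : Type*} [Group G] [Finite G] (A : Subgroup G) (hA : A ≠ ⊥) (hodd : Odd (Nat.card A))
    {v w : G} (hv : v * v = 1) (hw : w * w = 1) (hvw : Commute v w)
    (hvA : ∀ a ∈ A, v * a * v⁻¹ ∈ A) (hwA : ∀ a ∈ A, w * a * w⁻¹ ∈ A) :
    ∃ u, (u = v ∨ u = w ∨ u = v * w) ∧ ∃ a ∈ A, a ≠ 1 ∧ Commute u a := by
  by_contra hcon
  push Not at hcon
  have inv : ∀ u, u * u = 1 → (∀ a ∈ A, u * a * u⁻¹ ∈ A) → (∀ a ∈ A, a ≠ 1 → ¬ Commute u a) →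
      ∀ a ∈ A, u * a * u⁻¹ = a⁻¹ := by
    intro u hu huA hfp a ha
    let φ : A →* A :=
      { toFun := fun x => ⟨u * x * u⁻¹, huA x x.2⟩
        map_one' := Subtype.ext (by simp)
        map_mul' := fun x y => Subtype.ext (show u * (x * y : G) * u⁻¹ = (u * x * u⁻¹) * (u * y * u⁻¹) by group) }
    have hfix : MonoidHom.FixedPointFree φ := by
      intro x hx
      by_contra hx1
      exact hfp x x.2 (fun e => hx1 (Subtype.ext e))
        (mul_inv_eq_iff_eq_mul.1 (congrArg Subtype.val hx))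
    have hinv : Function.Involutive φ := fun x => Subtype.ext (by
      show u * (u * (x : G) * u⁻¹) * u⁻¹ = x
      rw [show u * (u * (x : G) * u⁻¹) * u⁻¹ = (u * u) * x * (u * u)⁻¹ by group, hu]; simp)
    exact congrArg Subtype.val (congrFun (hfix.coe_eq_inv_of_involutive hinv) ⟨a, ha⟩)
  obtain ⟨⟨a, ha⟩, ha1'⟩ := (Subgroup.ne_bot_iff_exists_ne_one (H := A)).1 hA
  have ha1 : a ≠ 1 := fun e => ha1' (Subtype.ext e)
  have h1 := inv v hv hvA (fun b hb hb1 => hcon v (Or.inl rfl) b hb hb1)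
  have h2 := inv w hw hwA (fun b hb hb1 => hcon w (Or.inr (Or.inl rfl)) b hb hb1)
  refine hcon (v * w) (Or.inr (Or.inr rfl)) a ha ha1 ?_
  show v * w * a = a * (v * w)
  have e1 : w * a = a⁻¹ * w := mul_inv_eq_iff_eq_mul.1 (h2 a ha)
  have e2 : v * a⁻¹ = a * v := by
    have := mul_inv_eq_iff_eq_mul.1 (h1 a⁻¹ (A.inv_mem ha))
    rwa [inv_inv] at this
  rw [mul_assoc, e1, ← mul_assoc, e2, mul_assoc]

set_option maxHeartbeats 1000000 in
/-- A subgroup of odd order normalized by the four group centralises an involution. -/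
theorem le_centralizer (J : Subgroup G₂) (K : Subgroup G₂) (hKJ : K ≤ J) (hK : Odd (Nat.card K))
    (hnorm : ∀ j ∈ J, ∀ k ∈ K, j * k * j⁻¹ ∈ K) (S : Sylow 2 G₂) (hSJ : (S : Subgroup G₂) ≤ J) :
    ∃ v ∈ (S : Subgroup G₂), v ≠ 1 ∧ ∀ k ∈ K, Commute v k := by
  haveI : Fact (Nat.Prime 2) := ⟨Nat.prime_two⟩
  have h2 := two_ne hq
  obtain ⟨p, hp⟩ := CharP.exists F
  haveI : Fact p.Prime := ⟨CharP.char_is_prime F p⟩
  obtain ⟨hS, hexp⟩ := sylow_four hq S
  have oddK : ∀ k ∈ K, Odd (orderOf k) := fun k hk => by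
    refine hK.of_dvd_nat ?_
    have := orderOf_dvd_natCard (⟨k, hk⟩ : K)
    rwa [Subgroup.orderOf_mk] at this
  obtain ⟨v, w, hv, hw, hv1, hw1, hvw⟩ := exists_two (S : Subgroup G₂) hS hexp
  have hcomm : Commute v w := by
    have h1 := hexp _ ((S : Subgroup G₂).mul_mem hv hw)
    show v * w = w * v
    calc v * w = (v * w)⁻¹ := eq_inv_of_mul_eq_one_left h1
      _ = w⁻¹ * v⁻¹ := _root_.mul_inv_rev v w
      _ = w * v := by rw [inv_eq_of_mul_eq_one_right (hexp w hw), inv_eq_of_mul_eq_one_right (hexp v hv)]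
  have fixed : ∀ (A : Subgroup G₂) (c : G₂), A ≠ ⊥ → Odd (Nat.card A) →
      (∀ s ∈ (S : Subgroup G₂), ∀ a ∈ A, (c * s * c⁻¹) * a * (c * s * c⁻¹)⁻¹ ∈ A) →
        ∃ u ∈ (S : Subgroup G₂), u ≠ 1 ∧ ∃ a ∈ A, a ≠ 1 ∧ Commute (c * u * c⁻¹) a := by
    intro A c hA hoddA hnA
    obtain ⟨u, hu, hfix⟩ := exists_fixed A hA hoddA (v := c * v * c⁻¹) (w := c * w * c⁻¹)
      (by rw [show c * v * c⁻¹ * (c * v * c⁻¹) = c * (v * v) * c⁻¹ by group, hexp v hv]; simp)
      (by rw [show c * w * c⁻¹ * (c * w * c⁻¹) = c * (w * w) * c⁻¹ by group, hexp w hw]; simp)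
      (by show _ = _; rw [show c * v * c⁻¹ * (c * w * c⁻¹) = c * (v * w) * c⁻¹ by group, hcomm.eq]; group)
      (hnA v hv) (hnA w hw)
    rcases hu with rfl | rfl | rfl
    · exact ⟨v, hv, hv1, hfix⟩
    · exact ⟨w, hw, hw1, hfix⟩
    · refine ⟨v * w, mul_mem hv hw, fun e => hvw ?_, ?_⟩
      · exact (mul_left_cancel (a := v) (by rw [hexp v hv, e])).symm.symm
      · rwa [show c * (v * w) * c⁻¹ = c * v * c⁻¹ * (c * w * c⁻¹) by group]
  by_cases hKbot : K = ⊥
  · exact ⟨v, hv, hv1, fun k hk => by rw [hKbot, Subgroup.mem_bot] at hk; subst hk; exact Commute.one_right v⟩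
  -- the prime `p` does not divide the order
  have hp' : ¬ p ∣ Nat.card K := by
    intro hdvd
    have hp2 : p ≠ 2 := fun e => Nat.not_even_iff_odd.2 hK (even_iff_two_dvd.2 (e ▸ hdvd))
    let K' : Subgroup J := K.subgroupOf J
    haveI : K'.Normal := ⟨fun k hk j => hnorm j j.2 k hk⟩
    obtain ⟨P⟩ : Nonempty (Sylow p K') := inferInstance
    have hfr := Sylow.normalizer_sup_eq_top P
    set N := Subgroup.normalizer (((P : Subgroup K').map K'.subtype : Subgroup J) : Set J) with hN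
    -- a Sylow 2-subgroup inside the normalizer
    obtain ⟨T⟩ : Nonempty (Sylow 2 N) := inferInstance
    have hcardT : 4 ∣ Nat.card T := by
      have h4J : 4 ∣ Nat.card J := hS ▸ (Subgroup.card_dvd_of_le hSJ)
      have h4N : 4 ∣ Nat.card N := by
        have hK'odd : Odd (Nat.card K') := by
          rwa [Nat.card_congr (Subgroup.subgroupOfEquivOfLe hKJ).toEquiv]
        have hprod : Nat.card J * Nat.card ↥(N ⊓ K') = Nat.card N * Nat.card K' := by
          have h1 := Subgroup.relIndex_sup_right (H := N) (K := K')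
          rw [hfr, Subgroup.relIndex_top_right] at h1
          rw [← Subgroup.card_mul_index K', h1]
          have h3 : K'.relIndex N * Nat.card ↥(N ⊓ K') = Nat.card N := by
            rw [inf_comm, ← Nat.card_congr (Subgroup.subgroupOfEquivOfLe (inf_le_right : K' ⊓ N ≤ N)).toEquiv,
              Subgroup.inf_subgroupOf_right, mul_comm]
            exact Subgroup.card_mul_index _
          rw [← h3]
          ring
        have hcop : Nat.Coprime 4 (Nat.card K') := by
          rw [show (4 : ℕ) = 2 ^ 2 by norm_num]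
          exact Nat.Coprime.pow_left 2 (Nat.prime_two.coprime_iff_not_dvd.2
            (fun h => Nat.not_even_iff_odd.2 hK'odd (even_iff_two_dvd.2 h)))
        exact hcop.dvd_of_dvd_mul_right (hprod ▸ h4J.mul_right _)
      exact T.pow_dvd_card_of_pow_dvd_card (n := 2) (by simpa using h4N)
    obtain ⟨T', hT'⟩ := ((T.isPGroup'.map N.subtype).map J.subtype).exists_le_sylow
    obtain ⟨c, rfl⟩ := MulAction.exists_smul_eq G₂ S T'
    set A : Subgroup G₂ := ((P : Subgroup K').map K'.subtype).map J.subtype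
    have hcA : Nat.card A = Nat.card (P : Subgroup K') := by
      rw [Subgroup.card_map_of_injective J.subtype_injective, Subgroup.card_map_of_injective K'.subtype_injective]
    have hPne : (P : Subgroup K') ≠ ⊥ := P.ne_bot_of_dvd_card (by
      rwa [Nat.card_congr (Subgroup.subgroupOfEquivOfLe hKJ).toEquiv])
    have hAne : A ≠ ⊥ := fun e => hPne (by
      refine Subgroup.card_eq_one.1 ?_
      rw [← hcA, e]; simp)
    have hAodd : Odd (Nat.card A) := by
      obtain ⟨k, hk⟩ := IsPGroup.iff_card.1 P.isPGroup'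
      rw [hcA, hk]
      exact ((Fact.out : p.Prime).odd_of_ne_two hp2).pow
    have hTall : ∀ s ∈ (S : Subgroup G₂), ∃ t : N, c * s * c⁻¹ = ((t : J) : G₂) := by
      intro s hs
      have heq : ((T : Subgroup N).map N.subtype).map J.subtype = ((c • S : Sylow 2 G₂) : Subgroup G₂) := by
        refine Subgroup.eq_of_le_of_card_ge hT' ?_
        rw [Subgroup.card_map_of_injective J.subtype_injective, Subgroup.card_map_of_injective N.subtype_injective,
          (sylow_four hq (c • S)).1]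
        exact Nat.le_of_dvd Nat.card_pos hcardT
      have : c * s * c⁻¹ ∈ ((c • S : Sylow 2 G₂) : Subgroup G₂) := ⟨s, hs, rfl⟩
      rw [← heq] at this
      obtain ⟨_, ⟨t, -, rfl⟩, ht⟩ := this
      exact ⟨t, ht.symm⟩
    obtain ⟨u, hu, hu1, a, ha, ha1, hua⟩ := fixed A c hAne hAodd (fun s hs a ha => by
      obtain ⟨t, ht⟩ := hTall s hs
      obtain ⟨b, hb, rfl⟩ := ha
      rw [ht]
      exact ⟨(t : J) * b * (t : J)⁻¹, (Subgroup.mem_normalizer_iff.1 t.2 b).1 hb, rfl⟩)
    obtain ⟨b, hb, rfl⟩ := ha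
    obtain ⟨k, hk⟩ := IsPGroup.iff_orderOf.1 (P.isPGroup'.map K'.subtype) ⟨b, hb⟩
    rw [← Subgroup.orderOf_coe] at hk
    have hord : orderOf (J.subtype b) = p ^ k := by
      rw [orderOf_injective J.subtype J.subtype_injective]; exact hk
    obtain ⟨j, rfl⟩ : ∃ j, k = j + 1 := by
      rcases k with _ | j
      · exact absurd (orderOf_eq_one_iff.1 (by simpa using hord)) ha1
      · exact ⟨j, rfl⟩
    have hp0 := (Fact.out : p.Prime).pos
    have ho : orderOf (J.subtype b ^ (p ^ j)) = p := by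
      rw [orderOf_pow_of_dvd (pow_ne_zero _ hp0.ne') (by rw [hord]; exact pow_dvd_pow p (Nat.le_succ j)), hord,
        pow_succ, Nat.mul_div_cancel_left _ (pow_pos hp0 j)]
    refine not_commute_of_orderOf_char h2 ho ?_ (hua.pow_right _)
    rw [show c * u * c⁻¹ = MulAut.conj c u from rfl, MulEquiv.orderOf_eq]
    exact orderOf_eq_prime ((pow_two u).trans (hexp u hu)) hu1
  -- all Sylow subgroups are cyclic
  haveI hZ : IsZGroup K := by
    refine ⟨fun r hr R => ?_⟩
    haveI := Fact.mk hr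
    by_cases hdvd : r ∣ Nat.card K
    swap
    · have : Subsingleton R := by
        refine Finite.card_le_one_iff_subsingleton.1 (le_of_eq ?_)
        rw [R.card_eq_multiplicity, Nat.factorization_eq_zero_of_not_dvd hdvd, pow_zero]
      exact isCyclic_of_subsingleton
    have hr2 : r ≠ 2 := fun e => Nat.not_even_iff_odd.2 hK (even_iff_two_dvd.2 (e ▸ hdvd))
    have hrp : r ≠ p := fun e => hp' (e ▸ hdvd)
    obtain ⟨R₀⟩ : Nonempty (Sylow r SLF) := inferInstance
    obtain ⟨R', hR'⟩ := (R.isPGroup'.map K.subtype).exists_le_sylow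
    obtain ⟨c, rfl⟩ := MulAction.exists_smul_eq G₂ (R₀.mapSurjective pmk_surjective) R'
    haveI := isCyclic_sylow_odd (p := p) hr2 hrp R₀
    haveI : IsCyclic ((R₀ : Subgroup SLF).map (pmk (F := F))) :=
      isCyclic_of_surjective _ ((pmk (F := F)).subgroupMap_surjective (R₀ : Subgroup SLF))
    haveI hcyc : IsCyclic (((R₀ : Subgroup SLF).map (pmk (F := F))).map (MulAut.conj c).toMonoidHom) :=
      isCyclic_of_surjective _ (MonoidHom.subgroupMap_surjective _ _)
    haveI : IsCyclic ↥((c • R₀.mapSurjective pmk_surjective : Sylow r G₂) : Subgroup G₂) := hcyc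
    haveI : IsCyclic ((R : Subgroup K).map K.subtype) :=
      isCyclic_of_injective (Subgroup.inclusion hR') (Subgroup.inclusion_injective hR')
    exact isCyclic_of_injective (K.subtype.subgroupMap (R : Subgroup K))
      (fun x y e => by
        have e' := congrArg Subtype.val e
        exact Subtype.ext (K.subtype_injective e'))
  -- an abelian normal subgroup
  obtain ⟨A, hAK, hAne, hAab, hAn⟩ : ∃ A : Subgroup G₂, A ≤ K ∧ A ≠ ⊥ ∧ (∀ a ∈ A, ∀ b ∈ A, Commute a b) ∧
      ∀ j ∈ J, ∀ a ∈ A, j * a * j⁻¹ ∈ A := by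
    have hnK : ∀ j ∈ J, K.map (MulAut.conj j).toMonoidHom = K := fun j hj => by
      refine le_antisymm (by rintro _ ⟨k, hk, rfl⟩; exact hnorm j hj k hk) fun k hk => ?_
      exact ⟨j⁻¹ * k * j, by simpa using hnorm j⁻¹ (J.inv_mem hj) k hk, by simp [mul_assoc]⟩
    by_cases hC : (commutator K).map K.subtype = ⊥
    · refine ⟨K, le_rfl, hKbot, fun a ha b hb => ?_, hnorm⟩
      have h1 := Subgroup.map_eq_bot_iff_of_injective _ K.subtype_injective |>.1 hC
      have h3 : ⁅(⟨a, ha⟩ : K), (⟨b, hb⟩ : K)⁆ = (1 : K) := by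
        rw [← Subgroup.mem_bot, ← h1, commutator_def]
        exact Subgroup.commutator_mem_commutator (Subgroup.mem_top _) (Subgroup.mem_top _)
      exact congrArg Subtype.val (commutatorElement_eq_one_iff_mul_comm.1 h3)
    · haveI := IsZGroup.isCyclic_commutator (G := K)
      refine ⟨(commutator K).map K.subtype, by rintro _ ⟨x, -, rfl⟩; exact x.2, hC, ?_, ?_⟩
      · rintro _ ⟨a, ha, rfl⟩ _ ⟨b, hb, rfl⟩
        obtain ⟨z, hz⟩ := IsCyclic.exists_generator (α := commutator K)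
        obtain ⟨i, hi⟩ := hz ⟨a, ha⟩
        obtain ⟨l, hl⟩ := hz ⟨b, hb⟩
        have hc : Commute (⟨a, ha⟩ : commutator K) ⟨b, hb⟩ := hi ▸ hl ▸ (Commute.refl z).zpow_zpow i l
        exact (hc.map (commutator K).subtype).map K.subtype
      · intro j hj a ha
        have e : ((commutator K).map K.subtype).map (MulAut.conj j).toMonoidHom = (commutator K).map K.subtype := by
          rw [Subgroup.map_subtype_commutator, Subgroup.map_commutator, hnK j hj]
        rw [← e]
        exact ⟨a, ha, rfl⟩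
  obtain ⟨u, hu, hu1, a, ha, ha1, hua⟩ := fixed A 1 hAne (hK.of_dvd_nat (Subgroup.card_dvd_of_le hAK))
    (fun s hs b hb => by simpa using hAn s (hSJ hs) b hb)
  simp only [one_mul, inv_one, mul_one] at hua
  refine ⟨u, hu, hu1, fun k hk => ?_⟩
  have hoa := oddK a (hAK ha)
  have huA : ∀ b ∈ A, Commute u b := fun b hb =>
    commute_of_commute h2 ha1 hoa hua (hAab b hb a ha)
  set c := u * k * u⁻¹ * k⁻¹ with hc
  have hcK : c ∈ K := K.mul_mem (hnorm u (hSJ hu) k hk) (K.inv_mem hk)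
  have hca : Commute c a := by
    have hka : k⁻¹ * a * k ∈ A := by
      simpa using hAn k⁻¹ (J.inv_mem (hKJ hk)) a ha
    have e1 : u⁻¹ * a * u = a := by rw [mul_assoc, ← hua.eq, inv_mul_cancel_left]
    have e2 : u * (k⁻¹ * a * k) * u⁻¹ = k⁻¹ * a * k := by rw [(huA _ hka).eq, mul_inv_cancel_right]
    have e3 : c * a * c⁻¹ = u * k * (u⁻¹ * (k⁻¹ * a * k) * u) * k⁻¹ * u⁻¹ := by rw [hc]; group
    have e4 : u⁻¹ * (k⁻¹ * a * k) * u = k⁻¹ * a * k := by
      rw [mul_assoc, ← (huA _ hka).eq, inv_mul_cancel_left]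
    rw [e4, show u * k * (k⁻¹ * a * k) * k⁻¹ * u⁻¹ = u * a * u⁻¹ by group, hua.eq, mul_inv_cancel_right] at e3
    exact mul_inv_eq_iff_eq_mul.1 e3
  have huc : Commute u c := commute_of_commute h2 ha1 hoa hua hca
  have huu : u⁻¹ = u := inv_eq_of_mul_eq_one_right (hexp u hu)
  have hcc : c * c = 1 := by
    have e1 : c⁻¹ = u * c * u := by
      rw [hc, huu]
      simp only [_root_.mul_inv_rev, huu, inv_inv, mul_assoc]
      rw [← mul_assoc u u, hexp u hu, one_mul]
    rw [huc.eq, mul_assoc, hexp u hu, mul_one] at e1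
    nth_rewrite 1 [← e1]
    exact inv_mul_cancel c
  have hc1 : c = 1 := by
    have hd : orderOf c ∣ 2 := orderOf_dvd_of_pow_eq_one ((pow_two c).trans hcc)
    rcases (Nat.dvd_prime Nat.prime_two).1 hd with h | h
    · exact orderOf_eq_one_iff.1 h
    · exact absurd (h ▸ oddK c hcK) (by decide)
  show u * k = k * u
  rw [hc, mul_inv_eq_one, mul_inv_eq_iff_eq_mul] at hc1
  exact hc1

set_option maxHeartbeats 1000000 in
/-- Subgroups of odd index of `PSL_2(q)`, `q ≡ ±3 (mod 8)`, are pronormal. -/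
theorem pronormal (H : Subgroup G₂) (hH : Odd H.index) : Cfsg.IsPronormal H := by
  haveI : Fact (Nat.Prime 2) := ⟨Nat.prime_two⟩
  obtain ⟨S, hSH⟩ := exists_sylow_le_of_odd_index H hH
  obtain ⟨hS, hexp⟩ := sylow_four hq S
  rw [isPronormal_iff]
  intro g
  set J := H ⊔ cj g H with hJ
  have hSJ : (S : Subgroup G₂) ≤ J := hSH.trans le_sup_left
  have hgSJ : ((g • S : Sylow 2 G₂) : Subgroup G₂) ≤ J :=
    le_trans (cj_mono hSH) le_sup_right
  obtain ⟨j, hj⟩ := MulAction.exists_smul_eq J ((g • S : Sylow 2 G₂).subtype hgSJ) (S.subtype hSJ)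
  have hn : (j : G₂) * g ∈ Subgroup.normalizer ((S : Subgroup G₂) : Set G₂) := by
    simp_rw [Sylow.smul_subtype, Subgroup.smul_def, smul_smul] at hj
    exact Sylow.smul_eq_iff_mem_normalizer.mp (Sylow.subtype_injective hj)
  set n := (j : G₂) * g with hndef
  have hnH : cj n H ≤ J := by
    rw [hndef, ← cj_cj]
    calc cj (j : G₂) (cj g H) ≤ cj (j : G₂) J := cj_mono le_sup_right
      _ = J := cj_of_mem j.2
  suffices hkey : ∃ x ∈ J, cj n H = cj x H by
    obtain ⟨x, hx, he⟩ := hkey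
    refine ⟨(j : G₂)⁻¹ * x, J.mul_mem (J.inv_mem j.2) hx, ?_⟩
    rw [← cj_cj, ← he, cj_cj, hndef, inv_mul_cancel_left]
  by_cases hnS : n ∈ (S : Subgroup G₂)
  · exact ⟨1, J.one_mem, by rw [cj_one, cj_of_mem (hSH hnS)]⟩
  obtain ⟨⟨v₀, hv₀⟩, hv₀1'⟩ := (Subgroup.ne_bot_iff_exists_ne_one (H := (S : Subgroup G₂))).1
    (fun h => by rw [h] at hS; simp at hS)
  have hv₀1 : v₀ ≠ 1 := fun e => hv₀1' (Subtype.ext e)
  have hmove : ∀ y ∈ Subgroup.normalizer ((S : Subgroup G₂) : Set G₂), y ∉ (S : Subgroup G₂) →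
      ∀ v ∈ (S : Subgroup G₂), v ≠ 1 → y * v * y⁻¹ ≠ v := fun y hy hyS v hv hv1 e =>
    hyS (mem_of_fix hq S hy hv hv1 e)
  have hne1 : ∀ {y v : G₂}, v ≠ 1 → y * v * y⁻¹ ≠ 1 := fun {y v} hv e => hv (by
    rw [mul_inv_eq_one] at e; exact mul_left_cancel (e.trans (mul_one y).symm))
  by_cases hy : ∃ y ∈ J, y ∈ Subgroup.normalizer ((S : Subgroup G₂) : Set G₂) ∧ y ∉ (S : Subgroup G₂)
  · obtain ⟨y, hyJ, hyN, hyS⟩ := hy
    refine ⟨n, ?_, rfl⟩
    set v₁ := y * v₀ * y⁻¹ with hv₁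
    have hv₁S := (Subgroup.mem_normalizer_iff.1 hyN v₀).1 hv₀
    have h01 : v₀ ≠ v₁ := fun e => hmove y hyN hyS v₀ hv₀ hv₀1 e.symm
    have four := four_elems (S : Subgroup G₂) hS hv₀ hv₁S hv₀1 (hne1 hv₀1) h01 (hexp v₀ hv₀)
    set v₂ := y * v₁ * y⁻¹ with hv₂
    have hv₂S := (Subgroup.mem_normalizer_iff.1 hyN v₁).1 hv₁S
    have hv2 : v₂ = v₀ * v₁ := by
      rcases four v₂ hv₂S with e | e | e | e
      · exact absurd e (hne1 (hne1 hv₀1))
      · exfalso
        have hy2 : y * y ∈ (S : Subgroup G₂) := mem_of_fix hq S (mul_mem hyN hyN) hv₀ hv₀1 (by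
          rw [show y * y * v₀ * (y * y)⁻¹ = y * (y * v₀ * y⁻¹) * y⁻¹ by group]; exact e)
        have h4 : y ^ 4 = 1 := by
          rw [show 4 = 2 * 2 from rfl, pow_mul, pow_two y, pow_two, hexp _ hy2]
        obtain ⟨m, -, hm⟩ := (Nat.dvd_prime_pow Nat.prime_two (m := 2)).1 (orderOf_dvd_of_pow_eq_one h4)
        have hz : IsPGroup 2 (Subgroup.zpowers y) := IsPGroup.of_card (by rw [Nat.card_zpowers, hm])
        exact hyS ((IsPGroup.inf_normalizer_sylow hz S).le ⟨Subgroup.mem_zpowers y, hyN⟩).2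
      · exact absurd e (hmove y hyN hyS v₁ hv₁S (hne1 hv₀1))
      · exact e
    have hnv := (Subgroup.mem_normalizer_iff.1 hn v₀).1 hv₀
    rcases four _ hnv with e | e | e | e
    · exact absurd e (hne1 hv₀1)
    · exact absurd e (hmove n hn hnS v₀ hv₀ hv₀1)
    · have h1 : y⁻¹ * n ∈ (S : Subgroup G₂) := mem_of_fix hq S (mul_mem (inv_mem hyN) hn) hv₀ hv₀1 (by
        rw [show y⁻¹ * n * v₀ * (y⁻¹ * n)⁻¹ = y⁻¹ * (n * v₀ * n⁻¹) * y by group, e]; group)
      have := J.mul_mem hyJ (hSJ h1)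
      rwa [mul_inv_cancel_left] at this
    · have h1 : (y * y)⁻¹ * n ∈ (S : Subgroup G₂) :=
        mem_of_fix hq S (mul_mem (inv_mem (mul_mem hyN hyN)) hn) hv₀ hv₀1 (by
          rw [show (y * y)⁻¹ * n * v₀ * ((y * y)⁻¹ * n)⁻¹ = (y * y)⁻¹ * (n * v₀ * n⁻¹) * (y * y) by
            simp only [_root_.mul_inv_rev, inv_inv, mul_assoc],
            e, show v₀ * (y * v₀ * y⁻¹) = y * (y * v₀ * y⁻¹) * y⁻¹ from hv2.symm]
          simp [mul_assoc])
      have := J.mul_mem (J.mul_mem hyJ hyJ) (hSJ h1)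
      rwa [mul_inv_cancel_left] at this
  push Not at hy
  -- a normal complement
  let T : Sylow 2 J := S.subtype hSJ
  have hT : Subgroup.normalizer ((T : Subgroup J) : Set J) ≤ Subgroup.centralizer ((T : Subgroup J) : Set J) := by
    intro z hz
    have hzN : (z : G₂) ∈ Subgroup.normalizer ((S : Subgroup G₂) : Set G₂) := by
      rw [Subgroup.mem_normalizer_iff] at hz ⊢
      intro s
      constructor
      · intro hs; exact (hz ⟨s, hSJ hs⟩).1 hs
      · intro hs
        have hsJ : s ∈ J := by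
          have := J.mul_mem (J.mul_mem (J.inv_mem z.2) (hSJ hs)) z.2
          simpa [mul_assoc] using this
        exact (hz ⟨s, hsJ⟩).2 hs
    have hzS := hy z z.2 hzN
    rw [Subgroup.mem_centralizer_iff]
    intro t ht
    refine Subtype.ext ?_
    have h1 := hexp _ ((S : Subgroup G₂).mul_mem (show (t : G₂) ∈ _ from ht) hzS)
    calc (t : G₂) * z = ((t : G₂) * z)⁻¹ := eq_inv_of_mul_eq_one_left h1
      _ = (z : G₂)⁻¹ * (t : G₂)⁻¹ := _root_.mul_inv_rev _ _
      _ = (z : G₂) * t := by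
        rw [inv_eq_of_mul_eq_one_right (hexp _ hzS), inv_eq_of_mul_eq_one_right (hexp _ (show (t : G₂) ∈ _ from ht))]
  obtain ⟨K', hcompl, hK'n⟩ : ∃ K' : Subgroup J, Subgroup.IsComplement' K' (T : Subgroup J) ∧ K'.Normal :=
    ⟨_, MonoidHom.ker_transferSylow_isComplement' T hT, inferInstance⟩
  haveI := hK'n
  let K := K'.map J.subtype
  have hKcard : Odd (Nat.card K) := by
    rw [Subgroup.card_map_of_injective J.subtype_injective, ← hcompl.index_eq_card,
      ← Nat.not_even_iff_odd, even_iff_two_dvd]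
    exact T.not_dvd_index
  obtain ⟨v, hv, hv1, hvK⟩ := le_centralizer hq J K (Subgroup.map_subtype_le K') hKcard
    (fun a ha k hk => by
      obtain ⟨k, hk, rfl⟩ := hk
      exact ⟨⟨a, ha⟩ * k * ⟨a, ha⟩⁻¹, hK'n.conj_mem k hk ⟨a, ha⟩, rfl⟩) S hSJ
  have hodd_mem : ∀ x ∈ J, Odd (orderOf x) → x ∈ K := by
    intro x hx ho
    have hidx : K'.index = 4 := by
      rw [hcompl.symm.index_eq_card]
      rw [← hS]
      exact Nat.card_congr (Subgroup.subgroupOfEquivOfLe hSJ).toEquiv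
    have h1 : (⟨x, hx⟩ : J) ∈ K' := by
      rw [← QuotientGroup.eq_one_iff, ← orderOf_eq_one_iff]
      have d1 := orderOf_map_dvd (QuotientGroup.mk' K') (⟨x, hx⟩ : J)
      have d2 := orderOf_dvd_natCard ((⟨x, hx⟩ : J) : J ⧸ K')
      rw [← Subgroup.index_eq_card, hidx] at d2
      rw [Subgroup.orderOf_mk] at d1
      have hc : Nat.Coprime (orderOf x) 4 := by
        rw [show (4 : ℕ) = 2 ^ 2 by norm_num]
        exact Nat.Coprime.pow_right 2 (Nat.prime_two.coprime_iff_not_dvd.2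
          (fun h => Nat.not_even_iff_odd.2 ho (even_iff_two_dvd.2 h))).symm
      exact Nat.dvd_one.1 (hc ▸ Nat.dvd_gcd d1 d2)
    exact ⟨⟨x, hx⟩, h1, rfl⟩
  have hHS : H ≤ (S : Subgroup G₂) := by
    intro h hh
    obtain ⟨⟨⟨k, hk⟩, ⟨s, hs⟩⟩, hks⟩ := hcompl.2 ⟨h, (le_sup_left : H ≤ J) hh⟩
    have hks' : (k : G₂) * s = h := congrArg Subtype.val hks
    have hs' : (s : G₂) ∈ (S : Subgroup G₂) := hs
    have hkH : (k : G₂) ∈ H := by
      have := H.mul_mem hh (H.inv_mem (hSH hs'))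
      rwa [← hks', mul_inv_cancel_right] at this
    suffices hk1 : (k : G₂) = 1 by rw [← hks', hk1, one_mul]; exact hs'
    have hodd : Odd (orderOf (k : G₂)) := hKcard.of_dvd_nat (by
      have hd := orderOf_dvd_natCard (⟨(k : G₂), ⟨k, hk, rfl⟩⟩ : K)
      rw [← orderOf_injective K.subtype K.subtype_injective] at hd
      exact hd)
    have hnk : MulAut.conj n (k : G₂) ∈ K := hodd_mem _ (hnH ⟨k, hkH, rfl⟩) (by rwa [MulEquiv.orderOf_eq])
    have c1 : Commute v (MulAut.conj n (k : G₂)) := hvK _ hnk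
    have c2 : Commute (MulAut.conj n v) (MulAut.conj n (k : G₂)) :=
      (hvK _ ⟨k, hk, rfl⟩).map (MulAut.conj n).toMonoidHom
    have hord : orderOf v = 2 := orderOf_eq_prime ((pow_two v).trans (hexp v hv)) hv1
    have := eq_one_of_commute (two_ne hq) (by rwa [MulEquiv.orderOf_eq]) hord
      (by rw [show n * v * n⁻¹ = MulAut.conj n v from rfl, MulEquiv.orderOf_eq, hord]) (hmove n hn hnS v hv hv1).symm c1 c2
    exact (MulAut.conj n).injective (this.trans (map_one _).symm)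
  refine ⟨1, J.one_mem, ?_⟩
  rw [cj_one, show H = (S : Subgroup G₂) from le_antisymm hHS hSH]
  exact cj_eq_iff.2 hn

end CfsgLib.SymSylow.PSLTwoFour
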