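import Cfsg.Agent.SymSylow.Overgroups
import Cfsg.Agent.SmallPerm.DegreeSix
import Mathlib.GroupTheory.Perm.Centralizer

/-!
Permutation groups containing all products of two transpositions from a pairing of the points, and
perfect permutation groups on few points.
-/

set_option autoImplicit false

namespace CfsgLib.SymSylow

open Equiv Equiv.Perm

variable {α : Type*} [DecidableEq α] [Fintype α]

/-- `τ` is an involutory pairing whose double transpositions all lie in `H`. -/
structure Pairing (H : Subgroup (Perm α)) (τ : Perm α) : Prop where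
  inv : ∀ x, τ (τ x) = x
  fixed : ∀ x y, τ x = x → τ y = y → x = y
  mem : ∀ x y, τ x ≠ x → τ y ≠ y → y ≠ x → y ≠ τ x → swap x (τ x) * swap y (τ y) ∈ H

omit [Fintype α] in
lemma Pairing.conj {H : Subgroup (Perm α)} {τ g : Perm α} (h : Pairing H τ) (hg : g ∈ H) :
    Pairing H (g * τ * g⁻¹) := by
  refine ⟨fun x => ?_, fun x y hx hy => ?_, fun x y hx hy hyx hyt => ?_⟩
  · simp [Perm.mul_apply, h.inv]
  · simp only [Perm.mul_apply] at hx hy
    have hx' : τ (g⁻¹ x) = g⁻¹ x := g.injective (by simpa using hx)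
    have hy' : τ (g⁻¹ y) = g⁻¹ y := g.injective (by simpa using hy)
    simpa using congrArg g (h.fixed _ _ hx' hy')
  · simp only [Perm.mul_apply] at hx hy hyt ⊢
    have hx' : τ (g⁻¹ x) ≠ g⁻¹ x := fun e => hx (by rw [e]; simp)
    have hy' : τ (g⁻¹ y) ≠ g⁻¹ y := fun e => hy (by rw [e]; simp)
    have h1 := h.mem _ _ hx' hy' (fun e => hyx (g⁻¹.injective e))
      (fun e => hyt (by rw [← e]; simp))
    have h2 := H.mul_mem (H.mul_mem hg h1) (H.inv_mem hg)
    have e : g * (swap (g⁻¹ x) (τ (g⁻¹ x)) * swap (g⁻¹ y) (τ (g⁻¹ y))) * g⁻¹ =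
        swap x (g (τ (g⁻¹ x))) * swap y (g (τ (g⁻¹ y))) := by
      have s1 : ∀ u v, g * swap u v * g⁻¹ = swap (g u) (g v) := fun u v =>
        (swap_apply_apply g u v).symm
      calc g * (swap (g⁻¹ x) (τ (g⁻¹ x)) * swap (g⁻¹ y) (τ (g⁻¹ y))) * g⁻¹
          = (g * swap (g⁻¹ x) (τ (g⁻¹ x)) * g⁻¹) * (g * swap (g⁻¹ y) (τ (g⁻¹ y)) * g⁻¹) := by group
        _ = _ := by rw [s1, s1]; simp
    rwa [e] at h2

/-- Two double transpositions meeting in one point give a three-cycle. -/
lemma three_cycle_of_meet_one {H : Subgroup (Perm α)} {a a2 b c d y z : α}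
    (h1 : swap a a2 * swap y z ∈ H) (h2 : swap a b * swap c d ∈ H)
    (ha2 : a ≠ a2) (hb : a ≠ b) (hab2 : a2 ≠ b) (hy : y ∉ ({a, a2, b} : Finset α))
    (hz : z ∉ ({a, a2, b} : Finset α)) (hc : c ∉ ({a, a2, b} : Finset α))
    (hd : d ∉ ({a, a2, b} : Finset α)) (hcd : c ∉ ({y, z} : Finset α))
    (hdd : d ∉ ({y, z} : Finset α)) : ∃ g ∈ H, Perm.IsThreeCycle g := by
  set A := swap a a2
  set B := swap y z
  set C := swap a b
  set D := swap c d
  simp only [Finset.mem_insert, Finset.mem_singleton, not_or] at hy hz hc hd hcd hdd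
  have hBC : B * C = C * B := commute_of_disjoint_onSet (U := {y, z}) (V := {a, b})
    (by simp [hy.1, hy.2.2, hz.1, hz.2.2, Ne.symm hy.1, Ne.symm hy.2.2, Ne.symm hz.1, Ne.symm hz.2.2])
    (swap_mem_onSet (by simp) (by simp)) (swap_mem_onSet (by simp) (by simp))
  have hBD : B * D = D * B := commute_of_disjoint_onSet (U := {y, z}) (V := {c, d})
    (by simp [hcd.1, hcd.2, hdd.1, hdd.2, Ne.symm hcd.1, Ne.symm hcd.2, Ne.symm hdd.1, Ne.symm hdd.2])
    (swap_mem_onSet (by simp) (by simp)) (swap_mem_onSet (by simp) (by simp))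
  have hX : (A * C) * (B * D) = (B * D) * (A * C) :=
    commute_of_disjoint_onSet (U := {a, a2, b}) (V := {y, z, c, d})
      (by simp [hy.1, hy.2.1, hy.2.2, hz.1, hz.2.1, hz.2.2, hc.1, hc.2.1, hc.2.2, hd.1, hd.2.1, hd.2.2,
        Ne.symm hy.1, Ne.symm hy.2.1, Ne.symm hy.2.2, Ne.symm hz.1, Ne.symm hz.2.1, Ne.symm hz.2.2,
        Ne.symm hc.1, Ne.symm hc.2.1, Ne.symm hc.2.2, Ne.symm hd.1, Ne.symm hd.2.1, Ne.symm hd.2.2])
      (mul_mem (swap_mem_onSet (by simp) (by simp)) (swap_mem_onSet (by simp) (by simp)))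
      (mul_mem (swap_mem_onSet (by simp) (by simp)) (swap_mem_onSet (by simp) (by simp)))
  have hsq : (B * D) * (B * D) = 1 := by
    calc (B * D) * (B * D) = (B * D) * (D * B) := by rw [hBD]
      _ = B * (D * D) * B := by group
      _ = 1 := by simp [B, D]
  refine ⟨(A * B * (C * D)) * (A * B * (C * D)), mul_mem (mul_mem h1 h2) (mul_mem h1 h2), ?_⟩
  have e : A * B * (C * D) = (A * C) * (B * D) := by
    calc A * B * (C * D) = A * (B * C) * D := by group
      _ = A * (C * B) * D := by rw [hBC]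
      _ = _ := by group
  have e2 : (A * B * (C * D)) * (A * B * (C * D)) = (A * C) * (A * C) := by
    rw [e]
    calc (A * C) * (B * D) * ((A * C) * (B * D))
        = (A * C) * ((B * D) * (A * C)) * (B * D) := by group
      _ = (A * C) * ((A * C) * (B * D)) * (B * D) := by rw [← hX]
      _ = (A * C) * (A * C) * ((B * D) * (B * D)) := by group
      _ = _ := by rw [hsq, mul_one]
  rw [e2]
  exact (isThreeCycle_swap_mul_swap_same ha2 hb hab2).isThreeCycle_sq

/-- Crossing pairings give a three-cycle. -/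
theorem three_cycle_of_crossing {H : Subgroup (Perm α)} {τ σ : Perm α} (hτ : Pairing H τ)
    (hσ : Pairing H σ) {a : α} (ha : τ a ≠ a) (ha' : σ a ≠ a) (hne : σ a ≠ τ a)
    (hn : 10 ≤ Fintype.card α ∨ (9 ≤ Fintype.card α ∧ τ (σ a) = σ a)) :
    ∃ g ∈ H, Perm.IsThreeCycle g := by
  set a2 := τ a with ha2
  set b := σ a with hb
  have hsm : ∀ (ρ : Perm α), (∀ x y, ρ x = x → ρ y = y → x = y) →
      Fintype.card α - 1 ≤ (Finset.univ.filter fun x => ρ x ≠ x).card := by
    intro ρ hρ
    have h1 : (Finset.univ.filter fun x => ρ x = x).card ≤ 1 := Finset.card_le_one.2 fun x hx y hy =>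
      hρ x y (Finset.mem_filter.1 hx).2 (Finset.mem_filter.1 hy).2
    have := Finset.card_filter_add_card_filter_not (s := (Finset.univ : Finset α)) (fun x => ρ x = x)
    rw [Finset.card_univ] at this
    simp only [ne_eq] at this ⊢
    omega
  obtain ⟨c, hc⟩ : ((Finset.univ.filter fun x => σ x ≠ x) \ {a, b, a2, σ a2}).Nonempty := by
    rw [← Finset.card_pos]
    have h4 : ({a, b, a2, σ a2} : Finset α).card ≤ 4 := Finset.card_le_four
    have := Finset.le_card_sdiff ({a, b, a2, σ a2} : Finset α) (Finset.univ.filter fun x => σ x ≠ x)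
    have := hsm σ hσ.fixed
    omega
  simp only [Finset.mem_sdiff, Finset.mem_filter, Finset.mem_univ, true_and, Finset.mem_insert,
    Finset.mem_singleton, not_or] at hc
  obtain ⟨hcσ, hca, hcb, hca2, hcσa2⟩ := hc
  set d := σ c with hd
  have hd1 : d ≠ a := fun e => hcb (by rw [hb, ← e, hd, hσ.inv])
  have hd2 : d ≠ b := fun e => hca (σ.injective e)
  have hd3 : d ≠ a2 := fun e => hcσa2 (by rw [← e, hd, hσ.inv])
  obtain ⟨y, hy⟩ : ((Finset.univ.filter fun x => τ x ≠ x) \
      ({a, a2, b, τ b, c, τ c, d, τ d} : Finset α)).Nonempty := by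
    rw [← Finset.card_pos]
    have hle := Finset.le_card_sdiff ({a, a2, b, τ b, c, τ c, d, τ d} : Finset α)
      (Finset.univ.filter fun x => τ x ≠ x)
    have hm := hsm τ hτ.fixed
    rcases hn with hn | ⟨hn, hbb⟩
    · have h8 : ({a, a2, b, τ b, c, τ c, d, τ d} : Finset α).card ≤ 8 := by
        refine (Finset.card_insert_le _ _).trans (Nat.succ_le_succ ?_)
        refine (Finset.card_insert_le _ _).trans (Nat.succ_le_succ ?_)
        exact Finset.card_le_six
      omega
    · have h7 : ({a, a2, b, τ b, c, τ c, d, τ d} : Finset α).card ≤ 7 := by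
        rw [hbb, Finset.insert_eq_of_mem (show b ∈ ({b, c, τ c, d, τ d} : Finset α) by simp)]
        refine (Finset.card_insert_le _ _).trans (Nat.succ_le_succ ?_)
        refine (Finset.card_insert_le _ _).trans (Nat.succ_le_succ ?_)
        exact Finset.card_le_five
      omega
  simp only [Finset.mem_sdiff, Finset.mem_filter, Finset.mem_univ, true_and, Finset.mem_insert,
    Finset.mem_singleton, not_or] at hy
  obtain ⟨hyτ, hy1, hy2, hy3, hy4, hy5, hy6, hy7, hy8⟩ := hy
  have hz : ∀ u, y ≠ τ u → τ y ≠ u := fun u h e => h (by rw [← e, hτ.inv])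
  refine three_cycle_of_meet_one (hτ.mem a y ha hyτ hy1 hy2) (hσ.mem a c ha' hcσ hca hcb)
    (Ne.symm ha) (Ne.symm ha') (Ne.symm hne) ?_ ?_ ?_ ?_ ?_ ?_
  · simp only [Finset.mem_insert, Finset.mem_singleton, not_or]; exact ⟨hy1, hy2, hy3⟩
  · simp only [Finset.mem_insert, Finset.mem_singleton, not_or]
    exact ⟨hz a hy2, fun e => hy1 (τ.injective e), hz b hy4⟩
  · simp only [Finset.mem_insert, Finset.mem_singleton, not_or]; exact ⟨hca, hca2, hcb⟩
  · simp only [Finset.mem_insert, Finset.mem_singleton, not_or]; exact ⟨hd1, hd3, hd2⟩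
  · simp only [Finset.mem_insert, Finset.mem_singleton, not_or]
    exact ⟨Ne.symm hy5, Ne.symm (hz c hy6)⟩
  · simp only [Finset.mem_insert, Finset.mem_singleton, not_or]
    exact ⟨Ne.symm hy7, Ne.symm (hz d hy8)⟩

/-- A perfect group has no nontrivial map to a solvable one. -/
lemma map_eq_one_of_perfect {K Q : Type*} [Group K] [Group Q] [Group.IsPerfect K]
    [Group.IsSolvable Q] (f : K →* Q) (k : K) : f k = 1 := by
  obtain ⟨j, hj⟩ := (inferInstance : Group.IsSolvable Q).solvable
  have h : ∀ i, derivedSeries K i = ⊤ := by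
    intro i
    induction i with
    | zero => rfl
    | succ i ih => rw [derivedSeries_succ, ih]; exact Group.IsPerfect.commutator_eq_top
  have := map_derivedSeries_le_derivedSeries f j (Subgroup.mem_map_of_mem f (h j ▸ Subgroup.mem_top k))
  rw [hj] at this
  exact this

lemma isSolvable_perm_of_card_le_four {β : Type*} [Fintype β] (h : Fintype.card β ≤ 4) :
    Group.IsSolvable (Perm β) := by
  classical
  refine CfsgLib.SmallPerm.isSolvable_of_two_primes _ 2 3 3 1 Nat.prime_two (by norm_num) ?_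
  rw [Nat.card_perm, Nat.card_eq_fintype_card]
  exact (Nat.factorial_dvd_factorial h).trans (by decide)

/-- A perfect group fixes pointwise every invariant set of at most four points. -/
lemma perfect_fixes {β : Type*} [DecidableEq β] {K : Type*} [Group K] [Group.IsPerfect K]
    (f : K →* Perm β) (U : Finset β) (hU : U.card ≤ 4) (hinv : ∀ k x, f k x ∈ U ↔ x ∈ U)
    (k : K) {x : β} (hx : x ∈ U) : f k x = x := by
  haveI : Group.IsSolvable (Perm U) := isSolvable_perm_of_card_le_four (by simpa using hU)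
  let g : K →* Perm U :=
    { toFun := fun k => (f k).subtypePerm (hinv k)
      map_one' := by ext; simp
      map_mul' := fun a b => Equiv.ext fun u => Subtype.ext
        (show f (a * b) u.1 = f a (f b u.1) by rw [map_mul]; rfl) }
  simpa [g] using congrArg (fun u : Perm U => (u ⟨x, hx⟩ : β)) (map_eq_one_of_perfect g k)

lemma five_cycle_odd : ∀ Q ∈ (Finset.univ : Finset (Fin 8)).powersetCard 4, ∃ j : Fin 5,
    ((Q ∩ Q.image ((((swap (0 : Fin 8) 1 * swap 1 2 * swap 2 3 * swap 3 4) ^ (j : ℕ) : Perm (Fin 8))) : Fin 8 → Fin 8)).card) % 2 = 1 := by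
  decide +kernel

lemma image_compl_eq (e : Perm (Fin 8)) (A : Finset (Fin 8)) : Aᶜ.image e = (A.image e)ᶜ := by
  ext x
  simp only [Finset.mem_compl, Finset.mem_image]
  exact ⟨fun ⟨y, hy, h⟩ ⟨y', hy', h'⟩ => hy (e.injective (h'.trans h.symm) ▸ hy'),
    fun h => ⟨e.symm x, fun h' => h ⟨_, h', e.apply_symm_apply x⟩, e.apply_symm_apply x⟩⟩

lemma pow_card_two_le : ∀ m : ℕ, m ∣ 5040 → ¬ 32 ∣ m := fun m hm h =>
  absurd (h.trans hm) (by norm_num)

set_option maxHeartbeats 2000000 in
/-- The degree eight case. -/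
theorem three_cycle_of_eight (X L : Subgroup (Perm (Fin 8))) (hX : X ≤ alternatingGroup (Fin 8))
    (h64 : 64 ∣ Nat.card X) (hLX : L ≤ X) (hLn : ∀ g ∈ X, ∀ l ∈ L, g * l * g⁻¹ ∈ L)
    [Group.IsPerfect L] (hL : L ≠ ⊥)
    (hcen : ∀ M : Subgroup L, M.Normal → M ≠ ⊤ → M ≤ Subgroup.center L) :
    ∃ g ∈ X, Perm.IsThreeCycle g := by
  haveI : Fact (Nat.Prime 2) := ⟨Nat.prime_two⟩
  haveI : Fact (Nat.Prime 7) := ⟨by norm_num⟩
  by_contra hno
  -- a quad of a Sylow subgroup
  obtain ⟨S', hS'⟩ := Sylow.exists_subgroup_card_pow_prime (G := X) 2 (n := 6) (by simpa using h64)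
  have hS'p : IsPGroup 2 (S'.map X.subtype) := (IsPGroup.of_card (p := 2) (n := 6) hS').map _
  obtain ⟨P, hP⟩ := hS'p.exists_le_sylow
  have hsy := isSylowOn_univ (α := Fin 8) P
  have hP128 : Nat.card (P : Subgroup (Perm (Fin 8))) = 128 := by
    rw [P.card_eq_multiplicity, Nat.card_perm, Nat.card_fin, Nat.factorization_def _ Nat.prime_two,
      show Nat.factorial 8 = 2 ^ 7 * 315 by decide, padicValNat.mul (by norm_num) (by norm_num),
      padicValNat.prime_pow, padicValNat.eq_zero_of_not_dvd (by norm_num : ¬ 2 ∣ 315)]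
    norm_num
  have hev : evenPart (P : Subgroup (Perm (Fin 8))) ≤ X := by
    have hle : S'.map X.subtype ≤ evenPart (P : Subgroup (Perm (Fin 8))) := fun g hg => by
      obtain ⟨u, hu, rfl⟩ := Subgroup.mem_map.1 hg
      exact ⟨hP hg, hX u.2⟩
    have hc : Nat.card (S'.map X.subtype) = 64 := by
      rw [Subgroup.card_map_of_injective X.subtype_injective, hS']; rfl
    have hlt : Nat.card (evenPart (P : Subgroup (Perm (Fin 8)))) ≤ 64 := by
      have hd : Nat.card (evenPart (P : Subgroup (Perm (Fin 8)))) ∣ 20160 := by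
        have := Subgroup.card_dvd_of_le (show evenPart (P : Subgroup (Perm (Fin 8))) ≤
          alternatingGroup (Fin 8) from fun g hg => hg.2)
        rw [nat_card_alternatingGroup, Nat.card_fin] at this
        simpa [Nat.factorial] using this
      have hd2 : Nat.card (evenPart (P : Subgroup (Perm (Fin 8)))) ∣ 128 :=
        hP128 ▸ Subgroup.card_dvd_of_le inf_le_left
      exact Nat.le_of_dvd (by norm_num) ((Nat.dvd_gcd hd hd2).trans (by norm_num))
    rw [← Subgroup.eq_of_le_of_card_ge hle (hc ▸ hlt)]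
    exact Subgroup.map_subtype_le S'
  have htr : ∀ x ∈ (Finset.univ : Finset (Fin 8)), ∀ y ∈ (Finset.univ : Finset (Fin 8)),
      ∃ g ∈ (P : Subgroup (Perm (Fin 8))), g x = y := by
    intro x _ y _
    refine mem_orb.1 ?_
    by_contra hy
    have hk := le_keeps_orb (P : Subgroup (Perm (Fin 8))) x
    have hsum := hsy.padic_split (Finset.subset_univ (orb (P : Subgroup (Perm (Fin 8))) x)) hk
    have hc1 : 0 < (orb (P : Subgroup (Perm (Fin 8))) x).card :=
      Finset.card_pos.2 ⟨x, self_mem_orb _ x⟩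
    have hc2 : (orb (P : Subgroup (Perm (Fin 8))) x).card < 8 := by
      have := Finset.card_lt_card (show orb (P : Subgroup (Perm (Fin 8))) x ⊂ Finset.univ from Finset.ssubset_iff_subset_ne.2
        ⟨Finset.subset_univ _, fun e => hy (by rw [e]; exact Finset.mem_univ y)⟩)
      simpa using this
    rw [Finset.card_univ_sdiff, Finset.card_univ, Fintype.card_fin] at hsum
    generalize (orb (P : Subgroup (Perm (Fin 8))) x).card = m at hsum hc1 hc2
    rw [show Nat.factorial 8 = 2 ^ 7 * 315 by decide, padicValNat.mul (by norm_num) (by norm_num),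
      padicValNat.prime_pow, padicValNat.eq_zero_of_not_dvd (by norm_num : ¬ 2 ∣ 315),
      ← padicValNat.mul (Nat.factorial_ne_zero _) (Nat.factorial_ne_zero _)] at hsum
    have hdvd : 2 ^ 7 ∣ m.factorial * (8 - m).factorial := by
      rw [show (7 : ℕ) = padicValNat 2 (m.factorial * (8 - m).factorial) by omega]
      exact pow_padicValNat_dvd
    interval_cases m <;> simp [Nat.factorial] at hdvd
  obtain ⟨B, hcov, hprop, -⟩ := hsy.exists_quads htr (by simp)
  obtain ⟨Q, hQB, -⟩ := hcov 0 (Finset.mem_univ 0)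
  obtain ⟨-, hQ4, hQK⟩ := hprop Q hQB
  have hQX : KleinIn X Q := hQK.mono hev
  have himg : ∀ g ∈ X, (Q.image g).card = 4 := fun g _ =>
    (Finset.card_image_of_injective _ g.injective).trans hQ4
  have heven : ∀ g ∈ X, ∀ h ∈ X, (Q.image g ∩ Q.image h).card % 2 = 0 := by
    intro g hg h hh
    by_contra hodd
    have hle : (Q.image g ∩ Q.image h).card ≤ 4 :=
      (Finset.card_le_card Finset.inter_subset_left).trans (himg g hg).le
    exact hno (exists_isThreeCycle_of_klein (himg g hg) (himg h hh) (hQX.image hg) (hQX.image hh)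
      (by omega))
  -- no elements of order five
  have h5 : ¬ 5 ∣ Nat.card X := by
    intro h
    haveI : Fact (Nat.Prime 5) := ⟨by norm_num⟩
    obtain ⟨c, hc⟩ := exists_prime_orderOf_dvd_card' (G := X) 5 h
    have hc' : orderOf (c : Perm (Fin 8)) = 5 := by rw [Subgroup.orderOf_coe, hc]
    obtain ⟨m, hm⟩ := cycleType_prime_order (σ := (c : Perm (Fin 8))) (by rw [hc']; norm_num)
    rw [hc'] at hm
    have hm0 : m = 0 := by
      have := sum_cycleType_le (c : Perm (Fin 8))
      rw [hm, Multiset.sum_replicate, smul_eq_mul, Fintype.card_fin] at this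
      omega
    set c0 : Perm (Fin 8) := swap 0 1 * swap 1 2 * swap 2 3 * swap 3 4 with hc0
    obtain ⟨k, hk⟩ := isConj_iff.1 (isConj_iff_cycleType_eq.2
      (show c0.cycleType = (c : Perm (Fin 8)).cycleType by rw [hm, hm0, hc0]; decide +kernel))
    obtain ⟨j, hj⟩ := five_cycle_odd (Q.image ⇑k⁻¹) (Finset.mem_powersetCard.2
      ⟨Finset.subset_univ _, (Finset.card_image_of_injective _ k⁻¹.injective).trans hQ4⟩)
    have hmem : ((c : Perm (Fin 8)) ^ (j : ℕ)) ∈ X := pow_mem c.2 _
    have h1 := heven 1 (one_mem X) _ hmem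
    rw [Perm.coe_one, Finset.image_id] at h1
    have e : ((Q.image ⇑k⁻¹) ∩ (Q.image ⇑k⁻¹).image ⇑(c0 ^ (j : ℕ))).card =
        (Q ∩ Q.image ⇑((c : Perm (Fin 8)) ^ (j : ℕ))).card := by
      rw [← Finset.card_image_of_injective _ k.injective, Finset.image_inter _ _ k.injective]
      congr 1
      congr 1
      · ext; simp
      · rw [Finset.image_image, Finset.image_image]
        refine Finset.image_congr fun x _ => ?_
        have : k * c0 ^ (j : ℕ) * k⁻¹ = (c : Perm (Fin 8)) ^ (j : ℕ) := by rw [← conj_pow, hk]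
        rw [← this]; rfl
    rw [← hc0, e] at hj
    omega
  -- the pairs of complementary images
  classical
  set T := Finset.univ.filter fun A : Finset (Fin 8) =>
    (0 : Fin 8) ∈ A ∧ ∃ g ∈ X, A = Q.image g ∨ A = (Q.image g)ᶜ with hT
  have hTc : ∀ A ∈ T, A.card = 4 := by
    intro A hA
    obtain ⟨-, -, g, hg, h | h⟩ := Finset.mem_filter.1 hA
    · rw [h, himg g hg]
    · rw [h, Finset.card_compl, himg g hg, Fintype.card_fin]
  have hTi : ∀ A ∈ T, ∀ A' ∈ T, A ≠ A' → (A ∩ A').card = 2 := by
    intro A hA A' hA' hne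
    have hcA := hTc A hA
    have hcA' := hTc A' hA'
    obtain ⟨-, h0, g, hg, h⟩ := Finset.mem_filter.1 hA
    obtain ⟨-, h0', g', hg', h'⟩ := Finset.mem_filter.1 hA'
    have key : (A ∩ A').card % 2 = 0 := by
      have e := heven g hg g' hg'
      have c1 : ∀ U V : Finset (Fin 8), (U ∩ Vᶜ).card + (U ∩ V).card = U.card := fun U V => by
        rw [← Finset.sdiff_eq_inter_compl, Finset.card_sdiff_add_card_inter]
      have e1 := c1 (Q.image g) (Q.image g')
      have e2 := c1 (Q.image g)ᶜ (Q.image g')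
      have e3 := c1 (Q.image g') (Q.image g)
      rw [himg g hg] at e1
      rw [Finset.card_compl, himg g hg, Fintype.card_fin] at e2
      rw [himg g' hg'] at e3
      rw [Finset.inter_comm (Q.image g') (Q.image g)ᶜ, Finset.inter_comm (Q.image g') (Q.image g)] at e3
      rcases h with rfl | rfl <;> rcases h' with rfl | rfl <;> omega
    have hpos : 0 < (A ∩ A').card := Finset.card_pos.2 ⟨0, Finset.mem_inter.2 ⟨h0, h0'⟩⟩
    have hlt : (A ∩ A').card < 4 := by
      rw [← hcA]
      refine Finset.card_lt_card (Finset.ssubset_iff_subset_ne.2 ⟨Finset.inter_subset_left, fun e => hne ?_⟩)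
      exact Finset.eq_of_subset_of_card_le (Finset.inter_eq_left.1 e) (by omega)
    omega
  have hT7 : T.card ≤ 7 := by
    rcases T.eq_empty_or_nonempty with h | ⟨A, hA⟩
    · simp [h]
    have h0A : (0 : Fin 8) ∈ A := (Finset.mem_filter.1 hA).2.1
    have hcover : T.erase A ⊆ (A.erase 0).biUnion fun y => (T.erase A).filter fun A' => y ∈ A' := by
      intro A' hA'
      obtain ⟨hne, hA'T⟩ := Finset.mem_erase.1 hA'
      obtain ⟨y, hy, hy0⟩ := Finset.exists_mem_ne (s := A ∩ A')
        (by rw [hTi A hA A' hA'T (Ne.symm hne)]; norm_num) 0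
      rw [Finset.mem_inter] at hy
      exact Finset.mem_biUnion.2 ⟨y, Finset.mem_erase.2 ⟨hy0, hy.1⟩, Finset.mem_filter.2 ⟨hA', hy.2⟩⟩
    have hy2 : ∀ y ∈ A.erase 0, ((T.erase A).filter fun A' => y ∈ A').card ≤ 2 := by
      intro y hy
      obtain ⟨hy0, hyA⟩ := Finset.mem_erase.1 hy
      set F := (T.erase A).filter fun A' => y ∈ A'
      have hins : ∀ A' ∈ insert A F, A' ∈ T ∧ y ∈ A' := by
        intro A' h
        rcases Finset.mem_insert.1 h with rfl | h
        · exact ⟨hA, hyA⟩
        · exact ⟨(Finset.mem_erase.1 (Finset.mem_filter.1 h).1).2, (Finset.mem_filter.1 h).2⟩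
      have hAF : A ∉ F := fun h => (Finset.mem_erase.1 (Finset.mem_filter.1 h).1).1 rfl
      have hsz : ∀ A' ∈ insert A F, (A' \ {0, y}).card = 2 := by
        intro A' h
        obtain ⟨hT', hy'⟩ := hins A' h
        rw [Finset.card_sdiff_of_subset, hTc A' hT', Finset.card_pair (Ne.symm hy0)]
        simp [Finset.insert_subset_iff, hy', (Finset.mem_filter.1 hT').2.1]
      have hdis : ((insert A F : Finset _) : Set (Finset (Fin 8))).PairwiseDisjoint fun A' => A' \ {0, y} := by
        intro U hU V hV hne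
        rw [Function.onFun, Finset.disjoint_left]
        intro u hu hu'
        obtain ⟨hU1, hU2⟩ := hins U hU
        obtain ⟨hV1, hV2⟩ := hins V hV
        have hsub : ({0, y} : Finset (Fin 8)) = U ∩ V := by
          refine Finset.eq_of_subset_of_card_le ?_ ?_
          · simp [Finset.insert_subset_iff, hU2, hV2, (Finset.mem_filter.1 hU1).2.1,
              (Finset.mem_filter.1 hV1).2.1]
          · rw [hTi U hU1 V hV1 hne, Finset.card_pair (Ne.symm hy0)]
        rw [Finset.mem_sdiff] at hu hu'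
        exact hu.2 (hsub ▸ Finset.mem_inter.2 ⟨hu.1, hu'.1⟩)
      have hb := Finset.card_biUnion hdis
      rw [Finset.sum_congr rfl hsz, Finset.sum_const, smul_eq_mul,
        Finset.card_insert_of_notMem hAF] at hb
      have hle : ((insert A F).biUnion fun A' => A' \ {0, y}).card ≤ 6 := by
        refine (Finset.card_le_card (t := ({0, y} : Finset (Fin 8))ᶜ) fun u hu => ?_).trans ?_
        · obtain ⟨A', -, h⟩ := Finset.mem_biUnion.1 hu
          exact Finset.mem_compl.2 (Finset.mem_sdiff.1 h).2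
        · rw [Finset.card_compl, Finset.card_pair (Ne.symm hy0), Fintype.card_fin]
      omega
    have h1 := (Finset.card_le_card hcover).trans (Finset.card_biUnion_le.trans (Finset.sum_le_sum hy2))
    rw [Finset.sum_const, smul_eq_mul, Finset.card_erase_of_mem h0A, hTc A hA,
      Finset.card_erase_of_mem hA] at h1
    omega
  set Sp := T.image fun A => ({A, Aᶜ} : Finset (Finset (Fin 8))) with hSp
  have hpair : ∀ A : Finset (Fin 8), ({A, Aᶜ} : Finset (Finset (Fin 8))) = {Aᶜ, Aᶜᶜ} := fun A => by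
    rw [compl_compl, Finset.pair_comm]
  have hSpmem : ∀ g ∈ X, ({Q.image g, (Q.image g)ᶜ} : Finset (Finset (Fin 8))) ∈ Sp := by
    intro g hg
    by_cases h0 : (0 : Fin 8) ∈ Q.image g
    · exact Finset.mem_image.2 ⟨_, Finset.mem_filter.2 ⟨Finset.mem_univ _, h0, g, hg, Or.inl rfl⟩, rfl⟩
    · refine Finset.mem_image.2 ⟨(Q.image g)ᶜ,
        Finset.mem_filter.2 ⟨Finset.mem_univ _, Finset.mem_compl.2 h0, g, hg, Or.inr rfl⟩, ?_⟩
      exact (hpair _).symm
  let act : L → Finset (Finset (Fin 8)) → Finset (Finset (Fin 8)) :=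
    fun l P' => P'.image fun A => A.image ⇑(l : Perm (Fin 8))
  have hact1 : ∀ (l : L) (A : Finset (Fin 8)),
      act l {A, Aᶜ} = {A.image ⇑(l : Perm (Fin 8)), (A.image ⇑(l : Perm (Fin 8)))ᶜ} := fun l A => by
    simp only [act, Finset.image_insert, Finset.image_singleton]
    rw [image_compl_eq]
  have hactmem : ∀ (l : L), ∀ P' ∈ Sp, act l P' ∈ Sp := by
    intro l P' hP'
    obtain ⟨A, hA, rfl⟩ := Finset.mem_image.1 hP'
    obtain ⟨-, -, g, hg, h⟩ := Finset.mem_filter.1 hA
    have hh := hSpmem ((l : Perm (Fin 8)) * g) (mul_mem (hLX l.2) hg)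
    rw [Perm.coe_mul, ← Finset.image_image] at hh
    rw [hact1]
    rcases h with rfl | rfl
    · exact hh
    · rw [image_compl_eq, ← hpair]; exact hh
  letI : MulAction L {P' // P' ∈ Sp} :=
    { smul := fun l P' => ⟨act l P'.1, hactmem l P'.1 P'.2⟩
      one_smul := fun P' => Subtype.ext (by
        show act 1 P'.1 = P'.1
        simp [act])
      mul_smul := fun l m P' => Subtype.ext (by
        show act (l * m) P'.1 = act l (act m P'.1)
        simp [act, Finset.image_image, Function.comp_def]) }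
  set f := MulAction.toPermHom L {P' // P' ∈ Sp} with hf
  have hker : f.ker ≠ ⊤ := by
    intro htop
    have hfix : ∀ l : L, act l {Q, Qᶜ} = {Q, Qᶜ} := by
      intro l
      have h := hSpmem 1 (one_mem X)
      rw [Perm.coe_one, Finset.image_id] at h
      have h2 : f l = 1 := MonoidHom.mem_ker.1 (htop ▸ Subgroup.mem_top l)
      exact congrArg (fun u : Perm {P' // P' ∈ Sp} => (u ⟨_, h⟩).1) h2
    let h2 : L →* Perm (Finset (Fin 8)) :=
      { toFun := fun l => (Equiv.finsetCongr (l : Perm (Fin 8)))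
        map_one' := Equiv.ext fun A => by simp [Finset.map_eq_image]
        map_mul' := fun a b => Equiv.ext fun A => by
          simp [Finset.map_eq_image, Finset.image_image, Function.comp_def] }
    have hap : ∀ (l : L) A, h2 l A = A.image ⇑(l : Perm (Fin 8)) := fun l A => by
      simp [h2, Finset.map_eq_image]
    have hQQ : ∀ l : L, Q.image ⇑(l : Perm (Fin 8)) = Q := by
      intro l
      rw [← hap]
      refine perfect_fixes h2 {Q, Qᶜ} (Finset.card_le_two.trans (by norm_num)) (fun l' A => ?_) l (by simp)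
      have hh : ∀ (l' : L) A, A ∈ ({Q, Qᶜ} : Finset (Finset (Fin 8))) → h2 l' A ∈ ({Q, Qᶜ} : Finset _) := by
        intro l' A hA
        rw [hap, ← hfix l']
        exact Finset.mem_image_of_mem _ hA
      refine ⟨fun h => ?_, hh l' A⟩
      have := hh l'⁻¹ _ h
      rwa [← Perm.mul_apply, ← map_mul, inv_mul_cancel, map_one, Perm.one_apply] at this
    apply hL
    rw [eq_bot_iff]
    intro l hl
    refine Subgroup.mem_bot.2 (Equiv.ext fun x => ?_)
    have hinv : ∀ (k : L) x, L.subtype k x ∈ Q ↔ x ∈ Q := fun k x => by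
      conv_lhs => rw [← hQQ k]
      simp
    by_cases hx : x ∈ Q
    · exact perfect_fixes L.subtype Q hQ4.le hinv ⟨l, hl⟩ hx
    · exact perfect_fixes L.subtype Qᶜ (by rw [Finset.card_compl, hQ4, Fintype.card_fin])
        (fun k x => by rw [Finset.mem_compl, Finset.mem_compl, hinv]) ⟨l, hl⟩ (Finset.mem_compl.2 hx)
  -- an element of order seven
  have hLA : L ≤ alternatingGroup (Fin 8) := hLX.trans hX
  have hLd : Nat.card L ∣ 20160 := by
    have := Subgroup.card_dvd_of_le hLA
    rw [nat_card_alternatingGroup, Nat.card_fin] at this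
    simpa [Nat.factorial] using this
  have h7 : 7 ∣ Nat.card L := by
    by_contra h
    have hco : Nat.Coprime (Nat.card L) 35 := by
      rw [show (35 : ℕ) = 5 * 7 from rfl]
      exact Nat.Coprime.mul_right
        (((Nat.prime_five.coprime_iff_not_dvd).2 fun h' => h5 (h'.trans (Subgroup.card_dvd_of_le hLX))).symm)
        (((show Nat.Prime 7 by norm_num).coprime_iff_not_dvd.2 h).symm)
    have hd : Nat.card L ∣ 2 ^ 6 * 3 ^ 2 := hco.dvd_of_dvd_mul_right (m := 2 ^ 6 * 3 ^ 2) (by simpa using hLd)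
    haveI : Group.IsSolvable L :=
      CfsgLib.SmallPerm.isSolvable_of_two_primes _ 2 3 6 2 Nat.prime_two (by norm_num) hd
    exact hL (eq_bot_iff.2 fun l hl => Subgroup.mem_bot.2
      (congrArg Subtype.val (map_eq_one_of_perfect (MonoidHom.id L) ⟨l, hl⟩)))
  obtain ⟨P7⟩ : Nonempty (Sylow 7 L) := inferInstance
  obtain ⟨gg, hgg⟩ := exists_prime_orderOf_dvd_card' (G := P7) 7 (P7.dvd_card_of_dvd_card h7)
  set g : Perm (Fin 8) := ((gg : L) : Perm (Fin 8)) with hgdef
  have hg7 : orderOf g = 7 := by rw [hgdef, Subgroup.orderOf_coe, Subgroup.orderOf_coe, hgg]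
  have hCg : Nat.card (Subgroup.centralizer ({g} : Set (Perm (Fin 8)))) = 7 := by
    obtain ⟨m, hm⟩ := cycleType_prime_order (σ := g) (by rw [hg7]; norm_num)
    rw [hg7] at hm
    have hm0 : m = 0 := by
      have := sum_cycleType_le g
      rw [hm, Multiset.sum_replicate, smul_eq_mul, Fintype.card_fin] at this
      omega
    rw [nat_card_centralizer, hm, hm0, Fintype.card_fin]
    simp
  have hCz : Subgroup.centralizer ({g} : Set (Perm (Fin 8))) = Subgroup.zpowers g :=
    (Subgroup.eq_of_le_of_card_ge (Subgroup.zpowers_le.2 (Subgroup.mem_centralizer_singleton_iff.2 rfl))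
      (by rw [Nat.card_zpowers, hg7, hCg])).symm
  have hker1 : f.ker = ⊥ := by
    rw [eq_bot_iff]
    intro l hl
    have hlc := hcen f.ker inferInstance hker hl
    rw [Subgroup.mem_bot]
    by_contra hl1
    have hlg : (l : Perm (Fin 8)) ∈ Subgroup.zpowers g := hCz ▸ Subgroup.mem_centralizer_singleton_iff.2
      (congrArg Subtype.val (Subgroup.mem_center_iff.1 hlc (gg : L))).symm
    have hgl : g ∈ Subgroup.zpowers (l : Perm (Fin 8)) := by
      have hord : orderOf (l : Perm (Fin 8)) = 7 := by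
        rcases (Nat.dvd_prime (show Nat.Prime 7 by norm_num)).1
          (hg7 ▸ orderOf_dvd_of_mem_zpowers hlg) with h | h
        · exact absurd (Subtype.ext (orderOf_eq_one_iff.1 h)) hl1
        · exact h
      rw [Subgroup.eq_of_le_of_card_ge (Subgroup.zpowers_le.2 hlg)
        (by rw [Nat.card_zpowers, Nat.card_zpowers, hord, hg7])]
      exact Subgroup.mem_zpowers g
    apply hL
    rw [eq_bot_iff]
    intro k hk
    have hcomm : ∀ a b : L, a * b = b * a := by
      intro a b
      have hab : ∀ a : L, (a : Perm (Fin 8)) ∈ Subgroup.zpowers g := by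
        intro a
        refine hCz ▸ Subgroup.mem_centralizer_singleton_iff.2 ?_
        obtain ⟨i, hi⟩ := Subgroup.mem_zpowers_iff.1 hgl
        have := congrArg Subtype.val (Subgroup.mem_center_iff.1 (zpow_mem hlc i) a)
        simp only [Subgroup.coe_mul, Subgroup.coe_zpow] at this
        rw [hi] at this
        exact this
      obtain ⟨i, hi⟩ := Subgroup.mem_zpowers_iff.1 (hab a)
      obtain ⟨j, hj⟩ := Subgroup.mem_zpowers_iff.1 (hab b)
      refine Subtype.ext ?_
      simp only [Subgroup.coe_mul, ← hi, ← hj, ← zpow_add, add_comm]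
    haveI : Group.IsSolvable L := Group.isSolvable_of_comm hcomm
    exact Subgroup.mem_bot.2 (congrArg Subtype.val (map_eq_one_of_perfect (MonoidHom.id L) ⟨k, hk⟩))
  have hLs : Nat.card L ∣ 5040 := by
    have h1 : Nat.card L = Nat.card f.range :=
      Nat.card_congr (MonoidHom.ofInjective ((MonoidHom.ker_eq_bot_iff f).1 hker1)).toEquiv
    refine (h1 ▸ Subgroup.card_subgroup_dvd_card f.range).trans ?_
    rw [Nat.card_perm, Nat.card_eq_fintype_card, Fintype.card_coe]
    exact (Nat.factorial_dvd_factorial (Finset.card_image_le.trans hT7)).trans (by decide)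
  -- Frattini
  haveI hLnX : (L.subgroupOf X).Normal := ⟨fun a ha b => hLn b b.2 a ha⟩
  let e : L.subgroupOf X ≃* L := Subgroup.subgroupOfEquivOfLe hLX
  let PP : Sylow 7 (L.subgroupOf X) := P7.comapOfKerIsPGroup e.toMonoidHom
    (IsPGroup.ker_isPGroup_of_injective e.injective) (by
      rw [MonoidHom.range_eq_top.2 (show Function.Surjective e.toMonoidHom from e.surjective)]; exact le_top)
  have hfr := Sylow.normalizer_sup_eq_top PP
  set N := Subgroup.normalizer ((PP : Subgroup (L.subgroupOf X)).map (L.subgroupOf X).subtype : Set X)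
  have hidx : (L.subgroupOf X).index ∣ Nat.card N := by
    rw [← Subgroup.relIndex_top_right, ← hfr, Subgroup.relIndex_sup_right]
    exact Subgroup.relIndex_dvd_card _ _
  have hN : Nat.card N ∣ 42 := by
    have hP7 : Nat.card P7 = 7 := by
      rw [P7.card_eq_multiplicity]
      have h1 : 1 ≤ (Nat.card L).factorization 7 :=
        (Nat.Prime.dvd_iff_one_le_factorization (by norm_num) Nat.card_pos.ne').1 h7
      have h2 : (Nat.card L).factorization 7 ≤ 1 := by
        by_contra h
        have h49 : 7 ^ 2 ∣ Nat.card L :=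
          (Nat.Prime.pow_dvd_iff_le_factorization (by norm_num) Nat.card_pos.ne').2 (by omega)
        have := h49.trans hLd
        norm_num at this
      rw [show (Nat.card L).factorization 7 = 1 by omega, pow_one]
    let ι : N →* Perm (Fin 8) := X.subtype.comp N.subtype
    have hι : Function.Injective ι := X.subtype_injective.comp N.subtype_injective
    have hmap : ∀ x : Perm (Fin 8),
        x ∈ (((PP : Subgroup (L.subgroupOf X)).map (L.subgroupOf X).subtype).map X.subtype) ↔
          x ∈ Subgroup.zpowers g := by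
      have heq : (((PP : Subgroup (L.subgroupOf X)).map (L.subgroupOf X).subtype).map X.subtype) =
          (P7 : Subgroup L).map L.subtype := by
        ext x
        simp only [Subgroup.mem_map]
        constructor
        · rintro ⟨_, ⟨a, ha, rfl⟩, rfl⟩
          exact ⟨e a, ha, rfl⟩
        · rintro ⟨a, ha, rfl⟩
          exact ⟨_, ⟨e.symm a, show e (e.symm a) ∈ (P7 : Subgroup L) by simpa using ha, rfl⟩, rfl⟩
      have hz : Subgroup.zpowers g = (P7 : Subgroup L).map L.subtype :=
        Subgroup.eq_of_le_of_card_ge (Subgroup.zpowers_le.2 ⟨gg, gg.2, rfl⟩)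
          (by rw [Subgroup.card_map_of_injective L.subtype_injective, hP7, Nat.card_zpowers, hg7])
      intro x; rw [heq, hz]
    have hnorm : ι.range ≤ Subgroup.normalizer (Subgroup.zpowers g : Set (Perm (Fin 8))) := by
      rintro _ ⟨u, rfl⟩
      rw [Subgroup.mem_normalizer_iff]
      intro x
      rw [← hmap, ← hmap]
      have hu := Subgroup.mem_normalizer_iff.1 u.2
      constructor
      · rintro ⟨y, hy, rfl⟩
        exact ⟨(u : X) * y * (u : X)⁻¹, (hu y).1 hy, rfl⟩
      · rintro ⟨y, hy, hxy⟩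
        refine ⟨(u : X)⁻¹ * y * (u : X), (hu _).2 (by
          rw [show (u : X) * ((u : X)⁻¹ * y * (u : X)) * (u : X)⁻¹ = y by group]; exact hy), ?_⟩
        simp only [Subgroup.coe_subtype] at hxy ⊢
        simp [hxy, ι, mul_assoc]
    rw [Nat.card_congr (MonoidHom.ofInjective hι).toEquiv]
    refine (Subgroup.card_dvd_of_le hnorm).trans ?_
    set Z := Subgroup.zpowers g
    let c : ↥(Subgroup.normalizer (Z : Set (Perm (Fin 8)))) →* MulAut Z := Z.normalizerMonoidHom
    have hk : Nat.card c.ker ∣ 7 := by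
      rw [Subgroup.normalizerMonoidHom_ker, ← hCg]
      exact (Subgroup.card_comap_dvd_of_injective (Subgroup.centralizer (Z : Set (Perm (Fin 8))))
        (Subgroup.normalizer (Z : Set (Perm (Fin 8)))).subtype (Subgroup.subtype_injective _)).trans
        (Subgroup.card_dvd_of_le (Subgroup.centralizer_le
          (Set.singleton_subset_iff.2 (Subgroup.mem_zpowers g))))
    rw [← c.ker.card_mul_index, Subgroup.index_ker]
    have hr : Nat.card c.range ∣ 6 := by
      refine (Subgroup.card_subgroup_dvd_card _).trans ?_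
      rw [IsCyclic.card_mulAut, Nat.card_zpowers, hg7]
      decide
    exact Nat.mul_dvd_mul hk hr
  have h32 : 32 ∣ Nat.card L := by
    have h := h64
    rw [← (L.subgroupOf X).card_mul_index, Nat.card_congr e.toEquiv] at h
    have h' : 64 ∣ Nat.card L * 42 := h.trans (Nat.mul_dvd_mul_left _ (hidx.trans hN))
    omega
  exact pow_card_two_le _ hLs h32

end CfsgLib.SymSylow
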